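import Groth.Agent.RelVA16.LocalBase
import Groth.Agent.Lib.AmpleEmbed
import Groth.Agent.ProjUPX.Affine
import Groth.Agent.ProjPt.Poly
import Groth.Agent.PnCoh.Chow.Proper

/-! Very ampleness through some projective space implies very ampleness. -/

set_option autoImplicit false
set_option backward.isDefEq.respectTransparency false
set_option backward.isDefEq.respectTransparency.types false
set_option linter.style.haveILetI false

universe u

open CategoryTheory CategoryTheory.Limits AlgebraicGeometry TopologicalSpace Opposite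

noncomputable section

namespace Groth.Agent.RelVA16

open Groth.Agent Groth.Agent.H23 Groth.Agent.AModX

theorem subsingleton_uliftInt_hom {C : Type u} [CommRing C] (f g : ULift.{u} ℤ →+* C) : f = g := by
  have := RingHom.ext_int (f.comp ULift.ringEquiv.symm.toRingHom) (g.comp ULift.ringEquiv.symm.toRingHom)
  ext ⟨x⟩
  exact DFunLike.congr_fun this x

/-- Very ampleness through `P^n_Y` is very ampleness. -/
theorem isRelVeryAmple_of_pn {X Y : Scheme.{u}} {q : X ⟶ Y} [QuasiCompact q] {L : X.Modules}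
    (hL : PicF.IsInvertible L) (h : RelAmple.IsRelVeryAmplePn q L) : RelProj.IsRelVeryAmple q L := by
  obtain ⟨n, i, hi, hsnd, ⟨e⟩⟩ := h
  let fst : CohB1.ProjSpaceOver n Y ⟶ CohB1.ProjSpace n (ULift.{u} ℤ) :=
    pullback.fst (CohB1.ProjSpace.toSpec n (ULift.{u} ℤ)) (specULiftZIsTerminal.from Y)
  let snd : CohB1.ProjSpaceOver n Y ⟶ Y :=
    pullback.snd (CohB1.ProjSpace.toSpec n (ULift.{u} ℤ)) (specULiftZIsTerminal.from Y)
  have hsnd' : i ≫ snd = q := hsnd
  haveI : IsSeparated q := by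
    have : IsSeparated (i ≫ snd) := by
      haveI := PnCoh.Chow.isProper_toSpec n (ULift.{u} ℤ)
      haveI : IsSeparated snd := MorphismProperty.pullback_snd (P := @IsSeparated) _ _ inferInstance
      infer_instance
    rwa [hsnd'] at this
  let g : X ⟶ CohB1.ProjSpace n (ULift.{u} ℤ) := i ≫ fst
  let τ : (Scheme.Modules.pullback g).obj (Twist.twistProjSpace n (ULift.{u} ℤ) 1) ≅ L :=
    ((Scheme.Modules.pullbackComp i fst).app _).symm ≪≫ e.symm
  let s : Fin (n + 1) → Γ(L, ⊤) := fun k =>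
    τ.hom.app ⊤ (ProjUP.pullSec g (Twist.twistProjSpace n (ULift.{u} ℤ) 1) (ProjUP.coord n (ULift.{u} ℤ) k))
  let V : Fin (n + 1) → (CohB1.ProjSpace n (ULift.{u} ℤ)).Opens := fun k =>
    Proj.basicOpen (CohB1.polyGrading n (ULift.{u} ℤ)) (MvPolynomial.X k)
  have hpre : ∀ k, g ⁻¹ᵁ V k = TrivBasic.locus (s k) := fun k => AmpleEmbed.preimage_chart g τ k rfl
  obtain ⟨B⟩ := PB.exists_of_isQCoh (QCoh.isQCoh_pushforward q (ProjUPX.isQCoh_of_isInvertible hL))
  let el : ∀ (U : Y.Opens), Fin (n + 1) → Γ((Scheme.Modules.pushforward q).obj L, U) :=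
    fun U k => res L (le_top : q ⁻¹ᵁ U ≤ ⊤) (s k)
  have hel : ∀ (U : Y.Opens) (k : Fin (n + 1)) (W : X.Opens) (h : W ≤ q ⁻¹ᵁ U),
      thv (𝟙 ((Scheme.Modules.pushforward q).obj L)) h (el U k) = res L (le_top : W ≤ ⊤) (s k) :=
    fun U k W h => res_res _ _ _
  have hcov : ∀ x : X, ∃ k, x ∈ TrivBasic.locus (s k) := fun x => by
    obtain ⟨k, hk⟩ := Opens.mem_iSup.1 ((AmpleEmbed.iSup_basicOpen_X n (ULift.{u} ℤ)).ge (Set.mem_univ (g x)))
    exact ⟨k, show x ∈ TrivBasic.locus (s k) from hpre k ▸ hk⟩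
  have hgen : Gen (q := q) (L := L) (𝟙 ((Scheme.Modules.pushforward q).obj L)) := fun x => by
    obtain ⟨_, ⟨U, hU, rfl⟩, hxU, -⟩ := Y.isBasis_affineOpens.exists_subset_of_mem_open
      (Set.mem_univ (q x)) isOpen_univ
    obtain ⟨k, hk⟩ := hcov x
    refine ⟨U, hU, el U k, TrivBasic.locus (s k) ⊓ q ⁻¹ᵁ U, inf_le_right, ⟨hk, hxU⟩, ?_⟩
    rw [hel]
    exact TrivBasic.isFrame_res_of_le_locus inf_le_left
  obtain ⟨r, hr⟩ := exists_isMapOf B _ hgen
  let κ := Σ' (U : Y.affineOpens), ULift.{u} (Fin (n + 1))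
  haveI : IsImmersion r := by
    refine isImmersion_of_immersion_on r (fun a : κ => B.D a.1.2 (el a.1.1 a.2.down)) (fun x => ?_) fun a => ?_
    · obtain ⟨_, ⟨U, hU, rfl⟩, hxU, -⟩ := Y.isBasis_affineOpens.exists_subset_of_mem_open
        (Set.mem_univ (q x)) isOpen_univ
      obtain ⟨k, hk⟩ := hcov x
      refine ⟨⟨⟨U, hU⟩, ⟨k⟩⟩, hr.mem _ hU (el U k) (TrivBasic.locus (s k) ⊓ q ⁻¹ᵁ U) inf_le_right ?_ ⟨hk, hxU⟩⟩
      rw [hel]
      exact TrivBasic.isFrame_res_of_le_locus inf_le_left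
    obtain ⟨⟨U, hU⟩, ⟨k⟩⟩ := a
    show IsImmersion (r ∣_ B.D hU (el U k))
    let D := B.D hU (el U k)
    let W' := r ⁻¹ᵁ D
    have hWq : W' ≤ q ⁻¹ᵁ U := fun x hx => by
      show q x ∈ U
      rw [← hr.comp, Scheme.Hom.comp_apply]
      exact B.D_le hU _ hx
    have hF : InvX.IsFrame (res L (le_top : W' ≤ ⊤) (s k)) := by
      rw [← hel U k W' hWq]
      exact hr.frame U hU _ W' hWq le_rfl
    have hWV : W' ≤ g ⁻¹ᵁ V k := (TrivBasic.le_locus hF).trans (hpre k).ge
    let v : Fin (n + 1) → Γ(B.P, D) := fun l => B.ratio hU (el U l) (el U k)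
    let f : MvPolynomial (Fin (n + 1)) (ULift.{u} ℤ) →+* Γ(B.P, D) :=
      MvPolynomial.eval₂Hom ((Int.castRingHom Γ(B.P, D)).comp ULift.ringEquiv.toRingHom) v
    have hfk : f (MvPolynomial.X k) = 1 := (MvPolynomial.eval₂Hom_X' _ _ _).trans (B.ratio_self hU _)
    have hu : IsUnit (f (MvPolynomial.X k)) := hfk ▸ isUnit_one
    haveI : IsIso (Proj.awayToSection (CohB1.polyGrading n (ULift.{u} ℤ)) (MvPolynomial.X k)) :=
      (Proj.basicOpenIsoAway (CohB1.polyGrading n (ULift.{u} ℤ)) _ (ProjPt.X_mem k) one_pos).isIso_hom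
    let α : Γ(CohB1.ProjSpace n (ULift.{u} ℤ), V k) ⟶ Γ(B.P, D) :=
      inv (Proj.awayToSection (CohB1.polyGrading n (ULift.{u} ℤ)) (MvPolynomial.X k)) ≫
        CommRingCat.ofHom (ProjPt.coordHom (CohB1.polyGrading n (ULift.{u} ℤ)) f hu)
    have key : α ≫ r.appLE D W' le_rfl = g.appLE (V k) W' hWV := by
      rw [← cancel_epi (Proj.awayToSection (CohB1.polyGrading n (ULift.{u} ℤ)) (MvPolynomial.X k)),
        ← Category.assoc, IsIso.hom_inv_id_assoc]
      refine CommRingCat.hom_ext (ProjPt.away_ext k _ _ (subsingleton_uliftInt_hom _ _) fun l => ?_)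
      show (r.appLE D W' le_rfl).hom (ProjPt.coordHom _ f hu (ProjPt.crd k l)) =
        ProjUPX.ratioOf g (ProjPt.X_mem l) (ProjPt.X_mem k) hWV
      rw [ProjPt.coordHom_crd f k hu hfk]
      refine (AmpleEmbed.ratioOf_eq g τ k l rfl rfl hWV _ ?_).symm
      rw [MvPolynomial.eval₂Hom_X']
      have := hr.coord U hU (el U l) (el U k) W' hWq le_rfl
      rwa [hel, hel] at this
    have hV : IsAffineOpen (V k) := Proj.isAffineOpen_basicOpen _ _ (ProjPt.X_mem k) one_pos
    let σ : D.toScheme ⟶ CohB1.ProjSpaceOver n Y :=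
      pullback.lift (D.toSpecΓ ≫ Spec.map α ≫ hV.fromSpec) (D.ι ≫ B.p) (specULiftZIsTerminal.hom_ext _ _)
    have h2 : r.resLE D W' le_rfl ≫ σ = W'.ι ≫ i := by
      refine pullback.hom_ext ?_ ?_
      · simp only [σ, Category.assoc, pullback.lift_fst]
        rw [← Scheme.Opens.toSpecΓ_SpecMap_appLE_assoc, ← Spec.map_comp_assoc, key]
        exact (ι_comp_eq g hV hWV).symm
      · simp only [σ, Category.assoc, pullback.lift_snd]
        rw [Scheme.Hom.resLE_comp_ι_assoc, hr.comp]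
        exact congrArg (W'.ι ≫ ·) hsnd'.symm
    rw [← Scheme.Hom.resLE_eq_morphismRestrict]
    have : IsImmersion (r.resLE D W' le_rfl ≫ σ) := by rw [h2]; infer_instance
    exact IsImmersion.of_comp _ σ
  obtain ⟨τ', -⟩ := hr.exists_iso
  exact B.isRelVeryAmple _ r hr.comp τ'.symm

end Groth.Agent.RelVA16
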