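import Groth.Agent.InvX.Frame

/-! Isomorphisms from matching frames. -/

set_option autoImplicit false
set_option backward.isDefEq.respectTransparency false
set_option backward.isDefEq.respectTransparency.types false

universe u

open CategoryTheory AlgebraicGeometry TopologicalSpace Opposite

noncomputable section

namespace Groth.Agent.RelVA16

open Groth.Agent.AModX Groth.Agent.InvX

theorem exists_iso_of_frames {X : Scheme.{u}} {M N : X.Modules} {ι : Type u} (U : ι → X.Opens)
    (hcov : ∀ x, ∃ a, x ∈ U a) (e : ∀ a, Γ(M, U a)) (he : ∀ a, IsFrame (e a))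
    (n : ∀ a, Γ(N, U a)) (hn : ∀ a, IsFrame (n a))
    (hc : ∀ (a b : ι) (W : X.Opens) (ha : W ≤ U a) (hb : W ≤ U b) (g : Γ(X, W)),
      res M hb (e b) = g • res M ha (e a) → res N hb (n b) = g • res N ha (n a)) :
    ∃ φ : M ≅ N, ∀ a, φ.hom.app (U a) (e a) = n a := by
  have hc' : ∀ (a b : ι) (W : X.Opens) (ha : W ≤ U a) (hb : W ≤ U b) (g : Γ(X, W)),
      res N hb (n b) = g • res N ha (n a) → res M hb (e b) = g • res M ha (e a) := by
    intro a b W ha hb g hg
    obtain ⟨k, hk⟩ := (he a).exists_coord ha (res M hb (e b))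
    rw [hk, (hn a).coord_unique ha ((hc a b W ha hb k hk).symm.trans hg)]
  refine ⟨⟨ofFrames hcov he hc, ofFrames hcov hn hc', ?_, ?_⟩, fun a => ofFrames_app hcov he hc a⟩
  · refine hom_ext_of_frames U hcov e he fun a => ?_
    show (ofFrames hcov hn hc').app (U a) ((ofFrames hcov he hc).app (U a) (e a)) = e a
    rw [ofFrames_app, ofFrames_app]
  · refine hom_ext_of_frames U hcov n hn fun a => ?_
    show (ofFrames hcov he hc).app (U a) ((ofFrames hcov hn hc').app (U a) (n a)) = n a
    rw [ofFrames_app, ofFrames_app]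

end Groth.Agent.RelVA16
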