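import Groth.Agent.InvX.Pullback
import Groth.Agent.OmegaLib.IdealMod
import Groth.Agent.ModPairLib.Basic
import Mathlib.Algebra.Category.ModuleCat.Sheaf.PullbackFree

/-! The map from the pullback of a module of an ideal to the inverse image ideal (after H28.BlowEmb, without its regular charts). -/

set_option autoImplicit false
set_option linter.unusedSectionVars false
set_option backward.isDefEq.respectTransparency false
set_option backward.isDefEq.respectTransparency.types false

universe u

open CategoryTheory CategoryTheory.Limits AlgebraicGeometry TopologicalSpace Opposite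

noncomputable section

namespace Groth.Agent.RelVA16.IdealLift

open Groth.Agent Groth.Agent.AModX

section Lift

variable {B M : Scheme.{u}} {G : B.Modules} 
  (u : G ⟶ Coh.structureModule B) (J : B.IdealSheafData)
  (hJ : ∀ U : B.affineOpens, J.ideal U = Ideal.span (Set.range fun x : Γ(G, U.1) => OmegaSh.fnSect B U.1 (u.app U.1 x)))
  {b : M ⟶ B}

/-- `b^* G → O_M`. -/
def pullMap (b : M ⟶ B) : (Scheme.Modules.pullback b).obj G ⟶ Coh.structureModule M :=
  (Scheme.Modules.pullback b).map u ≫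
    ((Scheme.Modules.pullbackPushforwardAdjunction b).homEquiv _ _).symm
      (SheafOfModules.unitToPushforwardObjUnit b.toRingCatSheafHom)

theorem pullMap_app (U : B.Opens) (x : Γ(G, U)) :
    (pullMap u b).app (b ⁻¹ᵁ U) (InvX.pullElt b x) =
      OmegaSh.strSect M (b ⁻¹ᵁ U) (b.app U (OmegaSh.fnSect B U (u.app U x))) := by
  have h1 : ((Scheme.Modules.pullbackPushforwardAdjunction b).homEquiv _ _) (pullMap u b) =
      u ≫ SheafOfModules.unitToPushforwardObjUnit b.toRingCatSheafHom := by
    rw [pullMap, Adjunction.homEquiv_naturality_left, Equiv.apply_symm_apply]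
  rw [Adjunction.homEquiv_unit] at h1
  exact congrArg (fun k => (Scheme.Modules.Hom.app k U) x) h1

include hJ in
theorem mem_ideal {U : B.Opens} (hU : IsAffineOpen U) (x : Γ(G, U)) :
    OmegaSh.fnSect B U (u.app U x) ∈ J.ideal ⟨U, hU⟩ := by
  rw [hJ]
  exact Ideal.subset_span ⟨x, rfl⟩

include hJ in
theorem subschemeι_app_eq_zero (b : M ⟶ B) (U : B.Opens) (x : Γ(G, U)) :
    (J.comap b).subschemeι.app (b ⁻¹ᵁ U) (b.app U (OmegaSh.fnSect B U (u.app U x))) = 0 := by
  let ι := (J.comap b).subschemeι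
  refine TopCat.Presheaf.section_ext (J.comap b).subscheme.sheaf _ _ 0 fun y hy => ?_
  obtain ⟨V, hV, hyV, hVU⟩ := exists_isAffineOpen_mem_and_subset (show b (ι y) ∈ U from hy)
  obtain ⟨W, hW, hyW, hWV⟩ := exists_isAffineOpen_mem_and_subset (show ι y ∈ b ⁻¹ᵁ V from hyV)
  have hWU : W ≤ b ⁻¹ᵁ U := hWV.trans (b.preimage_mono hVU)
  have hmem := mem_ideal u J hJ hV (res G hVU x)
  have hres : OmegaSh.fnSect B V (u.app V (res G hVU x)) = resR hVU (OmegaSh.fnSect B U (u.app U x)) := by
    rw [app_res]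
    rfl
  rw [hres] at hmem
  have h2 : b.appLE V W hWV (resR hVU (OmegaSh.fnSect B U (u.app U x))) ∈ (J.comap b).ideal ⟨W, hW⟩ := by
    rw [ModPairLib.ideal_comap J b ⟨V, hV⟩ ⟨W, hW⟩ hWV]
    exact Ideal.mem_map_of_mem _ hmem
  rw [← (J.comap b).ker_subschemeι_app, RingHom.mem_ker] at h2
  have h3 : b.appLE V W hWV (resR hVU (OmegaSh.fnSect B U (u.app U x))) =
      resR hWU (b.app U (OmegaSh.fnSect B U (u.app U x))) := by
    refine (ConcreteCategory.congr_hom (Scheme.Hom.map_appLE b hWV (homOfLE hVU).op) _).trans ?_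
    rfl
  rw [h3] at h2
  have h4 := ConcreteCategory.congr_hom (ι.naturality (homOfLE hWU).op) (b.app U (OmegaSh.fnSect B U (u.app U x)))
  have h5 : (J.comap b).subscheme.presheaf.map (homOfLE (ι.preimage_mono hWU)).op
      (ι.app (b ⁻¹ᵁ U) (b.app U (OmegaSh.fnSect B U (u.app U x)))) = 0 := h4.symm.trans h2
  refine ((TopCat.Presheaf.germ_res_apply (J.comap b).subscheme.presheaf (homOfLE (ι.preimage_mono hWU)) y hyW _).symm.trans ?_).trans (map_zero _).symm
  exact (congrArg _ h5).trans (map_zero _)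

include hJ in
theorem pullMap_toSubscheme : pullMap u b ≫ ClSub.toSubscheme (J.comap b) = 0 := by
  refine ((Scheme.Modules.pullbackPushforwardAdjunction b).homEquiv _ _).injective ?_
  rw [Adjunction.homEquiv_unit, Adjunction.homEquiv_unit, Functor.map_zero, comp_zero]
  refine Scheme.Modules.hom_ext _ _ fun U => AddCommGrpCat.hom_ext (AddMonoidHom.ext fun x => ?_)
  show (ClSub.toSubscheme (J.comap b)).app (b ⁻¹ᵁ U) ((pullMap u b).app (b ⁻¹ᵁ U) (InvX.pullElt b x)) = 0
  rw [pullMap_app, OmegaSh.toSubscheme_app_strSect]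
  exact subschemeι_app_eq_zero u J hJ b U x

/-- The lift to the exceptional ideal. -/
def lift : (Scheme.Modules.pullback b).obj G ⟶ ClSub.idealMod (J.comap b) :=
  kernel.lift _ (pullMap u b) (pullMap_toSubscheme u J hJ)

theorem lift_ι : lift u J hJ ≫ ClSub.idealModι (BlowUp.exceptional b J) = pullMap u b := kernel.lift_ι _ _ _

theorem idealSect_lift (U : B.Opens) (x : Γ(G, U)) :
    OmegaSh.idealSect (J.comap b) (b ⁻¹ᵁ U) ((lift u J hJ).app (b ⁻¹ᵁ U) (InvX.pullElt b x)) =
      b.app U (OmegaSh.fnSect B U (u.app U x)) := by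
  rw [OmegaSh.idealSect_apply]
  show OmegaSh.fnSect M _ ((lift u J hJ ≫ ClSub.idealModι (J.comap b)).app (b ⁻¹ᵁ U) (InvX.pullElt b x)) = _
  rw [show lift u J hJ ≫ ClSub.idealModι (J.comap b) = pullMap u b from lift_ι u J hJ, pullMap_app]
  rfl


end Lift

end Groth.Agent.RelVA16.IdealLift
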