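import Groth.Agent.RelVA16.Projective
import Groth.Agent.RelVA16.IdealLift
import Groth.Agent.OmegaLib.IdealMod
import Groth.Agent.BlowUpLib.Glue
import Groth.Agent.QCoh.RpushCoh
import Groth.Agent.S8914
import Groth.Agent.PnCoh.Unit

/-! Blowing up a finite type ideal is projective. -/

set_option autoImplicit false
set_option backward.isDefEq.respectTransparency false
set_option backward.isDefEq.respectTransparency.types false
set_option linter.style.haveILetI false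

universe u

open CategoryTheory CategoryTheory.Limits AlgebraicGeometry TopologicalSpace Opposite

noncomputable section

namespace Groth.Agent.RelVA16

open Groth.Agent Groth.Agent.AModX

variable {X X' : Scheme.{u}} (𝓘 : X.IdealSheafData)

theorem isQCoh_idealMod' : Coh.IsQCoh (ClSub.idealMod 𝓘) :=
  QCoh.isQCoh_kernel (PnCoh.isQCoh_structureModule X)
    (QCoh.isQCoh_pushforward 𝓘.subschemeι (PnCoh.isQCoh_structureModule _)) _

theorem isFT_idealMod (h𝓘 : BlowUp.IsFiniteTypeIdeal 𝓘) : CohB1.IsFT (ClSub.idealMod 𝓘) := by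
  refine QCoh.isFT_of_affine_finite (isQCoh_idealMod' 𝓘) fun V hV => ?_
  have hV' := h𝓘 ⟨V, hV⟩
  haveI : Module.Finite Γ(X, V) (𝓘.ideal ⟨V, hV⟩) := Module.Finite.iff_fg.2 hV'
  let e : Γ(ClSub.idealMod 𝓘, V) →ₗ[Γ(X, V)] 𝓘.ideal ⟨V, hV⟩ :=
    { toFun := fun k => ⟨OmegaSh.idealSect 𝓘 V k, OmegaLib.idealSect_mem 𝓘 ⟨V, hV⟩ k⟩
      map_add' := fun a b => Subtype.ext (map_add (OmegaSh.idealSect 𝓘 V) a b)
      map_smul' := fun r k => Subtype.ext (OmegaLib.idealSect_smul 𝓘 V r k) }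
  have he : Function.Bijective e := by
    refine ⟨fun a b h => OmegaLib.idealSect_injective 𝓘 V (congrArg Subtype.val h), fun x => ?_⟩
    obtain ⟨k, hk⟩ := OmegaLib.exists_of_mem 𝓘 ⟨V, hV⟩ x.1 x.2
    exact ⟨k, Subtype.ext hk⟩
  exact Module.Finite.equiv (LinearEquiv.ofBijective e he).symm

theorem ideal_eq_span (U : X.affineOpens) :
    𝓘.ideal U = Ideal.span (Set.range fun x : Γ(ClSub.idealMod 𝓘, U.1) =>
      OmegaSh.fnSect X U.1 ((ClSub.idealModι 𝓘).app U.1 x)) := by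
  refine le_antisymm (fun a ha => ?_) (Ideal.span_le.2 ?_)
  · obtain ⟨k, hk⟩ := OmegaLib.exists_of_mem 𝓘 U a ha
    exact Ideal.subset_span ⟨k, hk⟩
  · rintro _ ⟨k, rfl⟩
    exact OmegaLib.idealSect_mem 𝓘 U k

/-- `I → b_*(I O_{X'})`. -/
def blowTheta (b : X' ⟶ X) : ClSub.idealMod 𝓘 ⟶ (Scheme.Modules.pushforward b).obj (ClSub.idealMod (𝓘.comap b)) :=
  (Scheme.Modules.pullbackPushforwardAdjunction b).homEquiv _ _
    (IdealLift.lift (b := b) (ClSub.idealModι 𝓘) 𝓘 (ideal_eq_span 𝓘))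

theorem idealSect_thv (b : X' ⟶ X) {U : X.Opens} {W : X'.Opens} (h : W ≤ b ⁻¹ᵁ U) (a : Γ(ClSub.idealMod 𝓘, U)) :
    OmegaSh.idealSect (𝓘.comap b) W (thv (blowTheta 𝓘 b) h a) = (b.appLE U W h).hom (OmegaSh.idealSect 𝓘 U a) := by
  have h0 : (blowTheta 𝓘 b).app U a =
      (IdealLift.lift (b := b) (ClSub.idealModι 𝓘) 𝓘 (ideal_eq_span 𝓘)).app (b ⁻¹ᵁ U) (InvX.pullElt b a) := by
    rw [blowTheta, Adjunction.homEquiv_unit]
    rfl
  have h1 := IdealLift.idealSect_lift (b := b) (ClSub.idealModι 𝓘) 𝓘 (ideal_eq_span 𝓘) U a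
  rw [← h0] at h1
  have h2 := OmegaLib.idealSect_map (𝓘.comap b) h ((blowTheta 𝓘 b).app U a)
  refine h2.trans ?_
  rw [h1]
  rfl

theorem idealSect_frame_mul {K : X'.IdealSheafData} {W : X'.Opens} {e : Γ(ClSub.idealMod K, W)}
    (he : InvX.IsFrame e) {r r' : Γ(X', W)}
    (h : r * OmegaSh.idealSect K W e = r' * OmegaSh.idealSect K W e) : r = r' := by
  rw [← OmegaLib.idealSect_smul, ← OmegaLib.idealSect_smul] at h
  have := (he W le_rfl).1 (a₁ := r) (a₂ := r')
  simp only [res_self] at this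
  exact this (OmegaLib.idealSect_injective K W h)

theorem gen_blowTheta {b : X' ⟶ X} (hb : BlowUp.IsEffCartierIdeal (𝓘.comap b)) : Gen (blowTheta 𝓘 b) := fun x => by
  classical
  have hL : PicF.IsInvertible (ClSub.idealMod (𝓘.comap b)) := (S8914.result _).2 hb
  obtain ⟨_, ⟨U, hU, rfl⟩, hxU, -⟩ := X.isBasis_affineOpens.exists_subset_of_mem_open
    (Set.mem_univ (b x)) isOpen_univ
  obtain ⟨W₀, hxW₀, e₀, he₀⟩ := InvX.exists_frame hL x
  obtain ⟨W, hW, hxW, hWle⟩ := exists_isAffineOpen_mem_and_subset (show x ∈ W₀ ⊓ b ⁻¹ᵁ U from ⟨hxW₀, hxU⟩)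
  let e := res _ (hWle.trans inf_le_left) e₀
  have he : InvX.IsFrame e := he₀.res _
  have hWU : W ≤ b ⁻¹ᵁ U := hWle.trans inf_le_right
  choose c hc using fun a : Γ(ClSub.idealMod 𝓘, U) => he.exists_coord le_rfl (thv (blowTheta 𝓘 b) hWU a)
  have htop : (1 : Γ(X', W)) ∈ Ideal.span (Set.range c) := by
    have hmem := OmegaLib.idealSect_mem (𝓘.comap b) ⟨W, hW⟩ e
    rw [ModPairLib.ideal_comap 𝓘 b ⟨U, hU⟩ ⟨W, hW⟩ hWU, ideal_eq_span 𝓘 ⟨U, hU⟩, Ideal.map_span,
      ← Set.range_comp] at hmem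
    obtain ⟨l, hl⟩ := Finsupp.mem_span_range_iff_exists_finsupp.1 hmem
    have h1 : (l.sum fun a r => r * c a) * OmegaSh.idealSect (𝓘.comap b) W e =
        1 * OmegaSh.idealSect (𝓘.comap b) W e := by
      rw [one_mul]
      refine Eq.trans ?_ hl
      rw [Finsupp.sum, Finsupp.sum, Finset.sum_mul]
      refine Finset.sum_congr rfl fun a _ => ?_
      show _ = l a * (b.appLE U W hWU).hom (OmegaSh.idealSect 𝓘 U a)
      rw [← idealSect_thv, hc a, res_self, OmegaLib.idealSect_smul, mul_assoc]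
    rw [← idealSect_frame_mul he h1]
    exact Ideal.sum_mem _ fun a _ => Ideal.mul_mem_left _ _ (Ideal.subset_span ⟨a, rfl⟩)
  have hcov := hW.iSup_basicOpen_eq_self_iff.2 (Ideal.eq_top_iff_one _ |>.2 htop)
  obtain ⟨⟨_, a, rfl⟩, hxa⟩ := Opens.mem_iSup.1 (hcov.ge hxW)
  refine ⟨U, hU, a, X'.basicOpen (c a), (X'.basicOpen_le _).trans hWU, hxa, ?_⟩
  rw [← thv_res (blowTheta 𝓘 b) hWU (X'.basicOpen_le _) a, hc a, res_self, res_smul]
  exact (he.res _).isUnit_smul (RingedSpace.isUnit_res_basicOpen X'.toRingedSpace (c a))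

theorem isProjective_blowUp (h𝓘 : BlowUp.IsFiniteTypeIdeal 𝓘) {b : X' ⟶ X} (hb : BlowUp.IsBlowUp b 𝓘) :
    RelProj.IsProjective b := by
  have hproper := BlowUpLib.isProper_of_isBlowUp (C := 𝓘) hb h𝓘
  obtain ⟨B⟩ := PB.exists_of_isQCoh (isQCoh_idealMod' 𝓘)
  obtain ⟨r, hr⟩ := exists_isMapOf B (blowTheta 𝓘 b) (gen_blowTheta 𝓘 hb.1)
  have := Proj16.isSeparated B.hP
  haveI : QuasiCompact r := by
    haveI : QuasiCompact (r ≫ B.p) := by rw [hr.comp]; infer_instance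
    exact QuasiCompact.of_comp r B.p
  let g : r.image ⟶ X := r.imageι ≫ B.p
  have hg : BlowUp.IsEffCartierIdeal (𝓘.comap g) := fun z => by
    obtain ⟨_, ⟨U, hU, rfl⟩, hzU, -⟩ := X.isBasis_affineOpens.exists_subset_of_mem_open
      (Set.mem_univ (g z)) isOpen_univ
    obtain ⟨a, ha⟩ := B.exists_mem_D hU (x := r.imageι z) (by rw [← Scheme.Hom.comp_apply]; exact hzU)
    let D := B.D hU a
    let W := r ⁻¹ᵁ D
    have hV : IsAffineOpen (r.imageι ⁻¹ᵁ D) := (B.isAffineOpen_D hU a).preimage _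
    have hVU : r.imageι ⁻¹ᵁ D ≤ g ⁻¹ᵁ U := fun y hy => by
      show g y ∈ U
      rw [Scheme.Hom.comp_apply]
      exact B.D_le hU a hy
    have hWU : W ≤ b ⁻¹ᵁ U := fun y hy => by
      show b y ∈ U
      rw [← hr.comp, Scheme.Hom.comp_apply]
      exact B.D_le hU a hy
    have hWV : W ≤ r.toImage ⁻¹ᵁ (r.imageι ⁻¹ᵁ D) := by
      rw [← Scheme.Hom.comp_preimage, r.toImage_imageι]
    let T := r.toImage.appLE (r.imageι ⁻¹ᵁ D) W hWV
    have hT : Function.Injective T := by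
      intro y y' hy
      apply r.toImage_app_injective ⟨D, B.isAffineOpen_D hU a⟩
      have hle : r.toImage ⁻¹ᵁ (r.imageι ⁻¹ᵁ D) ≤ W := by rw [← Scheme.Hom.comp_preimage, r.toImage_imageι]
      have h1 := congrArg (X'.presheaf.map (homOfLE hle).op) hy
      simp only [T, ← CommRingCat.comp_apply, Scheme.Hom.appLE_map] at h1
      rwa [Scheme.Hom.app_eq_appLE]
    have hTg : ∀ (c : Γ(X, U)), T ((g.appLE U _ hVU).hom c) = (b.appLE U W hWU).hom c := fun c => by
      rw [← CommRingCat.comp_apply, Scheme.Hom.appLE_comp_appLE]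
      have h1 : r.toImage ≫ g = b := by
        show r.toImage ≫ r.imageι ≫ B.p = b
        rw [r.toImage_imageι_assoc, hr.comp]
      simp only [h1]
    let α : Γ(X, U) := OmegaSh.idealSect 𝓘 U a
    have hF : InvX.IsFrame (thv (blowTheta 𝓘 b) hWU a) := hr.frame U hU a W hWU le_rfl
    refine ⟨⟨_, hV⟩, ha, (g.appLE U _ hVU).hom α, ?_, ?_⟩
    · rw [mem_nonZeroDivisors_iff_right]
      intro y hy
      apply hT
      rw [map_zero]
      have h1 := congrArg T hy
      rw [map_mul, map_zero, hTg, ← idealSect_thv] at h1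
      exact idealSect_frame_mul hF (h1.trans (zero_mul _).symm)
    · rw [ModPairLib.ideal_comap 𝓘 g ⟨U, hU⟩ ⟨_, hV⟩ hVU, ideal_eq_span 𝓘 ⟨U, hU⟩, Ideal.map_span]
      refine le_antisymm (Ideal.span_le.2 ?_) (Ideal.span_le.2 ?_)
      · rintro _ ⟨_, ⟨a', rfl⟩, rfl⟩
        refine Ideal.mem_span_singleton'.2 ⟨(r.imageι.app D).hom (B.ratio hU a' a), ?_⟩
        apply hT
        show T _ = T ((g.appLE U _ hVU).hom (OmegaSh.idealSect 𝓘 U a'))
        rw [map_mul, hTg, hTg, ← idealSect_thv, ← idealSect_thv, hr.coord U hU a' a W hWU le_rfl,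
          OmegaLib.idealSect_smul]
        congr 1
        rw [← CommRingCat.comp_apply]
        show ((r.imageι.app D ≫ r.toImage.appLE _ W hWV).hom) _ = _
        rw [Scheme.Hom.app_eq_appLE, Scheme.Hom.appLE_comp_appLE]
        simp only [r.toImage_imageι]
        rfl
      · rintro _ rfl
        exact Ideal.subset_span ⟨_, ⟨a, rfl⟩, rfl⟩
  obtain ⟨h, hh, -⟩ := hb.2 r.image g hg
  have hid : r.toImage ≫ h = 𝟙 X' := by
    refine BlowUpLib.isBlowUp_hom_ext hb ?_ ?_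
    · rw [Category.assoc, hh, Category.id_comp]
      show r.toImage ≫ r.imageι ≫ B.p = b
      rw [r.toImage_imageι_assoc, hr.comp]
    · rw [Category.id_comp]; exact hb.1
  haveI : IsSeparated h := by
    haveI : IsSeparated (h ≫ b) := by rw [hh]; infer_instance
    exact IsSeparated.of_comp h b
  haveI : IsClosedImmersion r.toImage := by
    haveI : IsClosedImmersion (r.toImage ≫ h) := by rw [hid]; infer_instance
    exact IsClosedImmersion.of_comp r.toImage h
  haveI : IsClosedImmersion r := by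
    rw [← r.toImage_imageι]; infer_instance
  exact isProjective_of_closedImmersion_pb B (isFT_idealMod 𝓘 h𝓘) r hr.comp

end Groth.Agent.RelVA16
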