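import Groth.Agent.RelVA16.LocalBase
import Groth.Agent.ProjQX.FamilyImm
import Groth.Agent.QcqsColim.FTSub
import Mathlib.AlgebraicGeometry.Morphisms.FiniteType

/-! Submodules of finite type already defining an immersion into their projective bundle. -/

set_option autoImplicit false
set_option backward.isDefEq.respectTransparency false
set_option backward.isDefEq.respectTransparency.types false
set_option linter.style.haveILetI false

universe u

open CategoryTheory CategoryTheory.Limits AlgebraicGeometry TopologicalSpace Opposite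

noncomputable section

namespace Groth.Agent.RelVA16

open Groth.Agent Groth.Agent.AModX Groth.Agent.SymAlgX

/-- A morphism whose restriction to affine opens is surjective on functions is a closed immersion there. -/
theorem isClosedImmersion_restrict_of_surjective {X P : Scheme.{u}} (r : X ⟶ P) {D : P.Opens} (hD : IsAffineOpen D)
    {W : X.Opens} (hW : IsAffineOpen W) (e : r ⁻¹ᵁ D = W)
    (h : Function.Surjective (r.appLE D W e.ge)) : IsClosedImmersion (r ∣_ D) := by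
  subst e
  have : IsClosedImmersion (Spec.map (r.appLE D (r ⁻¹ᵁ D) le_rfl)) := IsClosedImmersion.spec_of_surjective _ h
  have key : r ∣_ D = hW.isoSpec.hom ≫ Spec.map (r.appLE D (r ⁻¹ᵁ D) le_rfl) ≫ hD.isoSpec.inv := by
    rw [← cancel_mono D.ι, morphismRestrict_ι, Category.assoc, Category.assoc, hD.isoSpec_inv_ι, hW.isoSpec_hom]
    exact ι_comp_eq r hD le_rfl
  rw [key]
  infer_instance

variable {X Y : Scheme.{u}}

theorem exists_finite_mem_closure {F : Y.Modules} (B : PB Y F) {U : Y.Opens} (hU : IsAffineOpen U) (e : Γ(F, U))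
    (c : Γ(B.P, B.D hU e)) : ∃ A : Set Γ(F, U), A.Finite ∧
      c ∈ Subring.closure (Set.range (B.base hU e) ∪ (fun a => B.ratio hU a e) '' A) := by
  obtain ⟨x, rfl⟩ := B.deh_surjective hU e c
  let Q : Set Γ(F, U) → Subring Γ(B.P, B.D hU e) := fun A =>
    Subring.closure (Set.range (B.base hU e) ∪ (fun a => B.ratio hU a e) '' A)
  have hmono : ∀ {A A' : Set Γ(F, U)}, A ⊆ A' → Q A ≤ Q A' := fun hA =>
    Subring.closure_mono (Set.union_subset_union_right _ (Set.image_mono hA))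
  have hx : x ∈ genAt B.𝒮.toQCAlg B.j U := by rw [genAt_eq_top B.hE B.hj.1 hU]; trivial
  show ∃ A : Set Γ(F, U), A.Finite ∧ B.deh hU e x ∈ Q A
  induction hx using Subring.closure_induction with
  | mem z hz =>
    rcases hz with ⟨r, rfl⟩ | ⟨a, rfl⟩
    · exact ⟨∅, Set.finite_empty, Subring.subset_closure (Or.inl ⟨r, (B.deh_str hU e r).symm⟩)⟩
    · exact ⟨{a}, Set.finite_singleton a, Subring.subset_closure (Or.inr ⟨a, rfl, (B.deh_jv hU a e).symm⟩)⟩
  | zero => exact ⟨∅, Set.finite_empty, by rw [map_zero]; exact zero_mem _⟩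
  | one => exact ⟨∅, Set.finite_empty, by rw [map_one]; exact one_mem _⟩
  | add a b _ _ ha hb =>
    obtain ⟨A, hA, ha⟩ := ha
    obtain ⟨A', hA', hb⟩ := hb
    exact ⟨A ∪ A', hA.union hA', by
      rw [map_add]; exact add_mem (hmono Set.subset_union_left ha) (hmono Set.subset_union_right hb)⟩
  | neg a _ ha =>
    obtain ⟨A, hA, ha⟩ := ha
    exact ⟨A, hA, by rw [map_neg]; exact neg_mem ha⟩
  | mul a b _ _ ha hb =>
    obtain ⟨A, hA, ha⟩ := ha
    obtain ⟨A', hA', hb⟩ := hb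
    exact ⟨A ∪ A', hA.union hA', by
      rw [map_mul]; exact mul_mem (hmono Set.subset_union_left ha) (hmono Set.subset_union_right hb)⟩

variable {q : X ⟶ Y} {L : X.Modules} {F : Y.Modules} (B : PB Y F)
  {θ : F ⟶ (Scheme.Modules.pushforward q).obj L}

theorem thv_comp {E : Y.Modules} (ι : E ⟶ F) {U : Y.Opens} {W : X.Opens} (h : W ≤ q ⁻¹ᵁ U) (a : Γ(E, U)) :
    thv (ι ≫ θ) h a = thv θ h (ι.app U a) := rfl

/-- Sub-modules containing finitely many suitable sections define an immersion near a point. -/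
theorem exists_good_nhd [LocallyOfFiniteType q] {r₀ : X ⟶ B.P} [IsImmersion r₀] (hr₀ : IsMapOf B θ r₀) (x : X) :
    ∃ (U : Y.Opens) (_ : IsAffineOpen U) (T : Set Γ(F, U)) (W' : X.Opens), T.Finite ∧ x ∈ W' ∧
      ∀ (E : Y.Modules) (ι : E ⟶ F), (∀ t ∈ T, ∃ a, ι.app U a = t) → ∀ y ∈ W',
        (∃ (e : Γ(E, U)) (W : X.Opens) (h : W ≤ q ⁻¹ᵁ U), y ∈ W ∧ InvX.IsFrame (thv (ι ≫ θ) h e)) ∧
        ∀ (BE : PB Y E) (r : X ⟶ BE.P), IsMapOf BE (ι ≫ θ) r →
          ∃ D : BE.P.Opens, r y ∈ D ∧ IsImmersion (r ∣_ D) := by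
  obtain ⟨_, ⟨U, hU, rfl⟩, hxU, -⟩ := Y.isBasis_affineOpens.exists_subset_of_mem_open
    (Set.mem_univ (q x)) isOpen_univ
  obtain ⟨s, hs⟩ := B.exists_mem_D hU (x := r₀ x) (by rw [← Scheme.Hom.comp_apply, hr₀.comp]; exact hxU)
  have hO : r₀ x ∈ r₀.coborderRange := subset_coborder ⟨x, rfl⟩
  obtain ⟨c, hc, hxc⟩ := (B.isAffineOpen_D hU s).exists_basicOpen_le (V := B.D hU s ⊓ r₀.coborderRange)
    ⟨r₀ x, hs, hO⟩ hs
  let D' := B.P.basicOpen c
  let W := r₀ ⁻¹ᵁ B.D hU s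
  let W' := r₀ ⁻¹ᵁ D'
  have hcl : IsClosedImmersion (r₀ ∣_ D') :=
    ProjQX.Family.restrict_isClosedImmersion r₀ (hc.trans inf_le_right)
  have hWU : W ≤ q ⁻¹ᵁ U := fun y hy => by
    show q y ∈ U
    rw [← hr₀.comp, Scheme.Hom.comp_apply]
    exact B.D_le hU _ hy
  have hW'W : W' ≤ W := r₀.preimage_mono (B.P.basicOpen_le c)
  have : IsAffine D'.toScheme := (B.isAffineOpen_D hU s).basicOpen c
  obtain ⟨hW'aff, hsur⟩ := IsClosedImmersion.isAffine_surjective_of_isAffine (r₀ ∣_ D')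
  let φ := r₀.appLE D' W' le_rfl
  have hφ : Function.Surjective φ := by
    intro g
    have hi := ConcreteCategory.bijective_of_isIso (X.presheaf.map (eqToHom (show
      (r₀ ⁻¹ᵁ D').ι ''ᵁ ⊤ = W' from (r₀ ⁻¹ᵁ D').ι_image_top)).op)
    obtain ⟨b, hb⟩ := hsur (show Γ((r₀ ⁻¹ᵁ D').toScheme, ⊤) from
      (X.presheaf.map (eqToHom (show (r₀ ⁻¹ᵁ D').ι ''ᵁ ⊤ = W' from (r₀ ⁻¹ᵁ D').ι_image_top)).op) g)
    refine ⟨(B.P.presheaf.map (eqToHom D'.ι_image_top.symm).op) b, hi.1 (Eq.trans ?_ hb)⟩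
    change _ = ((r₀ ∣_ D').app ⊤) b
    rw [morphismRestrict_app', ← CommRingCat.comp_apply, ← CommRingCat.comp_apply]
    simp only [φ]
    erw [Scheme.Hom.appLE_map, Scheme.Hom.map_appLE]
    rfl
  obtain ⟨G, hG⟩ := (LocallyOfFiniteType.finiteType_appLE q hU hW'aff (hW'W.trans hWU)).out
  letI := (B.P.presheaf.map (homOfLE (B.P.basicOpen_le c)).op).hom.toAlgebra
  have : IsLocalization.Away c Γ(B.P, D') := (B.isAffineOpen_D hU s).isLocalization_basicOpen c
  have hlift : ∀ g : Γ(X, W'), ∃ (n : ℕ) (b : Γ(B.P, B.D hU s)),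
      g * φ (resR (B.P.basicOpen_le c) c) ^ n = φ (resR (B.P.basicOpen_le c) b) := fun g => by
    obtain ⟨d, rfl⟩ := hφ g
    obtain ⟨n, b, hb⟩ := IsLocalization.Away.surj c d
    refine ⟨n, b, ?_⟩
    rw [← map_pow, ← map_mul]
    exact congrArg φ hb
  choose n b hb using hlift
  choose A hA hmem using exists_finite_mem_closure B hU s
  refine ⟨U, hU, insert s (A c ∪ ⋃ g ∈ G, A (b g)), W', ((hA c).union
    (G.finite_toSet.biUnion fun g _ => hA (b g))).insert s, hxc, fun E ι hι y hy => ?_⟩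
  obtain ⟨e, he⟩ := hι s (Set.mem_insert _ _)
  have hfs : InvX.IsFrame (thv θ hWU s) := hr₀.frame U hU s W hWU le_rfl
  have hfe : InvX.IsFrame (thv (ι ≫ θ) hWU e) := by rw [thv_comp ι, he]; exact hfs
  refine ⟨⟨e, W, hWU, hW'W hy, hfe⟩, fun BE r hr => ?_⟩
  have hWr : r ⁻¹ᵁ BE.D hU e = W := by
    refine le_antisymm (fun z hz => ?_) (hr.mem U hU e W hWU hfe)
    let W₁ := r ⁻¹ᵁ BE.D hU e
    have h₁ : W₁ ≤ q ⁻¹ᵁ U := fun w hw => by
      show q w ∈ U
      rw [← hr.comp, Scheme.Hom.comp_apply]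
      exact BE.D_le hU _ hw
    refine hr₀.mem U hU s W₁ h₁ ?_ hz
    have := hr.frame U hU e W₁ h₁ le_rfl
    rwa [thv_comp ι, he] at this
  let ψ := (r.appLE (BE.D hU e) W hWr.ge).hom
  let ψ₀ := (r₀.appLE (B.D hU s) W le_rfl).hom
  have hbase : ∀ r', ψ (BE.base hU e r') = (q.appLE U W hWU).hom r' := fun r' => by
    show (BE.p.appLE U _ _ ≫ r.appLE _ W hWr.ge).hom r' = _
    rw [Scheme.Hom.appLE_comp_appLE]
    have := hr.comp
    simp only [this]
  have hbase₀ : ∀ r', ψ₀ (B.base hU s r') = (q.appLE U W hWU).hom r' := fun r' => by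
    show (B.p.appLE U _ _ ≫ r₀.appLE _ W le_rfl).hom r' = _
    rw [Scheme.Hom.appLE_comp_appLE]
    have := hr₀.comp
    simp only [this]
  have hratio : ∀ a, ψ (BE.ratio hU a e) = ψ₀ (B.ratio hU (ι.app U a) s) := fun a => by
    refine hfs.coord_unique le_rfl ?_
    rw [res_self]
    have h1 := hr.coord U hU a e W hWU hWr.ge
    rw [thv_comp ι, thv_comp ι, he] at h1
    exact h1.symm.trans (hr₀.coord U hU (ι.app U a) s W hWU le_rfl)
  have hrange : ∀ cc, A cc ⊆ insert s (A c ∪ ⋃ g ∈ G, A (b g)) → ∃ c', ψ c' = ψ₀ cc := fun cc hcc => by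
    suffices h : Subring.closure (Set.range (B.base hU s) ∪ (fun a => B.ratio hU a s) '' A cc) ≤
        ψ.range.comap ψ₀ from h (hmem cc)
    rw [Subring.closure_le]
    rintro _ (⟨r', rfl⟩ | ⟨a, ha, rfl⟩)
    · exact ⟨BE.base hU e r', (hbase r').trans (hbase₀ r').symm⟩
    · obtain ⟨a', rfl⟩ := hι a (hcc ha)
      exact ⟨BE.ratio hU a' e, hratio a'⟩
  obtain ⟨c', hc'⟩ := hrange c (Set.subset_union_left.trans (Set.subset_insert _ _))
  have hD : r ⁻¹ᵁ BE.P.basicOpen c' = W' := by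
    have h1 : X.basicOpen (ψ c') = X.basicOpen (ψ₀ c) := by rw [hc']
    rw [Scheme.basicOpen_appLE, Scheme.basicOpen_appLE] at h1
    have h2 : r ⁻¹ᵁ BE.P.basicOpen c' ≤ W := (r.preimage_mono (BE.P.basicOpen_le c')).trans hWr.le
    rw [inf_eq_right.2 h2, inf_eq_right.2 hW'W] at h1
    exact h1
  refine ⟨BE.P.basicOpen c', hD.ge hy, ?_⟩
  have : IsClosedImmersion (r ∣_ BE.P.basicOpen c') := by
    refine isClosedImmersion_restrict_of_surjective r ((BE.isAffineOpen_D hU e).basicOpen c') hW'aff hD ?_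
    let φ' := r.appLE (BE.P.basicOpen c') W' hD.ge
    have hres : ∀ d, φ' (resR (BE.P.basicOpen_le c') d) = resR hW'W (ψ d) := fun d => by
      show (BE.P.presheaf.map _ ≫ r.appLE _ W' _).hom d = (r.appLE _ W _ ≫ X.presheaf.map _).hom d
      rw [Scheme.Hom.map_appLE, Scheme.Hom.appLE_map]
    have hres₀ : ∀ d, φ (resR (B.P.basicOpen_le c) d) = resR hW'W (ψ₀ d) := fun d => by
      show (B.P.presheaf.map _ ≫ r₀.appLE _ W' _).hom d = (r₀.appLE _ W _ ≫ X.presheaf.map _).hom d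
      rw [Scheme.Hom.map_appLE, Scheme.Hom.appLE_map]
    have hu : φ' (resR (BE.P.basicOpen_le c') c') = φ (resR (B.P.basicOpen_le c) c) := by
      rw [hres, hres₀, hc']
    obtain ⟨w, hw⟩ := (isUnit_resR (BE.P.basicOpen_le c') c' le_rfl).exists_right_inv
    letI := (q.appLE U W' (hW'W.trans hWU)).hom.toAlgebra
    let Al : Subalgebra Γ(Y, U) Γ(X, W') :=
      { φ'.hom.range.toSubsemiring with
        algebraMap_mem' := fun r' => ⟨resR (BE.P.basicOpen_le c') (BE.base hU e r'), by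
          show φ' _ = _
          rw [hres, hbase]
          show ((q.appLE U W _ ≫ X.presheaf.map _).hom r') = _
          rw [Scheme.Hom.appLE_map]
          rfl⟩ }
    intro g
    suffices h : (⊤ : Subalgebra Γ(Y, U) Γ(X, W')) ≤ Al from h (Algebra.mem_top : g ∈ _)
    rw [← hG, Algebra.adjoin_le_iff]
    intro g hg
    obtain ⟨b', hb'⟩ := hrange (b g) ((Set.subset_biUnion_of_mem (u := fun g => A (b g)) hg).trans
      (Set.subset_union_right.trans (Set.subset_insert _ _)))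
    refine ⟨resR (BE.P.basicOpen_le c') b' * w ^ n g, ?_⟩
    show φ' _ = g
    have h1 : φ' (resR (BE.P.basicOpen_le c') b') = g * φ' (resR (BE.P.basicOpen_le c') c') ^ n g := by
      rw [hres, hb', hu, hb g, hres₀]
    rw [map_mul, h1, map_pow, mul_assoc, ← mul_pow, ← map_mul, hw, map_one, one_pow, mul_one]
  infer_instance

/-- There is a submodule of finite type already defining an immersion. -/
theorem exists_ft_sub [LocallyOfFiniteType q] [CompactSpace X] (hF : Coh.IsQCoh F)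
    (hext : ∀ U : Y.Opens, IsAffineOpen U → QCoh.ExtStep U) {r₀ : X ⟶ B.P} [IsImmersion r₀]
    (hr₀ : IsMapOf B θ r₀) :
    ∃ N : QCoh.SubMod F, QCoh.FTOn N ⊤ ∧ Gen (N.ι ≫ θ) ∧
      ∀ (BE : PB Y N.toModules) (r : X ⟶ BE.P), IsMapOf BE (N.ι ≫ θ) r → IsImmersion r := by
  choose U hU T W' hT hxW' hgood using exists_good_nhd B hr₀
  obtain ⟨K, hK⟩ := isCompact_univ.elim_finite_subcover (fun x => (W' x : Set X)) (fun x => (W' x).2)
    fun x _ => Set.mem_iUnion.2 ⟨x, hxW' x⟩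
  have hN : ∀ K : Finset X, ∃ N : QCoh.SubMod F, QCoh.FTOn N ⊤ ∧ ∀ x ∈ K, T x ⊆ N.mem (U x) := by
    intro K
    classical
    induction K using Finset.induction_on with
    | empty =>
      refine ⟨QcqsColim.botSub F, fun y _ => ?_, fun x hx => absurd hx (Finset.notMem_empty x)⟩
      obtain ⟨V, hV, hyV, -⟩ := exists_isAffineOpen_mem_and_subset (X := Y) (x := y) (U := ⊤) trivial
      refine ⟨V, hV, hyV, le_top, ∅, Set.finite_empty, fun t ht => ht.elim, fun O hO s hs z hz => ?_⟩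
      refine ⟨O, le_rfl, hz, ?_⟩
      rw [(Submodule.mem_bot _).1 hs, QCoh.rs, map_zero]
      exact zero_mem _
    | insert x K _ ih =>
      obtain ⟨N, hN, hNK⟩ := ih
      obtain ⟨N', hN', hT'⟩ := QCoh.exists_ftOn_contains hF (hU x) (hext _ (hU x)) (T x) (hT x)
      refine ⟨QcqsColim.supSub N' N, QcqsColim.ftOn_supSub hN' hN, fun y hy => ?_⟩
      rcases Finset.mem_insert.1 hy with rfl | hy
      · exact fun t ht => QcqsColim.mem_supSub_left _ _ _ (hT' ht)
      · exact fun t ht => QcqsColim.mem_supSub_right _ _ _ (hNK y hy ht)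
  obtain ⟨N, hN, hNK⟩ := hN K
  have hlift : ∀ x ∈ K, ∀ t ∈ T x, ∃ a, N.ι.app (U x) a = t := fun x hx t ht => N.exists_app_eq (hNK x hx ht)
  refine ⟨N, hN, fun y => ?_, fun BE r hr => ?_⟩
  · obtain ⟨x, hx, hy⟩ := Set.mem_iUnion₂.1 (hK (Set.mem_univ y))
    obtain ⟨e, W, h, hyW, hf⟩ := (hgood x _ N.ι (hlift x hx) y hy).1
    exact ⟨U x, hU x, e, W, h, hyW, hf⟩
  · refine isImmersion_of_immersion_on r (fun D : {D : BE.P.Opens // IsImmersion (r ∣_ D)} => D.1) (fun y => ?_)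
      fun D => D.2
    obtain ⟨x, hx, hy⟩ := Set.mem_iUnion₂.1 (hK (Set.mem_univ y))
    obtain ⟨D, hyD, hD⟩ := (hgood x _ N.ι (hlift x hx) y hy).2 BE r hr
    exact ⟨⟨D, hD⟩, hyD⟩

/-- An immersion for a submodule gives one for the module. -/
theorem isImmersion_of_sub {E : Y.Modules} (ι : E ⟶ F) (BE : PB Y E) {rE : X ⟶ BE.P} [IsImmersion rE]
    (hrE : IsMapOf BE (ι ≫ θ) rE) {r : X ⟶ B.P} (hr : IsMapOf B θ r) : IsImmersion r := by
  refine isImmersion_of_immersion_on r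
    (fun a : Σ' U : Y.affineOpens, Γ(E, U.1) => B.D a.1.2 (ι.app a.1.1 a.2)) (fun x => ?_) fun a => ?_
  · obtain ⟨U, hU, e, W, h, hx, hf⟩ := hrE.gen (B := BE) _ x
    rw [thv_comp ι] at hf
    exact ⟨⟨⟨U, hU⟩, e⟩, hr.mem U hU _ W h hf hx⟩
  obtain ⟨⟨U, hU⟩, e⟩ := a
  show IsImmersion (r ∣_ B.D hU (ι.app U e))
  let D := B.D hU (ι.app U e)
  let W := r ⁻¹ᵁ D
  have hWU : W ≤ q ⁻¹ᵁ U := fun y hy => by
    show q y ∈ U
    rw [← hr.comp, Scheme.Hom.comp_apply]
    exact B.D_le hU _ hy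
  have hF := hr.frame U hU (ι.app U e) W hWU le_rfl
  have hWi : W ≤ rE ⁻¹ᵁ BE.D hU e := hrE.mem U hU e W hWU (by rw [thv_comp ι]; exact hF)
  obtain ⟨α, hαb, hαa⟩ := BE.exists_ringHom hU e (B.base hU (ι.app U e))
    (AddMonoidHom.mk' (fun a => B.ratio hU (ι.app U a) (ι.app U e)) fun a a' => by
      rw [map_add (ι.app U).hom a a', B.ratio_add])
    (fun c a => by
      show B.ratio hU (ι.app U (c • a)) _ = _
      rw [Scheme.Modules.Hom.app_smul, B.ratio_smul]
      rfl)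
    (B.ratio_self hU _)
  refine isImmersion_restrict_of_factor r D (𝟙 X) (fun y _ => ⟨y, rfl⟩) rE (BE.isAffineOpen_D hU e) hWi
    (CommRingCat.ofHom α) ?_
  refine CommRingCat.hom_ext (BE.ringHom_ext hU e (fun c => ?_) fun a => ?_)
  · show ((𝟙 X ≫ r).appLE D W le_rfl).hom (α _) = _
    rw [hαb]
    show (B.p.appLE U D _ ≫ (𝟙 X ≫ r).appLE D W le_rfl).hom c = (BE.p.appLE U _ _ ≫ rE.appLE _ W hWi).hom c
    rw [Scheme.Hom.appLE_comp_appLE, Scheme.Hom.appLE_comp_appLE]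
    have h1 := hr.comp
    have h2 := hrE.comp
    simp only [Category.id_comp, h1, h2]
  · show ((𝟙 X ≫ r).appLE D W le_rfl).hom (α _) = _
    rw [hαa]
    refine hF.coord_unique le_rfl ?_
    rw [res_self]
    have h1 := hr.coord U hU (ι.app U a) (ι.app U e) W hWU le_rfl
    have h2 := hrE.coord U hU a e W hWU hWi
    rw [thv_comp ι, thv_comp ι] at h2
    simp only [Category.id_comp]
    exact h1.symm.trans h2

end Groth.Agent.RelVA16
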