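import Groth.Agent.RelVA16.ThetaQ
import Groth.Agent.ProjQX.Family

/-! `r_{L,φ}` for submodules of finite type. -/

set_option autoImplicit false
set_option backward.isDefEq.respectTransparency false
set_option backward.isDefEq.respectTransparency.types false

universe u

open CategoryTheory CategoryTheory.Limits AlgebraicGeometry TopologicalSpace Opposite
open scoped HomogeneousIdeal

noncomputable section

namespace Groth.Agent.RelVA16

open Groth.Agent Groth.Agent.AModX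

variable {X Y PL : Scheme.{u}} {q : X ⟶ Y}

theorem compactSpace_of_hYs [QuasiCompact q]
    (hYs : (CompactSpace Y ∧ Y.IsSeparated) ∨ NoetherianSpace Y) : CompactSpace X := by
  have : CompactSpace Y := by
    rcases hYs with ⟨h, -⟩ | h
    · exact h
    · infer_instance
  exact QuasiCompact.compactSpace_of_compactSpace q

theorem extStep_of_hYs (hYs : (CompactSpace Y ∧ Y.IsSeparated) ∨ NoetherianSpace Y) (U : Y.Opens)
    (hU : IsAffineOpen U) : QCoh.ExtStep U := by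
  rcases hYs with ⟨h, h'⟩ | h
  · exact QCoh.extStep_qcqs hU.isCompact
  · exact QCoh.extStep_noetherian (fun x => ⟨⊤, trivial, inferInstance⟩) U

variable {L : X.Modules} (hL : PicF.IsInvertible L) (hLq : Coh.IsQCoh L)
  {𝒮L : RelProj.QCGrAlg X} {jL : L ⟶ 𝒮L.toModule} (hjL : RelProj.IsGrSymAlg L 𝒮L jL)
  {pL : PL ⟶ X}
  {chartL : ∀ (U : X.Opens) (hU : IsAffineOpen U), (((pL ⁻¹ᵁ U : PL.Opens) : Scheme.{u}) ≅ Proj (𝒮L.deg U hU))}
  (hPL : RelProj.IsRelProj 𝒮L pL chartL)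
  {F : Y.Modules} (B : PB Y F) {θ : F ⟶ (Scheme.Modules.pushforward q).obj L}

include hL hLq hjL hPL in
/-- From an immersion to a submodule of finite type with the same property. -/
theorem exists_ft_main [QuasiCompact q] [LocallyOfFiniteType q]
    (hYs : (CompactSpace Y ∧ Y.IsSeparated) ∨ NoetherianSpace Y) {r₀ : X ⟶ B.P} [IsImmersion r₀]
    (hr₀ : IsMapOf B θ r₀) :
    ∃ (E : Y.Modules) (_ : Coh.IsQCoh E) (_ : CohB1.IsFT E) (ι : E ⟶ F)
      (_ : ∀ U : Y.Opens, Function.Injective (ι.app U))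
      (𝒯' : RelProj.QCGrAlg Y) (jE : E ⟶ 𝒯'.toModule) (_ : RelProj.IsGrSymAlg E 𝒯' jE)
      (u' : RelProj.QGrHom q 𝒯' 𝒮L)
      (_ : ∀ (U : Y.Opens) (x : Γ(E, U)),
        (u'.app U).hom ((jE.app U) x) = (jL.app (q ⁻¹ᵁ U)) ((θ.app U) ((ι.app U) x))),
      (∀ x : X, ∃ (U : Y.Opens) (_ : IsAffineOpen U) (e : Γ(E, U)) (V : X.Opens) (hV : IsAffineOpen V)
          (hVU : V ≤ q ⁻¹ᵁ U), x ∈ V ∧
            ((𝒮L.deg V hV 1 : AddSubgroup (𝒮L.presheaf.obj (op V))) : Set (𝒮L.presheaf.obj (op V))) ⊆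
              (Ideal.span {(u'.appLE U V hVU).hom ((jE.app U) e)} : Set (𝒮L.presheaf.obj (op V)))) ∧
      ∀ (P' : Scheme.{u}) (p' : P' ⟶ Y)
          (chart' : ∀ (U : Y.Opens) (hU : IsAffineOpen U),
            (((p' ⁻¹ᵁ U : P'.Opens) : Scheme.{u}) ≅ Proj (𝒯'.deg U hU)))
          (_ : RelProj.IsRelProj 𝒯' p' chart')
          (r' : ((RelProj.domQ u' pL chartL : PL.Opens) : Scheme.{u}) ⟶ P')
          (_ : RelProj.IsProjQMapOn u' p' chart' pL chartL (RelProj.domQ u' pL chartL) r'),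
        RelProj.domQ u' pL chartL = ⊤ ∧ IsImmersion r' := by
  have := compactSpace_of_hYs (q := q) hYs
  obtain ⟨N, hN, hgen, himm⟩ := exists_ft_sub B B.hE (extStep_of_hYs hYs) hr₀
  have hNq := QCoh.isQCoh_of_ftOn B.hE hN
  obtain ⟨BN⟩ := PB.exists_of_isQCoh hNq
  obtain ⟨u', hu'⟩ := exists_symQ hjL hNq BN.hj (N.ι ≫ θ)
  refine ⟨N.toModules, hNq, QCoh.isFT_of_ftOn B.hE hN, N.ι, N.ι_app_injective, BN.𝒮, BN.j, BN.hj, u', hu',
    span_of_gen hLq hjL hu' hgen, fun P' p' chart' hP' r' hr' => ?_⟩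
  obtain ⟨O1, lam, hO1⟩ := RelTildeX.Exists.exists_isRelTwist BN.𝒮 p' chart' hP' 1
  let B' : PB Y N.toModules := ⟨hNq, BN.𝒮, BN.j, BN.hj, P', p', chart', hP', O1, lam, hO1⟩
  obtain ⟨r₁, hr₁⟩ := exists_isMapOf B' _ hgen
  have := himm B' r₁ hr₁
  have := ProjQX.Family.isIso_pL hL hLq hjL hPL
  refine ⟨domQ_eq_top_of_gen (B := B') hLq hjL hu' hgen, ?_⟩
  rw [eq_of_isMapOf (B := B') hLq hjL hPL hu' hr' hr₁]
  infer_instance

end Groth.Agent.RelVA16
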