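import Groth.Agent.RelVA16.ClosedImage
import Groth.Agent.RelVA16.FTMain
import Groth.Agent.ProjUPX.Affine
import Mathlib.AlgebraicGeometry.Morphisms.Immersion
import Mathlib.AlgebraicGeometry.Morphisms.Proper

/-! Projective morphisms and projective bundles of modules of finite type. -/

set_option autoImplicit false
set_option backward.isDefEq.respectTransparency false
set_option backward.isDefEq.respectTransparency.types false

universe u

open CategoryTheory CategoryTheory.Limits AlgebraicGeometry TopologicalSpace Opposite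
open scoped HomogeneousIdeal

noncomputable section

namespace Groth.Agent.RelVA16

open Groth.Agent Groth.Agent.AModX Groth.Agent.SymAlgX

variable {X Y : Scheme.{u}}

theorem PB.finiteType_p {E : Y.Modules} (B : PB Y E) (hft : CohB1.IsFT E) :
    LocallyOfFiniteType B.p ∧ QuasiCompact B.p := by
  refine Proj16.finiteType_of_finiteType B.hP fun U hU => ?_
  classical
  obtain ⟨T, hT⟩ := ((QCoh.isFT_iff B.hE).1 hft ⟨U, hU⟩).fg_top
  let R := B.𝒮.presheaf.obj (op U)
  letI : Algebra Γ(Y, U) R := (B.𝒮.str.app (op U)).hom.toAlgebra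
  let A : Subalgebra Γ(Y, U) R := Algebra.adjoin Γ(Y, U) (T.image (jv B.𝒮.toQCAlg B.j U) : Set R)
  refine ⟨⟨T.image (jv B.𝒮.toQCAlg B.j U), top_unique fun x _ => ?_⟩⟩
  have hjvA : ∀ e : Γ(E, U), jv B.𝒮.toQCAlg B.j U e ∈ A := fun e => by
    have he : e ∈ Submodule.span Γ(Y, U) (T : Set Γ(E, U)) := hT ▸ Submodule.mem_top
    induction he using Submodule.span_induction with
    | mem t ht => exact Algebra.subset_adjoin (Finset.mem_coe.2 (Finset.mem_image_of_mem _ ht))
    | zero =>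
      have h : jv B.𝒮.toQCAlg B.j U 0 = 0 := map_zero (B.j.app U).hom
      rw [h]; exact zero_mem A
    | add a b _ _ ha hb =>
      have h : jv B.𝒮.toQCAlg B.j U (a + b) = jv B.𝒮.toQCAlg B.j U a + jv B.𝒮.toQCAlg B.j U b :=
        map_add (B.j.app U).hom a b
      rw [h]; exact add_mem ha hb
    | smul c a _ ha =>
      have h : jv B.𝒮.toQCAlg B.j U (c • a) = algebraMap Γ(Y, U) R c * jv B.𝒮.toQCAlg B.j U a :=
        Scheme.Modules.Hom.app_smul B.j c a
      rw [h]; exact mul_mem (A.algebraMap_mem c) ha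
  have hx : x ∈ genAt B.𝒮.toQCAlg B.j U := by rw [genAt_eq_top B.hE B.hj.1 hU]; trivial
  refine (Subring.closure_le (t := A.toSubring)).2 ?_ hx
  rintro _ (⟨a, rfl⟩ | ⟨e, rfl⟩)
  · exact A.algebraMap_mem a
  · exact hjvA e

/-- The degree-one part as a module. -/
theorem exists_degOne_module (𝒮 : RelProj.QCGrAlg Y) (hft : 𝒮.IsFTDeg 1) :
    ∃ (M : Y.Modules) (_ : Coh.IsQCoh M) (_ : CohB1.IsFT M) (u : M ⟶ 𝒮.toModule),
      (∀ (U : Y.Opens) (hU : IsAffineOpen U) (x : Γ(M, U)), (u.app U) x ∈ 𝒮.deg U hU 1) ∧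
      ∀ (U : Y.Opens) (hU : IsAffineOpen U) (s : 𝒮.presheaf.obj (op U)), s ∈ 𝒮.deg U hU 1 →
        ∃ x : Γ(M, U), (u.app U) x = s := by
  obtain ⟨p, hp⟩ := exists_projOne 𝒮
  let N := QCoh.kerSub (𝟙 𝒮.toModule - p)
  have hG : Coh.IsQCoh 𝒮.toModule := QCoh.isQCoh_toModule 𝒮.toQCAlg
  have hmem : ∀ (O : Y.Opens) (s : Γ(𝒮.toModule, O)), s ∈ N.mem O ↔ p.app O s = s := fun O s => by
    refine Iff.trans ?_ ⟨fun h => (sub_eq_zero.1 h).symm, fun h => sub_eq_zero.2 h.symm⟩
    exact Iff.rfl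
  have hdeg : ∀ (U : Y.Opens) (hU : IsAffineOpen U) (s : Γ(𝒮.toModule, U)),
      s ∈ N.mem U ↔ (show 𝒮.presheaf.obj (op U) from s) ∈ 𝒮.deg U hU 1 := fun U hU s => by
    rw [hmem]
    constructor
    · intro h
      rw [show (show 𝒮.presheaf.obj (op U) from s) = _ from (h.symm.trans (hp U hU s))]
      exact SetLike.coe_mem _
    · intro h
      exact (hp U hU s).trans (DirectSum.decompose_of_mem_same (𝒮.deg U hU) h)
  have hN : Coh.IsQCoh N.toModules := by
    refine QCoh.isQCoh_of_sections (fun V hV f s => ?_) (fun V hV f t ht => ?_)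
    · obtain ⟨n, z, hz⟩ := QCoh.exists_pow_smul_eq_map hG hV f (N.ι.app _ s)
      obtain ⟨t, ht⟩ := N.exists_app_eq (s := p.app V z) ((hmem V _).2 (by
        show p.app V (p.app V z) = p.app V z
        rw [show p.app V (p.app V z) = _ from hp V hV (p.app V z), show p.app V z = _ from hp V hV z]
        exact DirectSum.decompose_of_mem_same (𝒮.deg V hV) (SetLike.coe_mem _)))
      refine ⟨n, t, N.ι_app_injective _ ?_⟩
      rw [QCoh.ι_app_smul, QCoh.map_app_comm, ht, ← QCoh.map_app_comm, hz, Scheme.Modules.Hom.app_smul,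
        (hmem _ _).1 (N.ι_app_mem _ s)]
    · obtain ⟨n, hn⟩ := QCoh.exists_pow_smul_eq_zero hG hV f (N.ι.app _ t) (by
        rw [← QCoh.map_app_comm, ht, map_zero])
      exact ⟨n, N.ι_app_injective _ (by rw [QCoh.ι_app_smul, hn, map_zero])⟩
  refine ⟨N.toModules, hN, ?_, N.ι, fun U hU x => (hdeg U hU _).1 (N.ι_app_mem U x), fun U hU s hs =>
    N.exists_app_eq ((hdeg U hU s).2 hs)⟩
  refine QCoh.isFT_of_finite hN (fun U : Y.affineOpens => U.1) (iSup_affineOpens_eq_top Y) (fun U => U.2)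
    fun U => ?_
  have h : (N.mem U.1).FG := by
    obtain ⟨T, hT, hgen⟩ := hft U.1 U.2
    refine ⟨T, le_antisymm (Submodule.span_le.2 fun t ht => (hdeg U.1 U.2 t).2 (hT ht)) fun s hs => ?_⟩
    obtain ⟨c, hc⟩ := hgen _ ((hdeg U.1 U.2 s).1 hs)
    change (show 𝒮.presheaf.obj (op U.1) from s) = _ at hc
    rw [show s = ∑ t ∈ T, c t • (show Γ(𝒮.toModule, U.1) from t) from hc]
    exact sum_mem fun t ht => Submodule.smul_mem _ _ (Submodule.subset_span ht)
  exact Module.Finite.iff_fg.2 h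

/-- An immersion into the bundle of a module of finite type gives a schematically dense open immersion into a `Proj`. -/
theorem exists_openImmersion_proj {q : X ⟶ Y} {E : Y.Modules} (B : PB Y E) (hft : CohB1.IsFT E)
    (i : X ⟶ B.P) [IsImmersion i] [QuasiCompact i] (hi : i ≫ B.p = q) :
    ∃ (𝒮 : RelProj.QCGrAlg Y) (P : Scheme.{u}) (p : P ⟶ Y)
      (chart : ∀ (U : Y.Opens) (hU : IsAffineOpen U), ((p ⁻¹ᵁ U : P.Opens) : Scheme.{u}) ≅ Proj (𝒮.deg U hU))
      (O1 : P.Modules)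
      (lam : ∀ (U : Y.Opens) (hU : IsAffineOpen U),
        O1 ⟶ (Scheme.Modules.pushforward (RelProj.emb p chart U hU)).obj (GrTwist.twist (𝒮.deg U hU) 1))
      (j : X ⟶ P),
      𝒮.IsGenDegOne ∧ 𝒮.IsFTDeg 1 ∧ RelProj.IsRelProj 𝒮 p chart ∧ RelProj.IsRelTwist 𝒮 p chart 1 O1 lam ∧
        IsOpenImmersion j ∧ Dense (Set.range j.base) ∧ (IsClosedImmersion i → IsIso j) ∧ j ≫ p = q ∧
        Nonempty ((Scheme.Modules.pullback i).obj B.O1 ≅ (Scheme.Modules.pullback j).obj O1) := by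
  have := B.finiteType_p hft
  have := this.2
  have := Proj16.isSeparated B.hP
  have : QuasiCompact q := by rw [← hi]; infer_instance
  have : QuasiSeparated q := by rw [← hi]; infer_instance
  let L := (Scheme.Modules.pullback i).obj B.O1
  have hO1 : PicF.IsInvertible B.O1 := RelTildeX.isInvertible_twist B.gen B.hO1
  have hL : PicF.IsInvertible L := PicClLib.isInvertible_pullback i hO1
  have hLq : Coh.IsQCoh L := ProjUPX.isQCoh_of_isInvertible hL
  let 𝒮L := H28.PBSym.grSymAlg hLq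
  have hjL := H28.PBSym.isGrSymAlg hLq
  obtain ⟨u, hu⟩ := exists_symQ (q := q) hjL B.hE B.hj (thetaOf hi (𝟙 L))
  have hr : IsMapOf B (thetaOf hi (𝟙 L)) i := isMapOf_thetaOf hi (Iso.refl L)
  obtain ⟨𝒮, P, p, chart, O1, lam, ι, hgen, hft1, hP, hO1', hι, hιp, ⟨eO⟩, hker⟩ :=
    exists_closedImage hL hLq hjL B hft hu hr
  let φ := IsClosedImmersion.lift ι i.imageι (by rw [Scheme.IdealSheafData.ker_subschemeι]; exact hker.le)
  have hφ : φ ≫ ι = i.imageι := IsClosedImmersion.lift_fac ..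
  have : IsIso φ := IsClosedImmersion.isIso_of_ker_eq i.imageι ι φ hφ
    (by rw [Scheme.IdealSheafData.ker_subschemeι]; exact hker.symm)
  let j := i.toImage ≫ φ
  have hj : j ≫ ι = i := by rw [Category.assoc, hφ, Scheme.Hom.toImage_imageι]
  refine ⟨𝒮, P, p, chart, O1, lam, j, hgen, hft1, hP, hO1', inferInstance, ?_, fun h => ?_, ?_, ⟨?_⟩⟩
  · have : IsDominant j := inferInstance
    exact this.denseRange
  · have : IsIso i.toImage := inferInstance
    infer_instance
  · rw [← hιp, ← Category.assoc, hj, hi]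
  · exact (Scheme.Modules.pullbackCongr hj.symm).app B.O1 ≪≫ ((Scheme.Modules.pullbackComp j ι).app B.O1).symm ≪≫
      (Scheme.Modules.pullback j).mapIso eO

theorem isProjective_of_closedImmersion_pb {f : X ⟶ Y} {E : Y.Modules} (B : PB Y E) (hft : CohB1.IsFT E)
    (i : X ⟶ B.P) [IsClosedImmersion i] (hi : i ≫ B.p = f) : RelProj.IsProjective f := by
  obtain ⟨𝒮, P, p, chart, O1, lam, j, hgen, hft1, hP, -, -, -, hiso, hj, -⟩ := exists_openImmersion_proj B hft i hi
  have := hiso ‹_›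
  exact ⟨𝒮, P, p, chart, asIso j, hgen, hft1, hP, hj⟩

theorem exists_closedImmersion_pb_of_isProjective {f : X ⟶ Y} (h : RelProj.IsProjective f) :
    ∃ (E : Y.Modules) (B : PB Y E) (i : X ⟶ B.P), CohB1.IsFT E ∧ IsClosedImmersion i ∧ i ≫ B.p = f := by
  obtain ⟨𝒮, P, p, chart, e, hgen, hft, hP, he⟩ := h
  obtain ⟨M, hM, hMft, u, hu1, husurj⟩ := exists_degOne_module 𝒮 hft
  obtain ⟨B⟩ := PB.exists_of_isQCoh hM
  obtain ⟨O1, lam, hO1⟩ := RelTildeX.Exists.exists_isRelTwist 𝒮 p chart hP 1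
  obtain ⟨ι, hι, hιp, -⟩ := exists_closedImmersion_pb 𝒮 hgen hP hO1 hM u hu1 husurj B
  exact ⟨M, B, e.hom ≫ ι, hMft, inferInstance, by rw [Category.assoc, hιp, he]⟩

/-- Very ample modules come from bundles of modules of finite type. -/
theorem exists_ft_pb_of_isRelVeryAmple {q : X ⟶ Y}
    (hY : (CompactSpace Y ∧ Y.IsSeparated) ∨ NoetherianSpace Y) [QuasiCompact q] [LocallyOfFiniteType q]
    {L : X.Modules} (h : RelProj.IsRelVeryAmple q L) :
    ∃ (E : Y.Modules) (B : PB Y E) (i : X ⟶ B.P), CohB1.IsFT E ∧ IsImmersion i ∧ i ≫ B.p = q ∧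
      Nonempty (L ≅ (Scheme.Modules.pullback i).obj B.O1) := by
  obtain ⟨F, B, i, hi, hq, ⟨e⟩⟩ := exists_pb_of_isRelVeryAmple h
  have := compactSpace_of_hYs (q := q) hY
  obtain ⟨N, hN, hgen, himm⟩ := exists_ft_sub B B.hE (extStep_of_hYs hY) (isMapOf_thetaOf hq e.symm)
  obtain ⟨BN⟩ := PB.exists_of_isQCoh (QCoh.isQCoh_of_ftOn B.hE hN)
  obtain ⟨r, hr⟩ := exists_isMapOf BN _ hgen
  obtain ⟨τ, -⟩ := hr.exists_iso
  exact ⟨N.toModules, BN, r, QCoh.isFT_of_ftOn B.hE hN, himm BN r hr, hr.comp, ⟨τ.symm⟩⟩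

theorem isClosedImmersion_of_isProper {f : X ⟶ Y} [IsProper f] {E : Y.Modules} (B : PB Y E) (i : X ⟶ B.P)
    [IsImmersion i] (hi : i ≫ B.p = f) : IsClosedImmersion i := by
  have := Proj16.isSeparated B.hP
  have : IsProper (i ≫ B.p) := by rw [hi]; infer_instance
  have : IsProper i := IsProper.of_comp i B.p
  exact IsClosedImmersion.of_isPreimmersion _ i.isClosedMap.isClosed_range

theorem isProjective_of_isProper {f : X ⟶ Y} [IsProper f] {L : X.Modules} (hLq : Coh.IsQCoh L)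
    (h : RelProj.IsRelVeryAmple f L) (hft : CohB1.IsFT ((Scheme.Modules.pushforward f).obj L)) :
    RelProj.IsProjective f := by
  obtain ⟨B⟩ := PB.exists_of_isQCoh (QCoh.isQCoh_pushforward f hLq)
  have hU : (⨆ _ : PUnit.{u + 1}, (⊤ : Y.Opens)) = ⊤ := iSup_const
  have hloc : ∀ _ : PUnit.{u + 1}, RelProj.IsRelVeryAmple (f ∣_ (⊤ : Y.Opens)) (L.restrict (f ⁻¹ᵁ ⊤).ι) :=
    fun _ => isRelVeryAmple_restrict h ⊤
  obtain ⟨r, hr⟩ := exists_isMapOf B _ (gen_id_of_local hU hloc)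
  have := isImmersion_of_local hU hloc B hr
  have := isClosedImmersion_of_isProper B r hr.comp
  exact isProjective_of_closedImmersion_pb B hft r hr.comp

theorem isProjective_of_isProper_of_va {f : X ⟶ Y} (hY : (CompactSpace Y ∧ Y.IsSeparated) ∨ NoetherianSpace Y)
    [IsProper f] {L : X.Modules} (h : RelProj.IsRelVeryAmple f L) : RelProj.IsProjective f := by
  obtain ⟨E, B, i, hft, hi, hif, -⟩ := exists_ft_pb_of_isRelVeryAmple hY h
  have := isClosedImmersion_of_isProper B i hif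
  exact isProjective_of_closedImmersion_pb B hft i hif

end Groth.Agent.RelVA16
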