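import Groth.Agent.RelVA16.Eventual
import Groth.Agent.RelVA16.Projective

/-! Finite type bundles over quasi-compact quasi-separated bases. -/

set_option autoImplicit false
set_option backward.isDefEq.respectTransparency false
set_option backward.isDefEq.respectTransparency.types false
set_option linter.style.haveILetI false

universe u

open CategoryTheory CategoryTheory.Limits AlgebraicGeometry TopologicalSpace Opposite

noncomputable section

namespace Groth.Agent.RelVA16

open Groth.Agent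

variable {X Y : Scheme.{u}}

theorem exists_ft_pb_of_extStep {q : X ⟶ Y} [CompactSpace X]
    (hext : ∀ U : Y.Opens, IsAffineOpen U → QCoh.ExtStep U) [LocallyOfFiniteType q]
    {L : X.Modules} (h : RelProj.IsRelVeryAmple q L) :
    ∃ (E : Y.Modules) (B : PB Y E) (i : X ⟶ B.P), CohB1.IsFT E ∧ IsImmersion i ∧ i ≫ B.p = q ∧
      Nonempty (L ≅ (Scheme.Modules.pullback i).obj B.O1) := by
  obtain ⟨F, B, i, hi, hq, ⟨e⟩⟩ := exists_pb_of_isRelVeryAmple h
  obtain ⟨N, hN, hgen, himm⟩ := exists_ft_sub B B.hE hext (isMapOf_thetaOf hq e.symm)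
  obtain ⟨BN⟩ := PB.exists_of_isQCoh (QCoh.isQCoh_of_ftOn B.hE hN)
  obtain ⟨r, hr⟩ := exists_isMapOf BN _ hgen
  obtain ⟨τ, -⟩ := hr.exists_iso
  exact ⟨N.toModules, BN, r, QCoh.isFT_of_ftOn B.hE hN, himm BN r hr, hr.comp, ⟨τ.symm⟩⟩

theorem exists_va_of_isQuasiProjective [CompactSpace Y] {f : X ⟶ Y} (hf : RelProj.IsQuasiProjective f) :
    ∃ L : X.Modules, PicF.IsInvertible L ∧ RelProj.IsRelVeryAmple f L := by
  obtain ⟨hlft, hqc, L, hL⟩ := hf
  have hLi : PicF.IsInvertible L := AmpleX.isInvertible_of_isRelAmple hL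
  obtain ⟨n₀, hn₀⟩ := eventually_isRelVeryAmple f hLi (InvX.isInvertible_structureModule (X := X)) hL
  exact ⟨_, InvX.isInvertible_tensorMod (InvX.isInvertible_tensorPow hLi n₀) InvX.isInvertible_structureModule,
    hn₀ n₀ le_rfl⟩

theorem isProjective_of_isQuasiProjective [CompactSpace Y] [QuasiSeparatedSpace Y] {f : X ⟶ Y} [IsProper f]
    (hf : RelProj.IsQuasiProjective f) : RelProj.IsProjective f := by
  obtain ⟨L, -, hva⟩ := exists_va_of_isQuasiProjective hf
  have : CompactSpace X := QuasiCompact.compactSpace_of_compactSpace f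
  obtain ⟨E, B, i, hft, hi, hif, -⟩ :=
    exists_ft_pb_of_extStep (fun U hU => QCoh.extStep_qcqs hU.isCompact) hva
  have := isClosedImmersion_of_isProper B i hif
  exact isProjective_of_closedImmersion_pb B hft i hif

theorem exists_ft_pb_of_isQuasiProjective (hY : (CompactSpace Y ∧ Y.IsSeparated) ∨ NoetherianSpace Y)
    {f : X ⟶ Y} (hf : RelProj.IsQuasiProjective f) :
    ∃ (E : Y.Modules) (B : PB Y E) (i : X ⟶ B.P), CohB1.IsFT E ∧ IsImmersion i ∧ i ≫ B.p = f := by
  have : CompactSpace Y := by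
    rcases hY with ⟨h, -⟩ | h
    · exact h
    · infer_instance
  have := hf.1
  have := hf.2.1
  obtain ⟨L, -, hva⟩ := exists_va_of_isQuasiProjective hf
  obtain ⟨E, B, i, hft, hi, hif, -⟩ := exists_ft_pb_of_isRelVeryAmple hY hva
  exact ⟨E, B, i, hft, hi, hif⟩

end Groth.Agent.RelVA16
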