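import Groth.Agent.RelVA16.QBC
import Groth.Agent.Proj16.RelMap

/-! Restriction of a graded algebra between arbitrary affine opens and the morphisms of `Proj` it induces. -/

set_option autoImplicit false
set_option backward.isDefEq.respectTransparency false
set_option backward.isDefEq.respectTransparency.types false

universe u

open CategoryTheory CategoryTheory.Limits AlgebraicGeometry TopologicalSpace Opposite
open scoped HomogeneousIdeal

noncomputable section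

namespace Groth.Agent.RelVA16

variable {Y P : Scheme.{u}} (𝒮 : RelProj.QCGrAlg Y)

theorem res_trans {U V W : Y.Opens} (hU : IsAffineOpen U) (hV : IsAffineOpen V) (hW : IsAffineOpen W)
    (i : V ≤ U) (j : W ≤ V) (x : 𝒮.presheaf.obj (op U)) :
    𝒮.res hV hW j (𝒮.res hU hV i x) = 𝒮.res hU hW (j.trans i) x :=
  ConcreteCategory.congr_hom (𝒮.presheaf.map_comp (homOfLE i).op (homOfLE j).op).symm x

theorem irr_res_pair {U U' : Y.Opens} (hU : IsAffineOpen U) (hU' : IsAffineOpen U') (hle : U' ≤ U) :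
    (𝒮.deg U' hU')₊ ≤ ((𝒮.deg U hU)₊).map (𝒮.res hU hU' hle) := by
  rw [HomogeneousIdeal.irrelevant_le]
  intro d hd b hb
  let I : Ideal (𝒮.presheaf.obj (op U')) := Ideal.map (𝒮.res hU hU' hle) ((𝒮.deg U hU)₊).toIdeal
  change b ∈ I
  let str := (𝒮.str.app (op U')).hom
  let J : Ideal Γ(Y, U') :=
    { carrier := {s | str s * b ∈ I}
      add_mem' := fun {s t} hs ht => by
        show str (s + t) * b ∈ I
        rw [map_add, add_mul]
        exact I.add_mem hs ht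
      zero_mem' := by
        show str 0 * b ∈ I
        rw [map_zero, zero_mul]
        exact I.zero_mem
      smul_mem' := fun c s hs => by
        show str (c * s) * b ∈ I
        rw [map_mul, mul_assoc]
        exact I.mul_mem_left _ hs }
  suffices hJ : J = ⊤ by
    have h1 : str 1 * b ∈ I := (hJ.ge trivial : (1 : Γ(Y, U')) ∈ J)
    rwa [map_one, one_mul] at h1
  rw [← Ideal.span_eq J, ← hU'.iSup_basicOpen_eq_self_iff]
  refine le_antisymm (iSup_le fun s => Y.basicOpen_le _) fun x hx => ?_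
  obtain ⟨D, hD, hbU, ⟨r, rfl⟩, -, hxD⟩ := ProjQX.exists_common (W := ⊤) hU hU' (hle hx) hx trivial
  letI := (𝒮.presheaf.map (homOfLE (Y.basicOpen_le r)).op).hom.toAlgebra
  let c := str r
  have hloc : IsLocalization.Away c (𝒮.presheaf.obj (op (Y.basicOpen r))) := 𝒮.isQC U' hU' r
  have hbD : 𝒮.res hU' hD (Y.basicOpen_le r) b ∈ I.map (algebraMap _ (𝒮.presheaf.obj (op (Y.basicOpen r)))) := by
    have h1 : 𝒮.res hU' hD (Y.basicOpen_le r) b ∈ Ideal.map (𝒮.res hU hD hbU.le) ((𝒮.deg U hU)₊).toIdeal :=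
      (ProjQX.irr_res 𝒮 hU hD hbU) (HomogeneousIdeal.mem_irrelevant_of_mem _ hd
        ((𝒮.res hU' hD (Y.basicOpen_le r)).map_mem hb))
    refine Ideal.map_le_iff_le_comap.mpr (fun a ha => ?_) h1
    rw [Ideal.mem_comap, ← res_trans 𝒮 hU hU' hD hle (Y.basicOpen_le r)]
    exact Ideal.mem_map_of_mem _ (Ideal.mem_map_of_mem _ ha)
  obtain ⟨⟨a, ⟨_, k, rfl⟩⟩, hk⟩ := (IsLocalization.mem_map_algebraMap_iff (Submonoid.powers c) _).mp hbD
  change algebraMap _ (𝒮.presheaf.obj (op (Y.basicOpen r))) b * algebraMap _ _ (c ^ k) = algebraMap _ _ a.1 at hk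
  rw [← map_mul] at hk
  obtain ⟨⟨_, m, rfl⟩, hm⟩ := IsLocalization.exists_of_eq (M := Submonoid.powers c) hk
  change c ^ m * (b * c ^ k) = c ^ m * a.1 at hm
  have hmem : r ^ (m + k + 1) ∈ J := by
    show str (r ^ (m + k + 1)) * b ∈ I
    rw [map_pow, pow_succ, pow_add]
    have h2 : c ^ m * (b * c ^ k) ∈ I := hm ▸ I.mul_mem_left _ a.2
    have h3 := I.mul_mem_left c h2
    convert h3 using 1
    ring
  exact Opens.mem_iSup.mpr ⟨⟨_, hmem⟩, by rw [Y.basicOpen_pow _ (Nat.succ_pos _)]; exact hxD⟩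

variable {p : P ⟶ Y}
  {chart : ∀ (U : Y.Opens) (hU : IsAffineOpen U), (((p ⁻¹ᵁ U : P.Opens) : Scheme.{u}) ≅ Proj (𝒮.deg U hU))}

theorem map_emb_pair (hP : RelProj.IsRelProj 𝒮 p chart) {U U' : Y.Opens} (hU : IsAffineOpen U)
    (hU' : IsAffineOpen U') (hle : U' ≤ U) :
    Proj.map (𝒮.res hU hU' hle) (irr_res_pair 𝒮 hU hU' hle) ≫ RelProj.emb p chart U hU =
      RelProj.emb p chart U' hU' := by
  let ι := {D : Y.affineOpens // ProjQX.IsBasic U D.1 ∧ ProjQX.IsBasic U' D.1}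
  let f : ∀ D : ι, Proj (𝒮.deg D.1.1 D.1.2) ⟶ Proj (𝒮.deg U' hU') := fun D =>
    Proj.map (𝒮.res hU' D.1.2 D.2.2.le) (ProjQX.irr_res 𝒮 hU' D.1.2 D.2.2)
  have hf : ∀ D : ι, IsOpenImmersion (f D) := fun D => by
    have : IsOpenImmersion (f D ≫ RelProj.emb p chart U' hU') := by
      rw [ProjQX.map_emb hP hU' D.1.2 D.2.2]
      infer_instance
    exact IsOpenImmersion.of_comp _ (RelProj.emb p chart U' hU')
  let 𝒱 : (Proj (𝒮.deg U' hU')).OpenCover :=
    { I₀ := ι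
      X := fun D => Proj (𝒮.deg D.1.1 D.1.2)
      f := f
      mem₀ := by
        rw [Scheme.ofArrows_mem_precoverage_iff]
        refine ⟨fun x => ?_, hf⟩
        have hx : p (RelProj.emb p chart U' hU' x) ∈ U' := (ProjQX.mem_opensRange_emb (chart := chart) hU').mp ⟨x, rfl⟩
        obtain ⟨D, hD, h1, h2, -, hxD⟩ := ProjQX.exists_common (W := ⊤) hU hU' (hle hx) hx trivial
        obtain ⟨y, hy⟩ := (ProjQX.mem_opensRange_emb (chart := chart) hD).mpr hxD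
        refine ⟨⟨⟨D, hD⟩, h1, h2⟩, y, (RelProj.emb p chart U' hU').isOpenEmbedding.injective ?_⟩
        rw [← Scheme.Hom.comp_apply, ProjQX.map_emb hP hU' hD h2]
        exact hy }
  refine Scheme.Cover.hom_ext 𝒱 _ _ fun D => ?_
  show f D ≫ _ = f D ≫ _
  rw [ProjQX.map_emb hP hU' D.1.2 D.2.2, ← ProjQX.map_emb hP hU D.1.2 D.2.1, ← Category.assoc, ← Proj.map_comp]
  congr 1
  exact Proj16.proj_map_congr (DFunLike.ext _ _ fun x => res_trans 𝒮 hU hU' D.1.2 hle D.2.2.le x) _ _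

section ofHom

variable {𝒜 ℬ : RelProj.QCGrAlg Y} {φ : 𝒜.toQCAlg ⟶ ℬ.toQCAlg} {hφ : RelProj.IsGradedHom φ}

theorem ofHom_gradedAt {U U' : Y.Opens} (hU : IsAffineOpen U) (hU' : IsAffineOpen U')
    (hle : U' ≤ (𝟙 Y : Y ⟶ Y) ⁻¹ᵁ U) (x : 𝒜.presheaf.obj (op U)) :
    (RelProj.QGrHom.ofHom φ hφ).gradedAt U hU U' hU' hle x =
      RelProj.gradedHomAt φ hφ U' hU' (𝒜.res hU hU' hle x) :=
  (ConcreteCategory.congr_hom (φ.hom.naturality (homOfLE hle).op) x).symm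

variable (hirr : ∀ (U : Y.Opens) (hU : IsAffineOpen U),
  (ℬ.deg U hU)₊ ≤ ((𝒜.deg U hU)₊).map (RelProj.gradedHomAt φ hφ U hU))

include hirr in
theorem irr_ofHom (U : Y.Opens) (hU : IsAffineOpen U) (U' : Y.Opens) (hU' : IsAffineOpen U')
    (hle : U' ≤ (𝟙 Y : Y ⟶ Y) ⁻¹ᵁ U) :
    (ℬ.deg U' hU')₊ ≤ ((𝒜.deg U hU)₊).map ((RelProj.QGrHom.ofHom φ hφ).gradedAt U hU U' hU' hle) := by
  refine le_trans (hirr U' hU') ?_
  show Ideal.map _ _ ≤ Ideal.map _ _
  refine Ideal.map_le_iff_le_comap.mpr fun a ha => ?_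
  refine Ideal.map_le_iff_le_comap.mpr (fun b hb => ?_) ((irr_res_pair 𝒜 hU hU' hle) ha)
  rw [Ideal.mem_comap, Ideal.mem_comap, ← ofHom_gradedAt hU hU' hle]
  exact Ideal.mem_map_of_mem _ hb

theorem emb_ofHom {PA PB : Scheme.{u}} {pA : PA ⟶ Y} {pB : PB ⟶ Y}
    {chartA : ∀ (U : Y.Opens) (hU : IsAffineOpen U), (((pA ⁻¹ᵁ U : PA.Opens) : Scheme.{u}) ≅ Proj (𝒜.deg U hU))}
    {chartB : ∀ (U : Y.Opens) (hU : IsAffineOpen U), (((pB ⁻¹ᵁ U : PB.Opens) : Scheme.{u}) ≅ Proj (ℬ.deg U hU))}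
    (hA : RelProj.IsRelProj 𝒜 pA chartA) {h : PB ⟶ PA}
    (hh : RelProj.IsRelProjMap φ hφ hirr chartA chartB h) (U : Y.Opens) (hU : IsAffineOpen U) (U' : Y.Opens)
    (hU' : IsAffineOpen U') (hle : U' ≤ (𝟙 Y : Y ⟶ Y) ⁻¹ᵁ U) :
    RelProj.emb pB chartB U' hU' ≫ h =
      Proj.map ((RelProj.QGrHom.ofHom φ hφ).gradedAt U hU U' hU' hle) (irr_ofHom hirr U hU U' hU' hle) ≫
        RelProj.emb pA chartA U hU := by
  have h1 : RelProj.emb pB chartB U' hU' ≫ h =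
      Proj.map (RelProj.gradedHomAt φ hφ U' hU') (hirr U' hU') ≫ RelProj.emb pA chartA U' hU' := by
    unfold RelProj.emb
    rw [Category.assoc, hh U' hU', Iso.inv_hom_id_assoc]
  rw [h1, ← map_emb_pair 𝒜 hA hU hU' hle, ← Category.assoc, ← Proj.map_comp]
  congr 1
  exact Proj16.proj_map_congr (DFunLike.ext _ _ fun x => (ofHom_gradedAt hU hU' hle x).symm) _ _

end ofHom

end Groth.Agent.RelVA16
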