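import Groth.Agent.RelVA16.IdAmple
import Groth.Agent.RelVA16.Pairs

/-! The standard affine opens of a projective bundle and their coordinates. -/

set_option autoImplicit false
set_option backward.isDefEq.respectTransparency false
set_option backward.isDefEq.respectTransparency.types false

universe u

open CategoryTheory CategoryTheory.Limits AlgebraicGeometry TopologicalSpace Opposite
open scoped HomogeneousIdeal

noncomputable section

namespace Groth.Agent.RelVA16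

open Groth.Agent Groth.Agent.AModX Groth.Agent.SymAlgX

/-- A morphism, on an open mapping into an affine open, in terms of the ring map. -/
theorem ι_comp_eq {X Z : Scheme.{u}} (r : X ⟶ Z) {W : X.Opens} {D : Z.Opens} (hD : IsAffineOpen D)
    (h : W ≤ r ⁻¹ᵁ D) : W.ι ≫ r = W.toSpecΓ ≫ Spec.map (r.appLE D W h) ≫ hD.fromSpec := by
  rw [Scheme.Opens.toSpecΓ_SpecMap_appLE_assoc, hD.toSpecΓ_fromSpec, Scheme.Hom.resLE_comp_ι]

theorem toSpecΓ_SpecMap_inj {X : Scheme.{u}} {W : X.Opens} {R : CommRingCat.{u}} (a b : R ⟶ Γ(X, W))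
    (h : W.toSpecΓ ≫ Spec.map a = W.toSpecΓ ≫ Spec.map b) : a = b := by
  have h1 := congrArg (fun m : W.toScheme ⟶ Spec R => (Scheme.ΓSpecIso R).inv ≫ m.appTop ≫ W.topIso.hom) h
  simp only [Scheme.Hom.comp_appTop, Scheme.Opens.toSpecΓ_appTop, Category.assoc, Iso.inv_hom_id, Category.comp_id,
    Scheme.ΓSpecIso_naturality_assoc, Scheme.ΓSpecIso_naturality, Iso.inv_hom_id_assoc] at h1
  exact h1

variable {Y : Scheme.{u}} {E : Y.Modules} (B : PB Y E)

/-- The fundamental map `E ⟶ p_* O(1)`. -/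
def PB.fd : E ⟶ (Scheme.Modules.pushforward B.p).obj B.O1 := Classical.choose B.exists_fund

/-- The fundamental section attached to a section of `E`. -/
def PB.fdv (U : Y.Opens) (e : Γ(E, U)) : Γ(B.O1, B.p ⁻¹ᵁ U) := B.fd.app U e

theorem PB.fdv_res {U V : Y.Opens} (i : V ≤ U) (e : Γ(E, U)) :
    res B.O1 (B.p.preimage_mono i) (B.fdv U e) = B.fdv V (res E i e) :=
  (app_res B.fd i e).symm

theorem PB.fdv_add (U : Y.Opens) (e e' : Γ(E, U)) : B.fdv U (e + e') = B.fdv U e + B.fdv U e' :=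
  map_add (B.fd.app U).hom e e'

theorem PB.fdv_smul (U : Y.Opens) (r : Γ(Y, U)) (e : Γ(E, U)) :
    B.fdv U (r • e) = (B.p.app U).hom r • B.fdv U e :=
  Scheme.Modules.Hom.app_smul B.fd r e

variable {U : Y.Opens} (hU : IsAffineOpen U)

/-- The affine open `D₊(e)` of the bundle. -/
abbrev PB.D (e : Γ(E, U)) : B.P.Opens := dO B.p B.chart hU (jv B.𝒮.toQCAlg B.j U e)

theorem PB.jv_mem1 (e : Γ(E, U)) : jv B.𝒮.toQCAlg B.j U e ∈ B.𝒮.deg U hU 1 := B.hj.2 U hU e

theorem PB.D_le (e : Γ(E, U)) : B.D hU e ≤ B.p ⁻¹ᵁ U := dO_le hU _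

theorem PB.isAffineOpen_D (e : Γ(E, U)) : IsAffineOpen (B.D hU e) :=
  (Proj.isAffineOpen_basicOpen (B.𝒮.deg U hU) _ (B.jv_mem1 hU e) one_pos).image_of_isOpenImmersion _

theorem PB.exists_mem_D {x : B.P} (hx : B.p x ∈ U) : ∃ e : Γ(E, U), x ∈ B.D hU e := by
  obtain ⟨z, hz⟩ : x ∈ (RelProj.emb B.p B.chart U hU).opensRange := by rw [RelTildeX.opensRange_emb]; exact hx
  obtain ⟨e, he⟩ := exists_jv_notMem B.hE B.hj U hU z
  exact ⟨e, hz ▸ emb_mem_dO hU he⟩

theorem PB.res_fdv_eq_sect (e : Γ(E, U)) :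
    res B.O1 (B.D_le hU e) (B.fdv U e) = sect B.hO1 hU (B.jv_mem1 hU e) :=
  fund_eq_sect B.hj B.hO1 B.fd (Classical.choose_spec B.exists_fund) hU e

theorem PB.isFrame_fdv (e : Γ(E, U)) : InvX.IsFrame (res B.O1 (B.D_le hU e) (B.fdv U e)) := by
  rw [B.res_fdv_eq_sect hU e]
  exact isFrame_sect B.hO1 hU _

/-- The coordinate `a / e` on `D₊(e)`. -/
def PB.ratio (a e : Γ(E, U)) : Γ(B.P, B.D hU e) :=
  Classical.choose ((B.isFrame_fdv hU e).exists_coord le_rfl (res B.O1 (B.D_le hU e) (B.fdv U a)))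

theorem PB.ratio_spec (a e : Γ(E, U)) :
    res B.O1 (B.D_le hU e) (B.fdv U a) = B.ratio hU a e • res B.O1 (B.D_le hU e) (B.fdv U e) := by
  have h := Classical.choose_spec ((B.isFrame_fdv hU e).exists_coord le_rfl (res B.O1 (B.D_le hU e) (B.fdv U a)))
  exact h.trans (congrArg (_ • ·) (res_self _))

theorem PB.ratio_unique {V : B.P.Opens} {e : Γ(E, U)} (hV : V ≤ B.D hU e) {a : Γ(E, U)} {c : Γ(B.P, V)}
    (h : res B.O1 (hV.trans (B.D_le hU e)) (B.fdv U a) = c • res B.O1 (hV.trans (B.D_le hU e)) (B.fdv U e)) :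
    resR hV (B.ratio hU a e) = c := by
  refine (B.isFrame_fdv hU e).coord_unique hV ?_
  have h1 := congrArg (res B.O1 hV) (B.ratio_spec hU a e)
  rw [res_res, res_smul, res_res] at h1
  rw [res_res, ← h]
  exact h1.symm

theorem PB.ratio_self (e : Γ(E, U)) : B.ratio hU e e = 1 := by
  have := B.ratio_unique hU (le_refl (B.D hU e)) (a := e) (c := 1) (one_smul _ _).symm
  rwa [resR_self] at this

theorem PB.ratio_add (a a' e : Γ(E, U)) : B.ratio hU (a + a') e = B.ratio hU a e + B.ratio hU a' e := by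
  have := B.ratio_unique hU (le_refl (B.D hU e)) (a := a + a') (c := B.ratio hU a e + B.ratio hU a' e) (by
    rw [B.fdv_add, map_add, add_smul, ← B.ratio_spec, ← B.ratio_spec])
  rwa [resR_self] at this

/-- The functions of the base on `D₊(e)`. -/
abbrev PB.base (e : Γ(E, U)) : Γ(Y, U) →+* Γ(B.P, B.D hU e) :=
  (B.p.appLE U (B.D hU e) (B.D_le hU e)).hom

theorem PB.ratio_smul (r : Γ(Y, U)) (a e : Γ(E, U)) :
    B.ratio hU (r • a) e = B.base hU e r * B.ratio hU a e := by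
  have := B.ratio_unique hU (le_refl (B.D hU e)) (a := r • a) (c := B.base hU e r * B.ratio hU a e) (by
    rw [B.fdv_smul, res_smul, mul_smul, ← B.ratio_spec]
    rfl)
  rwa [resR_self] at this

/-- The value of a function on `D₊(e)` at a point of the chart. -/
def PB.sv (e : Γ(E, U)) (y : ↥(RelProj.emb B.p B.chart U hU ⁻¹ᵁ B.D hU e)) :
    Γ(B.P, B.D hU e) →+* GrTwist.Loc (B.𝒮.deg U hU) y.1 where
  toFun c := ((((RelProj.emb B.p B.chart U hU).app (B.D hU e)).hom c).1 y).val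
  map_one' := by rw [map_one]; exact HomogeneousLocalization.val_one
  map_mul' a b := by rw [map_mul]; exact HomogeneousLocalization.val_mul _ _
  map_zero' := by rw [map_zero]; exact HomogeneousLocalization.val_zero
  map_add' a b := by rw [map_add]; exact HomogeneousLocalization.val_add _ _

theorem PB.eq_of_sv {e : Γ(E, U)} {c c' : Γ(B.P, B.D hU e)} (h : ∀ y, B.sv hU e y c = B.sv hU e y c') : c = c' := by
  have hb : Function.Bijective ((RelProj.emb B.p B.chart U hU).app (B.D hU e)) := by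
    have := Scheme.Hom.isIso_app (RelProj.emb B.p B.chart U hU) (B.D hU e)
      ((B.D_le hU e).trans (RelTildeX.opensRange_emb B.p B.chart U hU).ge)
    exact ConcreteCategory.bijective_of_isIso _
  exact hb.1 (Subtype.ext (funext fun y => HomogeneousLocalization.val_injective _ (h y)))

theorem PB.sv_ratio (a e : Γ(E, U)) (y : ↥(RelProj.emb B.p B.chart U hU ⁻¹ᵁ B.D hU e)) :
    B.sv hU e y (B.ratio hU a e) * algebraMap _ (GrTwist.Loc (B.𝒮.deg U hU) y.1) (jv B.𝒮.toQCAlg B.j U e) =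
      algebraMap _ _ (jv B.𝒮.toQCAlg B.j U a) := by
  have h := congrArg (fun s => GrTwist.val (V := RelProj.emb B.p B.chart U hU ⁻¹ᵁ B.D hU e)
    ((B.lam U hU).app (B.D hU e) s) y) (B.ratio_spec hU a e)
  have hv : ∀ b : Γ(E, U), GrTwist.val (V := RelProj.emb B.p B.chart U hU ⁻¹ᵁ B.D hU e)
      ((B.lam U hU).app (B.D hU e) (res B.O1 (B.D_le hU e) (B.fdv U b))) y =
      algebraMap _ _ (jv B.𝒮.toQCAlg B.j U b) := fun b => by
    rw [app_res]
    exact (Classical.choose_spec B.exists_fund) U hU b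
      ⟨y.1, (RelProj.emb B.p B.chart U hU).preimage_mono (B.D_le hU e) y.2⟩
  simp only [val_smul (lam := B.lam) hU] at h
  rw [hv, hv] at h
  exact h.symm

theorem PB.sv_base (e : Γ(E, U)) (r : Γ(Y, U)) (y : ↥(RelProj.emb B.p B.chart U hU ⁻¹ᵁ B.D hU e)) :
    B.sv hU e y (B.base hU e r) = algebraMap _ _ ((B.𝒮.str.app (op U)).hom r) := by
  have h := H28.PBHom.val_base B.hP B.gen hU r
    ⟨y.1, (RelProj.emb B.p B.chart U hU).preimage_mono (B.D_le hU e) y.2⟩
  rw [← Localization.mk_one_eq_algebraMap]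
  refine Eq.trans ?_ h
  have e1 : ((RelProj.emb B.p B.chart U hU).app (B.D hU e)).hom (B.base hU e r) =
      ((Proj (B.𝒮.deg U hU)).presheaf.map (homOfLE ((RelProj.emb B.p B.chart U hU).preimage_mono (B.D_le hU e))).op).hom
        (((RelProj.emb B.p B.chart U hU).app (B.p ⁻¹ᵁ U)).hom ((B.p.app U).hom r)) :=
    ConcreteCategory.congr_hom ((RelProj.emb B.p B.chart U hU).naturality (homOfLE (B.D_le hU e)).op) _
  show ((((RelProj.emb B.p B.chart U hU).app (B.D hU e)).hom (B.base hU e r)).1 y).val = _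
  rw [e1]
  rfl

/-- Dehomogenisation. -/
def PB.deh (e : Γ(E, U)) : B.𝒮.presheaf.obj (op U) →+* Γ(B.P, B.D hU e) :=
  (liftHom (E := E) (B.base hU e) (AddMonoidHom.mk' (fun a => B.ratio hU a e) fun a a' => B.ratio_add hU a a' e)
    fun r a => B.ratio_smul hU r a e).comp
    (RingEquiv.ofBijective _ (liftAt_bijective B.hE B.𝒮.toQCAlg B.hj.1 hU)).symm.toRingHom

theorem PB.deh_str (e : Γ(E, U)) (r : Γ(Y, U)) :
    B.deh hU e ((B.𝒮.str.app (op U)).hom r) = B.base hU e r := by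
  let k := RingEquiv.ofBijective _ (liftAt_bijective B.hE B.𝒮.toQCAlg B.hj.1 hU)
  have hk : k.symm.toRingHom ((B.𝒮.str.app (op U)).hom r) = algebraMap Γ(Y, U) (SymAt E U) r :=
    k.symm_apply_eq.2 (liftAt_algebraMap B.𝒮.toQCAlg B.j U r).symm
  rw [PB.deh, RingHom.comp_apply, hk, liftHom_algebraMap]

theorem PB.deh_jv (a e : Γ(E, U)) : B.deh hU e (jv B.𝒮.toQCAlg B.j U a) = B.ratio hU a e := by
  let k := RingEquiv.ofBijective _ (liftAt_bijective B.hE B.𝒮.toQCAlg B.hj.1 hU)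
  have hk : k.symm.toRingHom (jv B.𝒮.toQCAlg B.j U a) = SymmetricAlgebra.ι _ _ a :=
    k.symm_apply_eq.2 (liftAt_ι B.𝒮.toQCAlg B.j U a).symm
  rw [PB.deh, RingHom.comp_apply, hk, liftHom_ι]
  rfl

theorem PB.sv_deh (e : Γ(E, U)) (y : ↥(RelProj.emb B.p B.chart U hU ⁻¹ᵁ B.D hU e)) {b : B.𝒮.presheaf.obj (op U)}
    {n : ℕ} (hb : b ∈ B.𝒮.deg U hU n) :
    B.sv hU e y (B.deh hU e b) * algebraMap _ (GrTwist.Loc (B.𝒮.deg U hU) y.1) (jv B.𝒮.toQCAlg B.j U e) ^ n =
      algebraMap _ _ b := by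
  set f := algebraMap _ (GrTwist.Loc (B.𝒮.deg U hU) y.1) (jv B.𝒮.toQCAlg B.j U e)
  suffices key : ∀ (x : B.𝒮.presheaf.obj (op U)) (n : ℕ),
      B.sv hU e y (B.deh hU e (DirectSum.decompose (B.𝒮.deg U hU) x n : B.𝒮.presheaf.obj (op U))) * f ^ n =
        algebraMap _ _ (DirectSum.decompose (B.𝒮.deg U hU) x n : B.𝒮.presheaf.obj (op U)) by
    have h := key b n
    rwa [DirectSum.decompose_of_mem_same _ hb] at h
  intro x
  let G := Set.range (B.𝒮.str.app (op U)).hom ∪ Set.range (jv B.𝒮.toQCAlg B.j U)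
  have mono : ∀ m ∈ Submonoid.closure G, ∃ d, m ∈ B.𝒮.deg U hU d ∧
      B.sv hU e y (B.deh hU e m) * f ^ d = algebraMap _ _ m := by
    intro m hm
    induction hm using Submonoid.closure_induction with
    | mem z hz =>
      rcases hz with ⟨r, rfl⟩ | ⟨a, rfl⟩
      · exact ⟨0, B.𝒮.str_mem U hU r, by rw [pow_zero, mul_one, B.deh_str hU, B.sv_base hU]⟩
      · exact ⟨1, B.jv_mem1 hU a, by rw [pow_one, B.deh_jv hU]; exact B.sv_ratio hU a e y⟩
    | one => exact ⟨0, SetLike.one_mem_graded _, by rw [pow_zero, mul_one, map_one, map_one, map_one]⟩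
    | mul a b _ _ ha hb =>
      obtain ⟨i, hi, ha⟩ := ha
      obtain ⟨k, hk, hb⟩ := hb
      exact ⟨i + k, SetLike.mul_mem_graded hi hk, by rw [map_mul, map_mul, map_mul, pow_add, mul_mul_mul_comm, ha, hb]⟩
  have hx : x ∈ AddSubgroup.closure (Submonoid.closure G : Set (B.𝒮.presheaf.obj (op U))) := by
    rw [← Subring.mem_closure_iff]
    exact (genAt_eq_top B.hE B.hj.1 hU).ge trivial
  induction hx using AddSubgroup.closure_induction with
  | mem z hz =>
    obtain ⟨d, hd, h⟩ := mono z hz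
    intro n
    by_cases hdn : d = n
    · subst hdn
      rwa [DirectSum.decompose_of_mem_same _ hd]
    · rw [DirectSum.decompose_of_mem_ne _ hd hdn, map_zero, map_zero, map_zero, zero_mul]
  | zero => intro n; simp
  | add a b _ _ ha hb =>
    intro n
    rw [DirectSum.decompose_add, DirectSum.add_apply, AddSubgroup.coe_add, map_add, map_add, map_add, add_mul,
      ha n, hb n]
  | neg a _ ha =>
    intro n
    rw [DirectSum.decompose_neg, DFinsupp.neg_apply, AddSubgroup.coe_neg, map_neg, map_neg, map_neg, neg_mul, ha n]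

/-- Degree-zero fractions as functions on `D₊(e)`. -/
def PB.aw (e : Γ(E, U)) :
    HomogeneousLocalization.Away (B.𝒮.deg U hU) (jv B.𝒮.toQCAlg B.j U e) →+* Γ(B.P, B.D hU e) :=
  ((RelProj.emb B.p B.chart U hU).appIso (Proj.basicOpen (B.𝒮.deg U hU) (jv B.𝒮.toQCAlg B.j U e))).inv.hom.comp
    (Proj.awayToSection (B.𝒮.deg U hU) (jv B.𝒮.toQCAlg B.j U e)).hom

theorem PB.aw_bijective (e : Γ(E, U)) : Function.Bijective (B.aw hU e) := by
  have : IsIso (Proj.awayToSection (B.𝒮.deg U hU) (jv B.𝒮.toQCAlg B.j U e)) :=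
    (Proj.basicOpenIsoAway (B.𝒮.deg U hU) _ (B.jv_mem1 hU e) one_pos).isIso_hom
  exact ((ConcreteCategory.isIso_iff_bijective _).1
    ((RelProj.emb B.p B.chart U hU).appIso
      (Proj.basicOpen (B.𝒮.deg U hU) (jv B.𝒮.toQCAlg B.j U e))).isIso_inv).comp
    ((ConcreteCategory.isIso_iff_bijective _).1 this)

theorem PB.sv_aw (e : Γ(E, U)) (y : ↥(RelProj.emb B.p B.chart U hU ⁻¹ᵁ B.D hU e))
    (z : HomogeneousLocalization.Away (B.𝒮.deg U hU) (jv B.𝒮.toQCAlg B.j U e)) :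
    B.sv hU e y (B.aw hU e z) =
      IsLocalization.map (M := Submonoid.powers (jv B.𝒮.toQCAlg B.j U e))
        (T := y.1.asHomogeneousIdeal.toIdeal.primeCompl) _ (RingHom.id _)
        (Submonoid.powers_le.mpr (notMem_of_mem hU le_rfl y.1 y.2)) z.val := by
  let D := Proj.basicOpen (B.𝒮.deg U hU) (jv B.𝒮.toQCAlg B.j U e)
  have e1 : (RelProj.emb B.p B.chart U hU).appLE (B.D hU e) D (preimage_dO hU _).ge (B.aw hU e z) =
      (Proj.awayToSection (B.𝒮.deg U hU) (jv B.𝒮.toQCAlg B.j U e)).hom z := by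
    show (RelProj.emb B.p B.chart U hU).appLE _ _ _ (((RelProj.emb B.p B.chart U hU).appIso _).inv _) = _
    rw [← CommRingCat.comp_apply]
    erw [Scheme.Hom.appIso_inv_appLE]
    exact ConcreteCategory.congr_hom ((Proj (B.𝒮.deg U hU)).presheaf.map_id _) _
  refine Eq.trans ?_ (ProjectiveSpectrum.Proj.awayToSection_apply (B.𝒮.deg U hU) (jv B.𝒮.toQCAlg B.j U e) z
    ⟨y.1, notMem_of_mem hU le_rfl y.1 y.2⟩)
  exact Eq.trans rfl (congrArg (fun s : Γ(Proj (B.𝒮.deg U hU), D) =>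
    (s.1 ⟨y.1, notMem_of_mem hU le_rfl y.1 y.2⟩).val) e1)

theorem PB.sv_aw_mk (e : Γ(E, U)) (y : ↥(RelProj.emb B.p B.chart U hU ⁻¹ᵁ B.D hU e)) (k : ℕ)
    (b : B.𝒮.presheaf.obj (op U)) (hb : b ∈ B.𝒮.deg U hU (k • 1)) :
    B.sv hU e y (B.aw hU e (HomogeneousLocalization.Away.mk _ (B.jv_mem1 hU e) k b hb)) *
      algebraMap _ (GrTwist.Loc (B.𝒮.deg U hU) y.1) (jv B.𝒮.toQCAlg B.j U e) ^ k = algebraMap _ _ b := by
  rw [B.sv_aw, HomogeneousLocalization.Away.val_mk, Localization.mk_eq_mk', IsLocalization.map_mk', ← map_pow]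
  exact IsLocalization.mk'_spec _ _ ⟨_, _⟩

theorem PB.isUnit_alg_jv (e : Γ(E, U)) (y : ↥(RelProj.emb B.p B.chart U hU ⁻¹ᵁ B.D hU e)) :
    IsUnit (algebraMap _ (GrTwist.Loc (B.𝒮.deg U hU) y.1) (jv B.𝒮.toQCAlg B.j U e)) :=
  IsLocalization.map_units (M := y.1.asHomogeneousIdeal.toIdeal.primeCompl) _
    ⟨_, notMem_of_mem hU le_rfl y.1 y.2⟩

theorem PB.aw_mk (e : Γ(E, U)) (k : ℕ) (b : B.𝒮.presheaf.obj (op U)) (hb : b ∈ B.𝒮.deg U hU (k • 1)) :
    B.aw hU e (HomogeneousLocalization.Away.mk _ (B.jv_mem1 hU e) k b hb) = B.deh hU e b := by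
  refine B.eq_of_sv hU fun y => ?_
  refine ((B.isUnit_alg_jv hU e y).pow k).mul_left_injective ?_
  show _ * _ ^ k = _ * _ ^ k
  rw [B.sv_aw_mk hU e y k b hb, B.sv_deh hU e y (n := k) (by simpa using hb)]

theorem PB.deh_surjective (e : Γ(E, U)) : Function.Surjective (B.deh hU e) := by
  intro c
  obtain ⟨z, rfl⟩ := (B.aw_bijective hU e).2 c
  obtain ⟨k, b, hb, rfl⟩ := HomogeneousLocalization.Away.mk_surjective (B.𝒮.deg U hU) (B.jv_mem1 hU e) z
  exact ⟨b, (B.aw_mk hU e k b hb).symm⟩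

/-- Two ring maps out of the functions on `D₊(e)` agree if they agree on the base and on the coordinates. -/
theorem PB.ringHom_ext {R : Type u} [CommRing R] (e : Γ(E, U)) {α β : Γ(B.P, B.D hU e) →+* R}
    (h₁ : ∀ r, α (B.base hU e r) = β (B.base hU e r))
    (h₂ : ∀ a, α (B.ratio hU a e) = β (B.ratio hU a e)) : α = β := by
  refine RingHom.ext fun c => ?_
  obtain ⟨x, rfl⟩ := B.deh_surjective hU e c
  have hx : x ∈ genAt B.𝒮.toQCAlg B.j U := by rw [genAt_eq_top B.hE B.hj.1 hU]; trivial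
  induction hx using Subring.closure_induction with
  | mem z hz =>
    rcases hz with ⟨r, rfl⟩ | ⟨a, rfl⟩
    · rw [B.deh_str hU, h₁]
    · rw [B.deh_jv hU, h₂]
  | zero => simp
  | one => simp
  | add _ _ _ _ hx hy => simp only [map_add, hx, hy]
  | neg _ _ hx => simp only [map_neg, hx]
  | mul _ _ _ _ hx hy => simp only [map_mul, hx, hy]

/-- Ring maps out of the functions on `D₊(e)` from base and coordinates. -/
theorem PB.exists_ringHom {R : Type u} [CommRing R] (e : Γ(E, U)) (g : Γ(Y, U) →+* R) (v : Γ(E, U) →+ R)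
    (hv : ∀ (r : Γ(Y, U)) (a : Γ(E, U)), v (r • a) = g r * v a) (he : v e = 1) :
    ∃ ρ : Γ(B.P, B.D hU e) →+* R, (∀ r, ρ (B.base hU e r) = g r) ∧ ∀ a, ρ (B.ratio hU a e) = v a := by
  let k := RingEquiv.ofBijective _ (liftAt_bijective B.hE B.𝒮.toQCAlg B.hj.1 hU)
  let Φ : B.𝒮.presheaf.obj (op U) →+* R := (liftHom (E := E) g v hv).comp k.symm.toRingHom
  have hΦr : ∀ r, Φ ((B.𝒮.str.app (op U)).hom r) = g r := fun r => by
    show liftHom g v hv (k.symm _) = _
    rw [show k.symm ((B.𝒮.str.app (op U)).hom r) = algebraMap Γ(Y, U) (SymAt E U) r from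
      k.symm_apply_eq.2 (liftAt_algebraMap B.𝒮.toQCAlg B.j U r).symm, liftHom_algebraMap]
  have hΦa : ∀ a, Φ (jv B.𝒮.toQCAlg B.j U a) = v a := fun a => by
    show liftHom g v hv (k.symm _) = _
    rw [show k.symm (jv B.𝒮.toQCAlg B.j U a) = SymmetricAlgebra.ι _ _ a from
      k.symm_apply_eq.2 (liftAt_ι B.𝒮.toQCAlg B.j U a).symm, liftHom_ι]
  let f := jv B.𝒮.toQCAlg B.j U e
  have hf : IsUnit (Φ f) := by rw [hΦa, he]; exact isUnit_one
  let ι : Localization.Away f →+* R := IsLocalization.Away.lift f hf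
  let ev : HomogeneousLocalization.Away (B.𝒮.deg U hU) f →+* R :=
    ι.comp (algebraMap (HomogeneousLocalization.Away (B.𝒮.deg U hU) f) (Localization.Away f))
  let eqv := RingEquiv.ofBijective _ (B.aw_bijective hU e)
  have key : ∀ (k : ℕ) (b : B.𝒮.presheaf.obj (op U)) (hb : b ∈ B.𝒮.deg U hU (k • 1)),
      ev (eqv.symm (B.deh hU e b)) = Φ b := by
    intro k b hb
    rw [show eqv.symm (B.deh hU e b) = HomogeneousLocalization.Away.mk _ (B.jv_mem1 hU e) k b hb from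
      eqv.symm_apply_eq.2 (B.aw_mk hU e k b hb).symm]
    show ι (HomogeneousLocalization.val (HomogeneousLocalization.Away.mk (B.𝒮.deg U hU) (B.jv_mem1 hU e) k b hb)) = _
    rw [HomogeneousLocalization.Away.val_mk, Localization.mk_eq_mk']
    have h1 := congrArg ι (IsLocalization.mk'_spec (Localization.Away f) b (⟨f ^ k, k, rfl⟩ : Submonoid.powers f))
    rw [map_mul] at h1
    have h2 : ι (algebraMap _ (Localization.Away f) (f ^ k)) = 1 := by
      rw [IsLocalization.Away.lift_eq, map_pow, hΦa, he, one_pow]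
    rw [IsLocalization.Away.lift_eq f hf b, h2, mul_one] at h1
    exact h1
  refine ⟨ev.comp eqv.symm.toRingHom, fun r => ?_, fun a => ?_⟩
  · show ev (eqv.symm _) = _
    rw [← B.deh_str hU e r, key 0 _ (by simpa using B.𝒮.str_mem U hU r), hΦr]
  · show ev (eqv.symm _) = _
    rw [← B.deh_jv hU a e, key 1 _ (by simpa using B.jv_mem1 hU a), hΦa]

/-- On `D₊(e)` the open `D₊(e')` is where `e'/e` is invertible. -/
theorem PB.basicOpen_ratio (e e' : Γ(E, U)) : B.P.basicOpen (B.ratio hU e' e) = B.D hU e ⊓ B.D hU e' := by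
  refine le_antisymm (fun x hx => ?_) fun x hx => ?_
  · have hxD : x ∈ B.D hU e := B.P.basicOpen_le _ hx
    refine ⟨hxD, ?_⟩
    obtain ⟨z, hz, rfl⟩ := hxD
    refine emb_mem_dO hU fun hz' => ?_
    let em := RelProj.emb B.p B.chart U hU
    have hu : IsUnit (((((em.app (B.P.basicOpen (B.ratio hU e' e))).hom
        (resR (B.P.basicOpen_le _) (B.ratio hU e' e))).1 ⟨z, hx⟩)).val) := by
      let ev : Γ(B.P, B.P.basicOpen (B.ratio hU e' e)) →+* GrTwist.Loc (B.𝒮.deg U hU) z :=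
        { toFun := fun c => (((em.app (B.P.basicOpen (B.ratio hU e' e))).hom c).1 ⟨z, hx⟩).val
          map_one' := by rw [map_one]; exact HomogeneousLocalization.val_one
          map_mul' := fun a b => by rw [map_mul]; exact HomogeneousLocalization.val_mul _ _
          map_zero' := by rw [map_zero]; exact HomogeneousLocalization.val_zero
          map_add' := fun a b => by rw [map_add]; exact HomogeneousLocalization.val_add _ _ }
      exact (isUnit_resR (B.P.basicOpen_le _) _ le_rfl).map ev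
    have hz2 : z ∈ em ⁻¹ᵁ B.D hU e := B.P.basicOpen_le _ hx
    have e1 : ((((em.app (B.P.basicOpen (B.ratio hU e' e))).hom
        (resR (B.P.basicOpen_le _) (B.ratio hU e' e))).1 ⟨z, hx⟩)).val = B.sv hU e ⟨z, hz2⟩ (B.ratio hU e' e) := by
      rw [show (em.app (B.P.basicOpen (B.ratio hU e' e))).hom (resR (B.P.basicOpen_le _) (B.ratio hU e' e)) =
        ((Proj (B.𝒮.deg U hU)).presheaf.map (homOfLE (em.preimage_mono (B.P.basicOpen_le _))).op).hom
          ((em.app (B.D hU e)).hom (B.ratio hU e' e)) from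
        ConcreteCategory.congr_hom (em.naturality (homOfLE (B.P.basicOpen_le _)).op) _]
      rfl
    rw [e1] at hu
    have h2 := hu.mul (B.isUnit_alg_jv hU e ⟨z, hz2⟩)
    rw [B.sv_ratio hU e' e ⟨z, hz2⟩] at h2
    exact ((IsLocalization.AtPrime.isUnit_to_map_iff _
      (z : ProjectiveSpectrum (B.𝒮.deg U hU)).asHomogeneousIdeal.toIdeal _).1 h2) hz'
  · obtain ⟨c, hc⟩ := (B.isFrame_fdv hU e').exists_coord (V := B.D hU e ⊓ B.D hU e') inf_le_right
      (res B.O1 (inf_le_left.trans (B.D_le hU e)) (B.fdv U e))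
    rw [res_res] at hc
    have h1 := congrArg (res B.O1 (inf_le_left : B.D hU e ⊓ B.D hU e' ≤ B.D hU e)) (B.ratio_spec hU e' e)
    rw [res_res, res_smul, res_res, hc, ← mul_smul] at h1
    have h2 := (B.isFrame_fdv hU e').coord_unique (inf_le_right : B.D hU e ⊓ B.D hU e' ≤ B.D hU e')
      (r := (1 : Γ(B.P, B.D hU e ⊓ B.D hU e'))) (r' := resR inf_le_left (B.ratio hU e' e) * c)
      (by rw [one_smul, res_res]; exact h1)
    have h3 : B.P.basicOpen (resR (inf_le_left : B.D hU e ⊓ B.D hU e' ≤ B.D hU e) (B.ratio hU e' e)) =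
        B.D hU e ⊓ B.D hU e' :=
      B.P.basicOpen_of_isUnit (IsUnit.of_mul_eq_one _ h2.symm)
    have h4 : x ∈ B.P.basicOpen (resR (inf_le_left : B.D hU e ⊓ B.D hU e' ≤ B.D hU e) (B.ratio hU e' e)) :=
      h3.ge hx
    rw [resR, Scheme.basicOpen_res] at h4
    exact h4.2

/-- `D₊(e|V) ≤ D₊(e)`. -/
theorem PB.D_res_le {V : Y.Opens} (hV : IsAffineOpen V) (i : V ≤ U) (e : Γ(E, U)) :
    B.D hV (res E i e) ≤ B.D hU e := by
  rintro x ⟨z, hz, rfl⟩
  have e2 : RelProj.emb B.p B.chart U hU (Proj.map (B.𝒮.res hU hV i) (irr_res_pair B.𝒮 hU hV i) z) =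
      RelProj.emb B.p B.chart V hV z := by
    rw [← Scheme.Hom.comp_apply, map_emb_pair B.𝒮 B.hP hU hV i]
  have hr : jv B.𝒮.toQCAlg B.j V (res E i e) = B.𝒮.res hU hV i (jv B.𝒮.toQCAlg B.j U e) :=
    (rB_jv B.𝒮.toQCAlg B.j i e).symm
  have hm : RelProj.emb B.p B.chart U hU (Proj.map (B.𝒮.res hU hV i) (irr_res_pair B.𝒮 hU hV i) z) ∈ B.D hU e := by
    refine emb_mem_dO hU fun h => ?_
    have hz' : B.𝒮.res hU hV i (jv B.𝒮.toQCAlg B.j U e) ∉
        (z : ProjectiveSpectrum (B.𝒮.deg V hV)).asHomogeneousIdeal := hr ▸ hz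
    exact hz' h
  rw [e2] at hm
  exact hm

theorem PB.ratio_res {V : Y.Opens} (hV : IsAffineOpen V) (i : V ≤ U) (a e : Γ(E, U)) :
    resR (B.D_res_le hU hV i e) (B.ratio hU a e) = B.ratio hV (res E i a) (res E i e) :=
  B.ratio_unique hU (B.D_res_le hU hV i e) (by
    have hf : ∀ b, res B.O1 ((B.D_res_le hU hV i e).trans (B.D_le hU e)) (B.fdv U b) =
        res B.O1 (B.D_le hV (res E i e)) (B.fdv V (res E i b)) := fun b => by
      rw [← B.fdv_res i, res_res]
    rw [hf, hf, ← B.ratio_spec hV])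

end Groth.Agent.RelVA16
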