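import Groth.Agent.RelTildeX.ExistsTwist
import Groth.Agent.GrTwistX.Triv
import Groth.Agent.InvX.Frame

/-! Standard frames of the twists of a relative `Proj` over the opens `D₊(f)`, `f` of degree one. -/

set_option autoImplicit false
set_option backward.isDefEq.respectTransparency false
set_option backward.isDefEq.respectTransparency.types false

universe u

open CategoryTheory CategoryTheory.Limits AlgebraicGeometry TopologicalSpace Opposite
open scoped HomogeneousIdeal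

noncomputable section

namespace Groth.Agent.RelVA16

open Groth.Agent Groth.Agent.AModX

variable {A : Type u} [CommRing A] {𝒜 : ℕ → AddSubgroup A} [GradedRing 𝒜]

/-- The fraction `f^n` of degree `n`. -/
def fr {f : A} (hf : f ∈ 𝒜 1) (n : ℤ) (V : (Proj 𝒜).Opens) (hV : ∀ x ∈ V, f ∉ x.asHomogeneousIdeal) :
    GrTwistX.UnitFrac (𝒜 := 𝒜) n V where
  i := n.toNat
  j := (-n).toNat
  num := f ^ n.toNat
  den := f ^ (-n).toNat
  num_mem := by simpa using SetLike.pow_mem_graded n.toNat hf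
  den_mem := by simpa using SetLike.pow_mem_graded (-n).toNat hf
  deg := by omega
  num_ne x := GrTwistX.notMem_pow (hV x.1 x.2) _
  den_ne x := GrTwistX.notMem_pow (hV x.1 x.2) _

/-- The fraction `f^n` at a point. -/
def frVal (f : A) (n : ℤ) (x : ProjectiveSpectrum 𝒜) (hf : f ∉ x.asHomogeneousIdeal) : GrTwist.Loc 𝒜 x :=
  Localization.mk (f ^ n.toNat) ⟨f ^ (-n).toNat, GrTwistX.notMem_pow hf _⟩

theorem frVal_congr {f g : A} (h : f = g) (n : ℤ) (x : ProjectiveSpectrum 𝒜) (hf : f ∉ x.asHomogeneousIdeal) :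
    frVal f n x hf = frVal g n x (h ▸ hf) := by
  subst h; rfl

theorem locMap_frVal {B : Type u} [CommRing B] {ℬ : ℕ → AddSubgroup B} [GradedRing ℬ] (φ : 𝒜 →+*ᵍ ℬ)
    (hφ : ℬ₊ ≤ (𝒜₊).map φ) (n : ℤ) (y : ProjectiveSpectrum ℬ) (f : A)
    (hf : f ∉ (ProjectiveSpectrum.comap φ hφ y).asHomogeneousIdeal) :
    GrTwist.locMap φ hφ y (frVal f n _ hf) = frVal (φ f) n y hf := by
  rw [frVal, GrTwist.locMap_mk, frVal]
  exact congr_arg₂ Localization.mk (map_pow _ _ _) (Subtype.ext (map_pow _ _ _))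

variable {Y P : Scheme.{u}} {𝒮 : RelProj.QCGrAlg Y} {p : P ⟶ Y}
  {chart : ∀ (U : Y.Opens) (hU : IsAffineOpen U), (((p ⁻¹ᵁ U : P.Opens) : Scheme.{u}) ≅ Proj (𝒮.deg U hU))}
  {n : ℤ} {L : P.Modules}
  {lam : ∀ (U : Y.Opens) (hU : IsAffineOpen U),
    L ⟶ (Scheme.Modules.pushforward (RelProj.emb p chart U hU)).obj (GrTwist.twist (𝒮.deg U hU) n)}
  (hL : RelProj.IsRelTwist 𝒮 p chart n L lam)

local notation "𝐞" => RelProj.emb p chart

variable (p chart) in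
/-- `D₊(f)` inside the relative `Proj`. -/
def dO {U : Y.Opens} (hU : IsAffineOpen U) (f : 𝒮.presheaf.obj (op U)) : P.Opens :=
  𝐞 U hU ''ᵁ Proj.basicOpen (𝒮.deg U hU) f

lemma dO_le {U : Y.Opens} (hU : IsAffineOpen U) (f : 𝒮.presheaf.obj (op U)) : dO p chart hU f ≤ p ⁻¹ᵁ U :=
  (RelProj.emb p chart U hU).image_le_opensRange _ |>.trans (RelTildeX.opensRange_emb p chart U hU).le

lemma preimage_dO {U : Y.Opens} (hU : IsAffineOpen U) (f : 𝒮.presheaf.obj (op U)) :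
    𝐞 U hU ⁻¹ᵁ dO p chart hU f = Proj.basicOpen (𝒮.deg U hU) f :=
  (RelProj.emb p chart U hU).preimage_image_eq _

lemma notMem_of_mem {U : Y.Opens} (hU : IsAffineOpen U) {f : 𝒮.presheaf.obj (op U)} {W : P.Opens}
    (hW : W ≤ dO p chart hU f) (x : Proj (𝒮.deg U hU)) (hx : x ∈ 𝐞 U hU ⁻¹ᵁ W) :
    f ∉ (x : ProjectiveSpectrum (𝒮.deg U hU)).asHomogeneousIdeal := by
  have h : x ∈ 𝐞 U hU ⁻¹ᵁ dO p chart hU f := (RelProj.emb p chart U hU).preimage_mono hW hx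
  rw [preimage_dO] at h
  exact h

lemma emb_mem_dO {U : Y.Opens} (hU : IsAffineOpen U) {f : 𝒮.presheaf.obj (op U)} {z : Proj (𝒮.deg U hU)}
    (hz : f ∉ (z : ProjectiveSpectrum (𝒮.deg U hU)).asHomogeneousIdeal) : 𝐞 U hU z ∈ dO p chart hU f :=
  ⟨z, hz, rfl⟩

/-- The frame `f^n` on `D₊(f)`. -/
def sect {U : Y.Opens} (hU : IsAffineOpen U) {f : 𝒮.presheaf.obj (op U)} (hf : f ∈ 𝒮.deg U hU 1) :
    Γ(L, dO p chart hU f) :=
  (Equiv.ofBijective _ (hL.bijective U hU _ (dO_le hU f))).symm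
    (show Γ(GrTwist.twist (𝒮.deg U hU) n, 𝐞 U hU ⁻¹ᵁ dO p chart hU f) from
      GrTwistX.fracSect (fr hf n _ (notMem_of_mem hU le_rfl)))

theorem val_sect {U : Y.Opens} (hU : IsAffineOpen U) {f : 𝒮.presheaf.obj (op U)} (hf : f ∈ 𝒮.deg U hU 1)
    {W : P.Opens} (hW : W ≤ dO p chart hU f) (y : ↥(𝐞 U hU ⁻¹ᵁ W)) :
    GrTwist.val (V := 𝐞 U hU ⁻¹ᵁ W) ((lam U hU).app W (res L hW (sect hL hU hf))) y =
      frVal f n y.1 (notMem_of_mem hU hW y.1 y.2) := by
  rw [app_res]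
  have h : (lam U hU).app _ (sect hL hU hf) =
      (show Γ(GrTwist.twist (𝒮.deg U hU) n, 𝐞 U hU ⁻¹ᵁ dO p chart hU f) from
        GrTwistX.fracSect (fr hf n _ (notMem_of_mem hU le_rfl))) :=
    (Equiv.ofBijective _ (hL.bijective U hU _ (dO_le hU f))).apply_symm_apply _
  rw [h]
  rfl

include hL in
theorem eq_of_val {U : Y.Opens} (hU : IsAffineOpen U) {V : P.Opens} (hV : V ≤ p ⁻¹ᵁ U) (s t : Γ(L, V))
    (h : ∀ y : ↥(𝐞 U hU ⁻¹ᵁ V), GrTwist.val (V := 𝐞 U hU ⁻¹ᵁ V) ((lam U hU).app V s) y =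
      GrTwist.val (V := 𝐞 U hU ⁻¹ᵁ V) ((lam U hU).app V t) y) : s = t :=
  (hL.bijective U hU V hV).1 (Subtype.ext (funext fun y => Subtype.ext (h y)))

theorem val_smul {U : Y.Opens} (hU : IsAffineOpen U) {V : P.Opens} (r : Γ(P, V)) (m : Γ(L, V))
    (y : ↥(𝐞 U hU ⁻¹ᵁ V)) :
    GrTwist.val (V := 𝐞 U hU ⁻¹ᵁ V) ((lam U hU).app V (r • m)) y =
      (((𝐞 U hU).app V r).1 y).val * GrTwist.val (V := 𝐞 U hU ⁻¹ᵁ V) ((lam U hU).app V m) y := by
  rw [Scheme.Modules.Hom.app_smul]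
  exact GrTwist.coe_smul_val n y.1 _ _

include hL in
theorem isFrame_sect {U : Y.Opens} (hU : IsAffineOpen U) {f : 𝒮.presheaf.obj (op U)} (hf : f ∈ 𝒮.deg U hU 1) :
    InvX.IsFrame (sect hL hU hf) := by
  intro V hV
  have hlam := hL.bijective U hU V (hV.trans (dO_le hU f))
  let φ := fr hf n (𝐞 U hU ⁻¹ᵁ V) (notMem_of_mem hU hV)
  have happ : Function.Bijective ((𝐞 U hU).app V) := by
    have := Scheme.Hom.isIso_app (𝐞 U hU) V ((hV.trans (dO_le hU f)).trans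
      (RelTildeX.opensRange_emb p chart U hU).ge)
    exact ConcreteCategory.bijective_of_isIso _
  have key : (fun r : Γ(P, V) => (lam U hU).app V (r • res L hV (sect hL hU hf))) =
      fun r => GrTwistX.trivMap φ (((𝐞 U hU).app V).hom r) := by
    funext r
    refine Subtype.ext (funext fun y => Subtype.ext ?_)
    refine Eq.trans ?_ (GrTwistX.trivMap_apply φ _ y).symm
    show GrTwist.val (V := 𝐞 U hU ⁻¹ᵁ V) _ y = _
    rw [val_smul (lam := lam) hU, val_sect hL hU hf hV y]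
    rfl
  refine (Function.Bijective.of_comp_iff' hlam _).1 ?_
  show Function.Bijective (fun r => (lam U hU).app V (r • res L hV (sect hL hU hf)))
  rw [key]
  exact (GrTwistX.trivMap_bijective φ).comp happ

include hL in
theorem sect_basic (hP : RelProj.IsRelProj 𝒮 p chart) {U D : Y.Opens} (hU : IsAffineOpen U)
    (hD : IsAffineOpen D) (h : RelTildeX.Exists.IsBasic U D) {f : 𝒮.presheaf.obj (op U)}
    (hf : f ∈ 𝒮.deg U hU 1) {W : P.Opens} (hW : W ≤ dO p chart hU f)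
    (hW' : W ≤ dO p chart hD (𝒮.res hU hD h.le f)) :
    res L hW (sect hL hU hf) = res L hW' (sect hL hD (𝒮.map_mem hU hD h.le hf)) := by
  obtain ⟨r, rfl⟩ := h
  refine eq_of_val hL hD (hW'.trans (dO_le hD _)) _ _ fun y => ?_
  have hy' : (𝐞 U hU).base (ProjectiveSpectrum.comap
      (𝒮.res hU (hU.basicOpen r) (Y.basicOpen_le r)) (𝒮.irrelevant_le_map U hU r) y.1) ∈ W := by
    have := RelTildeX.Exists.emb_pt p chart hP hU (hU.basicOpen r) ⟨r, rfl⟩ y.1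
    rw [RelTildeX.Exists.pt] at this
    exact this.symm ▸ y.2
  refine (hL.compat U hU r _ _ y.1 y.2 hy').trans ?_
  rw [val_sect hL hU hf hW ⟨_, hy'⟩, val_sect hL hD _ hW' y]
  exact locMap_frVal _ _ n y.1 f _

end Groth.Agent.RelVA16
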