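import Groth.Agent.RelVA16.FrameIso
import Groth.Agent.RelVA16.TwistSect
import Groth.Agent.InvX.Tensor

/-! The tensor product of two twists of a relative `Proj` generated in degree one. -/

set_option autoImplicit false
set_option backward.isDefEq.respectTransparency false
set_option backward.isDefEq.respectTransparency.types false

universe u

open CategoryTheory CategoryTheory.Limits AlgebraicGeometry TopologicalSpace Opposite
open scoped HomogeneousIdeal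

noncomputable section

namespace Groth.Agent.RelVA16

open Groth.Agent Groth.Agent.AModX

theorem frVal_add {A : Type u} [CommRing A] {𝒜 : ℕ → AddSubgroup A} [GradedRing 𝒜] (f : A) (m n : ℤ)
    (x : ProjectiveSpectrum 𝒜) (hf : f ∉ x.asHomogeneousIdeal) :
    frVal f (m + n) x hf = frVal f m x hf * frVal f n x hf := by
  rw [frVal, frVal, frVal, Localization.mk_mul, Localization.mk_eq_mk_iff, Localization.r_iff_exists]
  refine ⟨1, ?_⟩
  simp only [Submonoid.coe_mul, OneMemClass.coe_one, one_mul, ← pow_add]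
  congr 1
  omega

variable {Y P : Scheme.{u}} {𝒮 : RelProj.QCGrAlg Y} {p : P ⟶ Y}
  {chart : ∀ (U : Y.Opens) (hU : IsAffineOpen U), (((p ⁻¹ᵁ U : P.Opens) : Scheme.{u}) ≅ Proj (𝒮.deg U hU))}

theorem exists_mem_dO (hgen : 𝒮.IsGenDegOne) (x : P) {U : Y.Opens} (hU : IsAffineOpen U) (hx : p x ∈ U) :
    ∃ f ∈ 𝒮.deg U hU 1, x ∈ dO p chart hU f := by
  obtain ⟨z, rfl⟩ : x ∈ (RelProj.emb p chart U hU).opensRange := by rw [RelTildeX.opensRange_emb]; exact hx
  obtain ⟨f, hf, hfz⟩ : ∃ f ∈ 𝒮.deg U hU 1, f ∉ (z : ProjectiveSpectrum (𝒮.deg U hU)).asHomogeneousIdeal := by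
    by_contra! hall
    exact (z : ProjectiveSpectrum (𝒮.deg U hU)).not_irrelevant_le (show ((𝒮.deg U hU)₊).toIdeal ≤ _ from
      RelTildeX.irrelevant_eq_span_deg_one hgen U hU ▸ Ideal.span_le.mpr hall)
  exact ⟨f, hf, emb_mem_dO hU hfz⟩

theorem mem_dO_basic (hP : RelProj.IsRelProj 𝒮 p chart) {U D : Y.Opens} (hU : IsAffineOpen U)
    (hD : IsAffineOpen D) (hb : RelTildeX.Exists.IsBasic U D) (f : 𝒮.presheaf.obj (op U)) {x : P}
    (hx : x ∈ dO p chart hU f) (hxD : p x ∈ D) : x ∈ dO p chart hD (𝒮.res hU hD hb.le f) := by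
  obtain ⟨y, hy⟩ : x ∈ (RelProj.emb p chart D hD).opensRange := by rw [RelTildeX.opensRange_emb]; exact hxD
  have h1 : RelTildeX.Exists.pt hU hD hb y ∈ RelProj.emb p chart U hU ⁻¹ᵁ dO p chart hU f := by
    show RelProj.emb p chart U hU _ ∈ dO p chart hU f
    rw [RelTildeX.Exists.emb_pt p chart hP hU hD hb y, hy]
    exact hx
  rw [preimage_dO] at h1
  rw [← hy]
  exact emb_mem_dO hD h1

theorem nonempty_tensor_twist_iso (hP : RelProj.IsRelProj 𝒮 p chart) (hgen : 𝒮.IsGenDegOne) {m n : ℤ}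
    {L : P.Modules}
    {lam : ∀ (U : Y.Opens) (hU : IsAffineOpen U),
      L ⟶ (Scheme.Modules.pushforward (RelProj.emb p chart U hU)).obj (GrTwist.twist (𝒮.deg U hU) m)}
    (hL : RelProj.IsRelTwist 𝒮 p chart m L lam) {L' : P.Modules}
    {lam' : ∀ (U : Y.Opens) (hU : IsAffineOpen U),
      L' ⟶ (Scheme.Modules.pushforward (RelProj.emb p chart U hU)).obj (GrTwist.twist (𝒮.deg U hU) n)}
    (hL' : RelProj.IsRelTwist 𝒮 p chart n L' lam') {L'' : P.Modules}
    {lam'' : ∀ (U : Y.Opens) (hU : IsAffineOpen U),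
      L'' ⟶ (Scheme.Modules.pushforward (RelProj.emb p chart U hU)).obj (GrTwist.twist (𝒮.deg U hU) (m + n))}
    (hL'' : RelProj.IsRelTwist 𝒮 p chart (m + n) L'' lam'') :
    Nonempty (CohB1.tensorMod L L' ≅ L'') := by
  let ι := Σ U : Y.affineOpens, {f : 𝒮.presheaf.obj (op U.1) // f ∈ 𝒮.deg U.1 U.2 1}
  let O : ι → P.Opens := fun a => dO p chart a.1.2 a.2.1
  have hcov : ∀ x, ∃ a, x ∈ O a := fun x => by
    obtain ⟨_, ⟨U, hU, rfl⟩, hxU, -⟩ := Y.isBasis_affineOpens.exists_subset_of_mem_open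
      (Set.mem_univ (p x)) isOpen_univ
    obtain ⟨f, hf, hx⟩ := exists_mem_dO (chart := chart) hgen x hU hxU
    exact ⟨⟨⟨U, hU⟩, ⟨f, hf⟩⟩, hx⟩
  let e : ∀ a, Γ(CohB1.tensorMod L L', O a) := fun a => InvX.tmul (sect hL a.1.2 a.2.2) (sect hL' a.1.2 a.2.2)
  let t : ∀ a, Γ(L'', O a) := fun a => sect hL'' a.1.2 a.2.2
  have he : ∀ a, InvX.IsFrame (e a) :=
    fun a => InvX.isFrame_tmul (isFrame_sect hL a.1.2 a.2.2) (isFrame_sect hL' a.1.2 a.2.2)
  have ht : ∀ a, InvX.IsFrame (t a) := fun a => isFrame_sect hL'' a.1.2 a.2.2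
  obtain ⟨φ, -⟩ := exists_iso_of_frames O hcov e he t ht fun a b W ha hb g hg => by
    refine AModX.eq_of_locally _ _ fun x hx => ?_
    obtain ⟨D, hD, hbU, hbV, hxD⟩ := RelTildeX.Exists.exists_common a.1.2 b.1.2 (x := p x)
      ⟨dO_le a.1.2 _ (ha hx), dO_le b.1.2 _ (hb hx)⟩
    let f₁ := 𝒮.res a.1.2 hD hbU.le a.2.1
    let f₂ := 𝒮.res b.1.2 hD hbV.le b.2.1
    have hf₁ : f₁ ∈ 𝒮.deg D hD 1 := 𝒮.map_mem a.1.2 hD hbU.le a.2.2
    have hf₂ : f₂ ∈ 𝒮.deg D hD 1 := 𝒮.map_mem b.1.2 hD hbV.le b.2.2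
    let V : P.Opens := W ⊓ (dO p chart hD f₁ ⊓ dO p chart hD f₂)
    refine ⟨V, inf_le_left, ⟨hx, mem_dO_basic hP a.1.2 hD hbU _ (ha hx) hxD,
      mem_dO_basic hP b.1.2 hD hbV _ (hb hx) hxD⟩, ?_⟩
    have hVW : V ≤ W := inf_le_left
    have h₁ : V ≤ dO p chart hD f₁ := inf_le_right.trans inf_le_left
    have h₂ : V ≤ dO p chart hD f₂ := inf_le_right.trans inf_le_right
    have hsL : res L (hVW.trans ha) (sect hL a.1.2 a.2.2) = res L h₁ (sect hL hD hf₁) :=
      sect_basic hL hP a.1.2 hD hbU a.2.2 _ _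
    have hsL2 : res L (hVW.trans hb) (sect hL b.1.2 b.2.2) = res L h₂ (sect hL hD hf₂) :=
      sect_basic hL hP b.1.2 hD hbV b.2.2 _ _
    have hsL' : res L' (hVW.trans ha) (sect hL' a.1.2 a.2.2) = res L' h₁ (sect hL' hD hf₁) :=
      sect_basic hL' hP a.1.2 hD hbU a.2.2 _ _
    have hsL'2 : res L' (hVW.trans hb) (sect hL' b.1.2 b.2.2) = res L' h₂ (sect hL' hD hf₂) :=
      sect_basic hL' hP b.1.2 hD hbV b.2.2 _ _
    obtain ⟨c, hc⟩ := (isFrame_sect hL hD hf₁).exists_coord h₁ (res L h₂ (sect hL hD hf₂))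
    obtain ⟨c', hc'⟩ := (isFrame_sect hL' hD hf₁).exists_coord h₁ (res L' h₂ (sect hL' hD hf₂))
    have hg2 : resR hVW g = c * c' := by
      refine (he a).coord_unique (hVW.trans ha) ?_
      have h1 : res (CohB1.tensorMod L L') (hVW.trans hb) (e b) =
          resR hVW g • res _ (hVW.trans ha) (e a) := by
        rw [← res_res hb hVW, hg, res_smul, res_res]
      rw [← h1]
      show res _ _ (InvX.tmul _ _) = _ • res _ _ (InvX.tmul _ _)
      rw [InvX.res_tmul, InvX.res_tmul, hsL, hsL2, hsL', hsL'2, hc, hc', InvX.tmul_smul_left,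
        InvX.tmul_smul_right, mul_smul]
    rw [res_res, res_smul, res_res, hg2]
    show res L'' _ (sect hL'' b.1.2 b.2.2) = (c * c') • res L'' _ (sect hL'' a.1.2 a.2.2)
    rw [sect_basic hL'' hP b.1.2 hD hbV b.2.2 _ h₂, sect_basic hL'' hP a.1.2 hD hbU a.2.2 _ h₁]
    refine eq_of_val hL'' hD (h₁.trans (dO_le hD _)) _ _ fun y => ?_
    rw [val_smul (lam := lam'') hD, val_sect hL'' hD hf₁ h₁ y, val_sect hL'' hD hf₂ h₂ y, frVal_add, frVal_add]
    have v₁ := congrArg (fun s => GrTwist.val (V := RelProj.emb p chart D hD ⁻¹ᵁ V) ((lam D hD).app V s) y) hc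
    have v₂ := congrArg (fun s => GrTwist.val (V := RelProj.emb p chart D hD ⁻¹ᵁ V) ((lam' D hD).app V s) y) hc'
    simp only [val_smul (lam := lam) hD, val_smul (lam := lam') hD] at v₁ v₂
    rw [val_sect hL hD hf₂ h₂ y, val_sect hL hD hf₁ h₁ y] at v₁
    rw [val_sect hL' hD hf₂ h₂ y, val_sect hL' hD hf₁ h₁ y] at v₂
    rw [v₁, v₂, map_mul]
    show _ = ((((RelProj.emb p chart D hD).app V).hom c).1 y * (((RelProj.emb p chart D hD).app V).hom c').1 y).val * _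
    rw [HomogeneousLocalization.val_mul]
    exact mul_mul_mul_comm _ _ _ _
  exact ⟨φ⟩

end Groth.Agent.RelVA16
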