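import Groth.Agent.RelVA16.TensorInv
import Groth.Agent.RelVA16.TwistMul
import Groth.Agent.RelTildeX.Invertible
import Groth.Agent.H23.PicMul
import Groth.Agent.KFlatLib.Scheme.QCohTensor
import Groth.Agent.ZeroSchX.Basic

/-! Classes of twists and of very ample modules under tensor by modules from the base. -/

set_option autoImplicit false
set_option backward.isDefEq.respectTransparency false
set_option backward.isDefEq.respectTransparency.types false

universe u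

open CategoryTheory CategoryTheory.Limits AlgebraicGeometry TopologicalSpace Opposite

noncomputable section

namespace Groth.Agent.RelVA16

open Groth.Agent Groth.Agent.H23 Groth.Agent.H23.PicMul

theorem cl_twist_eq_pow {Y P : Scheme.{u}} {𝒮 : RelProj.QCGrAlg Y} {p : P ⟶ Y}
    {chart : ∀ (U : Y.Opens) (hU : IsAffineOpen U), (((p ⁻¹ᵁ U : P.Opens) : Scheme.{u}) ≅ Proj (𝒮.deg U hU))}
    (hP : RelProj.IsRelProj 𝒮 p chart) (hgen : 𝒮.IsGenDegOne) {O1 : P.Modules}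
    {lam1 : ∀ (U : Y.Opens) (hU : IsAffineOpen U),
      O1 ⟶ (Scheme.Modules.pushforward (RelProj.emb p chart U hU)).obj (GrTwist.twist (𝒮.deg U hU) 1)}
    (hO1 : RelProj.IsRelTwist 𝒮 p chart 1 O1 lam1) (n : ℕ) :
    ∀ (L : P.Modules) (lam : ∀ (U : Y.Opens) (hU : IsAffineOpen U),
      L ⟶ (Scheme.Modules.pushforward (RelProj.emb p chart U hU)).obj (GrTwist.twist (𝒮.deg U hU) (n : ℤ))),
      RelProj.IsRelTwist 𝒮 p chart (n : ℤ) L lam → PicF.cl L = PicF.cl O1 ^ n := by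
  induction n with
  | zero =>
    intro L lam hL
    have hu := isUnit_cl (RelTildeX.isInvertible_twist hgen hL)
    have hLL : PicF.cl L * PicF.cl L = PicF.cl L := by
      rw [← cl_tensor]
      exact cl_eq_iff.2 (nonempty_tensor_twist_iso hP hgen (m := (0 : ℤ)) (n := (0 : ℤ)) hL hL
        (L'' := L) (lam'' := lam) hL)
    rw [pow_zero]
    exact hu.mul_eq_left.1 hLL
  | succ n ih =>
    intro L lam hL
    obtain ⟨Ln, lamn, hLn⟩ := RelTildeX.Exists.exists_isRelTwist 𝒮 p chart hP (n : ℤ)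
    rw [pow_succ, ← ih Ln lamn hLn, ← cl_tensor]
    exact (cl_eq_iff.2 (nonempty_tensor_twist_iso hP hgen (m := (n : ℤ)) (n := (1 : ℤ)) hLn hO1
      (L'' := L) (lam'' := lam) hL)).symm

theorem exists_iso_tensor_pow {Y : Scheme.{u}} {E L : Y.Modules} (B : PB Y E) (hL : PicF.IsInvertible L)
    (B' : PB Y (CohB1.tensorMod E L)) :
    ∃ i : B.P ≅ B'.P, i.hom ≫ B'.p = B.p ∧
      ∀ (n : ℕ) (OP : B.P.Modules)
        (lamP : ∀ (U : Y.Opens) (hU : IsAffineOpen U),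
          OP ⟶ (Scheme.Modules.pushforward (RelProj.emb B.p B.chart U hU)).obj (GrTwist.twist (B.𝒮.deg U hU) (n : ℤ)))
        (OQ : B'.P.Modules)
        (lamQ : ∀ (U : Y.Opens) (hU : IsAffineOpen U),
          OQ ⟶ (Scheme.Modules.pushforward (RelProj.emb B'.p B'.chart U hU)).obj
            (GrTwist.twist (B'.𝒮.deg U hU) (n : ℤ))),
        RelProj.IsRelTwist B.𝒮 B.p B.chart (n : ℤ) OP lamP →
          RelProj.IsRelTwist B'.𝒮 B'.p B'.chart (n : ℤ) OQ lamQ →
            Nonempty ((Scheme.Modules.pullback i.hom).obj OQ ≅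
              CohB1.tensorMod OP ((Scheme.Modules.pullback B.p).obj (CohB1.tensorPow L n))) := by
  obtain ⟨i, hi, hτ⟩ := exists_iso_tensor B hL B'
  refine ⟨i, hi, fun n OP lamP OQ lamQ hP hQ => cl_eq_iff.1 ?_⟩
  have h1 : PicF.pullCl i.hom (PicF.cl B'.O1) = PicF.cl B.O1 * PicF.pullCl B.p (PicF.cl L) := cl_eq_iff.2 hτ
  show PicF.pullCl i.hom (PicF.cl OQ) = PicF.cl OP * PicF.pullCl B.p (PicF.cl (CohB1.tensorPow L n))
  rw [cl_twist_eq_pow B'.hP B'.gen B'.hO1 n OQ lamQ hQ, cl_twist_eq_pow B.hP B.gen B.hO1 n OP lamP hP,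
    cl_tensorPow, pullCl_pow, pullCl_pow, h1, mul_pow]

theorem isQCoh_tensor_inv {Y : Scheme.{u}} {E L : Y.Modules} (hE : Coh.IsQCoh E) (hL : PicF.IsInvertible L) :
    Coh.IsQCoh (CohB1.tensorMod E L) :=
  KFlatLib.isQCoh_tensor hE (ZeroSchX.isQCoh_inv hL)

theorem isRelVeryAmple_tensor_pullback {X Y : Scheme.{u}} {q : X ⟶ Y} {L : X.Modules}
    (hva : RelProj.IsRelVeryAmple q L) {K : Y.Modules} (hK : PicF.IsInvertible K) :
    RelProj.IsRelVeryAmple q (CohB1.tensorMod L ((Scheme.Modules.pullback q).obj K)) := by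
  obtain ⟨E, B, ι, hι, hq, he⟩ := exists_pb_of_isRelVeryAmple hva
  obtain ⟨B'⟩ := PB.exists_of_isQCoh (isQCoh_tensor_inv B.hE hK)
  obtain ⟨i, hi, hτ⟩ := exists_iso_tensor B hK B'
  have : IsImmersion (ι ≫ i.hom) := inferInstance
  refine B'.isRelVeryAmple _ (ι ≫ i.hom) (by rw [Category.assoc, hi, hq]) (Nonempty.some ?_)
  refine cl_eq_iff.1 ?_
  have h1 : PicF.pullCl i.hom (PicF.cl B'.O1) = PicF.cl B.O1 * PicF.pullCl B.p (PicF.cl K) := cl_eq_iff.2 hτ
  have h2 : PicF.cl L = PicF.pullCl ι (PicF.cl B.O1) := cl_eq_iff.2 he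
  have h3 : ∀ c : PicF.Cl B'.P, PicF.pullCl (ι ≫ i.hom) c = PicF.pullCl ι (PicF.pullCl i.hom c) := fun c => by
    induction c using Quot.ind with | mk A =>
    exact cl_eq_iff.2 ⟨((Scheme.Modules.pullbackComp ι i.hom).app A).symm⟩
  show PicF.cl L * PicF.pullCl q (PicF.cl K) = PicF.pullCl (ι ≫ i.hom) (PicF.cl B'.O1)
  rw [h3, h1, pullCl_mul, ← h2]
  congr 1
  subst hq
  exact cl_eq_iff.2 ⟨((Scheme.Modules.pullbackComp ι B.p).app K).symm⟩

end Groth.Agent.RelVA16
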