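import Groth.Agent.InvX.Tensor
import Groth.Agent.H23.TensorDesc

/-! Sections of a tensor product with an invertible module. -/

set_option autoImplicit false
set_option backward.isDefEq.respectTransparency false
set_option backward.isDefEq.respectTransparency.types false

universe u

open CategoryTheory CategoryTheory.Limits AlgebraicGeometry TopologicalSpace Opposite MonoidalCategory
open scoped TensorProduct

noncomputable section

namespace Groth.Agent.RelVA16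

open Groth.Agent Groth.Agent.AModX

variable {X : Scheme.{u}} {M N : X.Modules}

theorem tmul_add_left {U : X.Opens} (a a' : Γ(M, U)) (b : Γ(N, U)) :
    InvX.tmul (a + a') b = InvX.tmul a b + InvX.tmul a' b :=
  (congrArg ((KFlatLib.unitShP (CohB1.toPMod M ⊗ CohB1.toPMod N)).app (op U)).hom
    (KFlatLib.tm_add_left (P := CohB1.toPMod M) (Q := CohB1.toPMod N) (U := op U) a a' b)).trans (map_add _ _ _)

theorem tmul_add_right {U : X.Opens} (a : Γ(M, U)) (b b' : Γ(N, U)) :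
    InvX.tmul a (b + b') = InvX.tmul a b + InvX.tmul a b' :=
  (congrArg ((KFlatLib.unitShP (CohB1.toPMod M ⊗ CohB1.toPMod N)).app (op U)).hom
    (KFlatLib.tm_add_right (P := CohB1.toPMod M) (Q := CohB1.toPMod N) (U := op U) a b b')).trans (map_add _ _ _)

theorem tmul_eq_secTwist {U : X.Opens} (a : Γ(M, U)) (b : Γ(N, U)) :
    InvX.tmul a b = SecTwist.tmul M N U a b := rfl

theorem exists_locally_tmul {U : X.Opens} {ℓ : Γ(N, U)} (hℓ : InvX.IsFrame ℓ)
    (z : Γ(CohB1.tensorMod M N, U)) {x : X} (hx : x ∈ U) :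
    ∃ (V : X.Opens) (h : V ≤ U) (a : Γ(M, V)), x ∈ V ∧
      res (CohB1.tensorMod M N) h z = InvX.tmul a (res N h ℓ) := by
  let P := CohB1.toPMod M
  let Q := CohB1.toPMod N
  haveI hi := KFlatLib.isIso_stalk_unitShP (x := x) (P ⊗ Q)
  let u := ((KFlatLib.stalkP x).map (KFlatLib.unitShP (P ⊗ Q)))
  have hu : Function.Bijective u.hom := ConcreteCategory.bijective_of_isIso u
  obtain ⟨t', ht'⟩ := hu.2 (show KFlatLib.stalkMod x (DCoh.toP.obj (DCoh.shP.obj (P ⊗ Q))) from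
    KFlatLib.germP _ U hx z)
  obtain ⟨t, rfl⟩ := (KFlatLib.tensorStalkEquiv P Q).surjective t'
  suffices key : ∀ t, ∃ (V : X.Opens) (hV : x ∈ V) (h : V ≤ U) (a : Γ(M, V)),
      u.hom (KFlatLib.tensorStalkEquiv P Q t) =
        (show KFlatLib.stalkMod x (DCoh.toP.obj (DCoh.shP.obj (P ⊗ Q))) from
          KFlatLib.germP _ V hV (InvX.tmul a (res N h ℓ))) by
    obtain ⟨V, hV, h, a, ha⟩ := key t
    have h1 : (CohB1.tensorMod M N).presheaf.germ U x hx z =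
        (CohB1.tensorMod M N).presheaf.germ V x hV (InvX.tmul a (res N h ℓ)) := ht'.symm.trans ha
    obtain ⟨W, hW, i, k, hik⟩ :=
      TopCat.Presheaf.germ_eq (C := AddCommGrpCat.{u}) (CohB1.tensorMod M N).presheaf x hx hV _ _ h1
    refine ⟨W, i.le, res M k.le a, hW, ?_⟩
    change res (CohB1.tensorMod M N) i.le z = res (CohB1.tensorMod M N) k.le _ at hik
    rw [hik, InvX.res_tmul, res_res]
  intro t
  induction t using TensorProduct.induction_on with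
  | zero =>
    refine ⟨U, hx, le_rfl, (0 : Γ(M, U)), ?_⟩
    have h0 : InvX.tmul (0 : Γ(M, U)) (res N le_rfl ℓ) = 0 := by
      have h := tmul_add_left (0 : Γ(M, U)) 0 (res N le_rfl ℓ)
      rw [add_zero] at h
      exact left_eq_add.1 h
    rw [map_zero, map_zero, h0]
    exact (map_zero (KFlatLib.germP (DCoh.toP.obj (DCoh.shP.obj (P ⊗ Q))) U hx)).symm
  | tmul α β =>
    let ψ := LinearMap.toSpanSingleton (X.presheaf.stalk x) (KFlatLib.stalkMod x Q) (KFlatLib.germP Q U hx ℓ)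
    obtain ⟨c, hc⟩ := (hℓ.germ_bijective hx).2 β
    obtain ⟨V₀, hV₀, a₀, ha₀⟩ := TopCat.Presheaf.exists_germ_eq M.presheaf (x := x) (c • α)
    let V := V₀ ⊓ U
    refine ⟨V, ⟨hV₀, hx⟩, inf_le_right, res M inf_le_left a₀, ?_⟩
    have hα : (c • α : KFlatLib.stalkMod x P) = KFlatLib.germP P V ⟨hV₀, hx⟩ (res M inf_le_left a₀) :=
      ha₀.symm.trans (InvX.germ_res' (inf_le_left : V ≤ V₀) ⟨hV₀, hx⟩ a₀).symm
    have hβ : (KFlatLib.germP Q U hx ℓ : KFlatLib.stalkMod x Q) =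
        KFlatLib.germP Q V ⟨hV₀, hx⟩ (res N inf_le_right ℓ) :=
      (InvX.germ_res' (inf_le_right : V ≤ U) ⟨hV₀, hx⟩ ℓ).symm
    have h1 : α ⊗ₜ[X.presheaf.stalk x] β =
        KFlatLib.germP P V ⟨hV₀, hx⟩ (res M inf_le_left a₀) ⊗ₜ[X.presheaf.stalk x]
          KFlatLib.germP Q V ⟨hV₀, hx⟩ (res N inf_le_right ℓ) := by
      rw [← hα, ← hβ, show β = c • (KFlatLib.germP Q U hx ℓ : KFlatLib.stalkMod x Q) from hc.symm,
        TensorProduct.tmul_smul, ← TensorProduct.smul_tmul']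
    refine ((congrArg (fun w => u.hom (KFlatLib.tensorStalkEquiv P Q w)) h1).trans
      (congrArg u.hom (KFlatLib.ofTensor_germ V ⟨hV₀, hx⟩ _ _))).trans ?_
    exact KFlatLib.stalkModMap_germ _ V ⟨hV₀, hx⟩ _
  | add t₁ t₂ h₁ h₂ =>
    obtain ⟨V₁, hV₁, i₁, a₁, e₁⟩ := h₁
    obtain ⟨V₂, hV₂, i₂, a₂, e₂⟩ := h₂
    let V := V₁ ⊓ V₂
    have r : ∀ {V' : X.Opens} (hV' : x ∈ V') (i : V ≤ V') (h' : V' ≤ U) (a : Γ(M, V')),
        (KFlatLib.germP (DCoh.toP.obj (DCoh.shP.obj (P ⊗ Q))) V' hV' (InvX.tmul a (res N h' ℓ)) :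
          KFlatLib.stalkMod x (DCoh.toP.obj (DCoh.shP.obj (P ⊗ Q)))) =
        KFlatLib.germP (DCoh.toP.obj (DCoh.shP.obj (P ⊗ Q))) V ⟨hV₁, hV₂⟩
          (InvX.tmul (res M i a) (res N (i.trans h') ℓ)) := fun {V'} hV' i h' a => by
      rw [← res_res h' i ℓ, ← InvX.res_tmul]
      exact (InvX.germ_res' i ⟨hV₁, hV₂⟩ _).symm
    refine ⟨V, ⟨hV₁, hV₂⟩, inf_le_left.trans i₁, res M inf_le_left a₁ + res M inf_le_right a₂, ?_⟩
    rw [map_add, map_add, e₁, e₂, r hV₁ inf_le_left i₁ a₁, r hV₂ inf_le_right i₂ a₂, tmul_add_left]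
    exact (map_add (KFlatLib.germP (DCoh.toP.obj (DCoh.shP.obj (P ⊗ Q))) V ⟨hV₁, hV₂⟩) _ _).symm

theorem tmul_frame_injective {U : X.Opens} {ℓ : Γ(N, U)} (hℓ : InvX.IsFrame ℓ) {a a' : Γ(M, U)}
    (h : InvX.tmul a ℓ = InvX.tmul a' ℓ) : a = a' := by
  refine TopCat.Presheaf.section_ext ⟨M.presheaf, M.isSheaf⟩ _ _ _ fun x hx => ?_
  let P := CohB1.toPMod M
  let Q := CohB1.toPMod N
  haveI hi := KFlatLib.isIso_stalk_unitShP (x := x) (P ⊗ Q)
  let u := ((KFlatLib.stalkP x).map (KFlatLib.unitShP (P ⊗ Q)))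
  have hu : Function.Bijective u.hom := ConcreteCategory.bijective_of_isIso u
  let gℓ : KFlatLib.stalkMod x Q := KFlatLib.germP Q U hx ℓ
  let eb := LinearEquiv.ofBijective (LinearMap.toSpanSingleton (X.presheaf.stalk x) (KFlatLib.stalkMod x Q) gℓ)
    (hℓ.germ_bijective hx)
  have key : ∀ b : Γ(M, U), u.hom (KFlatLib.tensorStalkEquiv P Q (KFlatLib.germP P U hx b ⊗ₜ gℓ)) =
      (show KFlatLib.stalkMod x (DCoh.toP.obj (DCoh.shP.obj (P ⊗ Q))) from
        KFlatLib.germP _ U hx (InvX.tmul b ℓ)) := fun b =>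
    (congrArg u.hom (KFlatLib.ofTensor_germ U hx b ℓ)).trans (KFlatLib.stalkModMap_germ _ U hx _)
  have h1 : (KFlatLib.germP P U hx a ⊗ₜ[X.presheaf.stalk x] gℓ) = KFlatLib.germP P U hx a' ⊗ₜ[X.presheaf.stalk x] gℓ :=
    (KFlatLib.tensorStalkEquiv P Q).injective (hu.1 ((key a).trans ((congrArg _ h).trans (key a').symm)))
  let T := (TensorProduct.congr (LinearEquiv.refl (X.presheaf.stalk x) (KFlatLib.stalkMod x P)) eb.symm).trans
    (TensorProduct.rid (X.presheaf.stalk x) (KFlatLib.stalkMod x P))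
  have hg : eb.symm gℓ = 1 := eb.symm_apply_eq.2 (show gℓ = (1 : X.presheaf.stalk x) • gℓ from (one_smul _ gℓ).symm)
  have h2 := congrArg T h1
  simp only [T, LinearEquiv.trans_apply, TensorProduct.congr_tmul, LinearEquiv.refl_apply, hg,
    TensorProduct.rid_tmul, one_smul] at h2
  exact h2

theorem exists_eq_tmul {U : X.Opens} {ℓ : Γ(N, U)} (hℓ : InvX.IsFrame ℓ) (z : Γ(CohB1.tensorMod M N, U)) :
    ∃ a : Γ(M, U), z = InvX.tmul a ℓ := by
  have h := fun (x : X) (hx : x ∈ U) => exists_locally_tmul hℓ z hx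
  choose V hVU a hxV ha using h
  obtain ⟨b, hb, -⟩ := existsUnique_glue (M := M) (V := U) (fun x : {x : X // x ∈ U} => V x.1 x.2)
    (fun x => hVU x.1 x.2) (fun p hp => ⟨⟨p, hp⟩, hxV p hp⟩) (fun x => a x.1 x.2) fun x y => by
      refine tmul_frame_injective (hℓ.res ((inf_le_left : V x.1 x.2 ⊓ V y.1 y.2 ≤ V x.1 x.2).trans (hVU x.1 x.2))) ?_
      have e1 := congrArg (res (CohB1.tensorMod M N) (inf_le_left : V x.1 x.2 ⊓ V y.1 y.2 ≤ V x.1 x.2)) (ha x.1 x.2)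
      have e2 := congrArg (res (CohB1.tensorMod M N) (inf_le_right : V x.1 x.2 ⊓ V y.1 y.2 ≤ V y.1 y.2)) (ha y.1 y.2)
      rw [res_res, InvX.res_tmul, res_res] at e1 e2
      exact e1.symm.trans e2
  refine ⟨b, AModX.eq_of_locally _ _ fun x hx => ⟨V x hx, hVU x hx, hxV x hx, ?_⟩⟩
  rw [InvX.res_tmul, hb ⟨x, hx⟩, ha]

end Groth.Agent.RelVA16
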