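import Groth.Agent.RelVA16.ToPBIso
import Groth.Agent.RelVA16.TensorSect
import Groth.Agent.RelVA16.TensorAmple
import Groth.Agent.AmpleX.Sect
import Groth.Agent.AmpleX.SemiAmple

/-! Tensor products of very ample and generated modules. -/

set_option autoImplicit false
set_option backward.isDefEq.respectTransparency false
set_option backward.isDefEq.respectTransparency.types false
set_option linter.style.haveILetI false

universe u

open CategoryTheory CategoryTheory.Limits AlgebraicGeometry TopologicalSpace Opposite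

noncomputable section

namespace Groth.Agent.RelVA16

open Groth.Agent Groth.Agent.AModX

/-- Immersions are local on the target, for maps landing in the pieces. -/
theorem isImmersion_of_immersion_on {X Z : Scheme.{u}} (i : X ⟶ Z) {κ : Type u} (W : κ → Z.Opens)
    (hcov : ∀ x : X, ∃ k, i.base x ∈ W k) (h : ∀ k, IsImmersion (i ∣_ W k)) : IsImmersion i := by
  let E : Z.Opens := ⨆ k, W k
  have hE : i ⁻¹ᵁ E = ⊤ := eq_top_iff.2 fun x _ => by
    obtain ⟨k, hk⟩ := hcov x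
    exact Opens.mem_iSup.2 ⟨k, hk⟩
  haveI : IsImmersion (i ∣_ E) := by
    refine IsZariskiLocalAtTarget.of_iSup_eq_top (P := @IsImmersion) (fun k => E.ι ⁻¹ᵁ W k) ?_ fun k => ?_
    · refine eq_top_iff.2 fun z _ => ?_
      obtain ⟨k, hk⟩ := Opens.mem_iSup.1 z.2
      exact Opens.mem_iSup.2 ⟨k, hk⟩
    · refine ((MorphismProperty.arrow_mk_iso_iff @IsImmersion (morphismRestrictRestrict i E (E.ι ⁻¹ᵁ W k) ≪≫
        morphismRestrictEq i ?_)).2 (h k))
      rw [Scheme.Hom.image_preimage_eq_opensRange_inf, Scheme.Opens.opensRange_ι]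
      exact inf_eq_right.2 (le_iSup W k)
  haveI : IsIso (i ⁻¹ᵁ E).ι := by
    rw [hE]
    exact inferInstanceAs (IsIso X.topIso.hom)
  have e : i = inv (i ⁻¹ᵁ E).ι ≫ (i ∣_ E) ≫ E.ι := by
    rw [IsIso.eq_inv_comp, morphismRestrict_ι]
  rw [e]
  infer_instance

/-- An epimorphism `q^* E ⟶ L` onto an invertible module gives a generating map. -/
theorem gen_of_epi {X Y : Scheme.{u}} {q : X ⟶ Y} {E : Y.Modules} {L : X.Modules} (hL : PicF.IsInvertible L)
    (φ : (Scheme.Modules.pullback q).obj E ⟶ L) (hφ : Epi φ) :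
    Gen ((Scheme.Modules.pullbackPushforwardAdjunction q).homEquiv E L φ) := fun x => by
  set θ := (Scheme.Modules.pullbackPushforwardAdjunction q).homEquiv E L φ
  suffices h : ∃ (V : Y.Opens) (e : Γ(E, V)),
      x ∈ AmpleX.locus (show Γ(L, q ⁻¹ᵁ V) from θ.app V e) by
    obtain ⟨V, e, hx⟩ := h
    have hxV : q x ∈ V := (AmpleX.locus_le _ hx : x ∈ q ⁻¹ᵁ V)
    obtain ⟨U, hU, hxU, hle⟩ := exists_isAffineOpen_mem_and_subset (X := Y) (x := q x) (U := V) hxV
    let W := AmpleX.locus (show Γ(L, q ⁻¹ᵁ V) from θ.app V e) ⊓ q ⁻¹ᵁ U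
    refine ⟨U, hU, res E hle e, W, inf_le_right, ⟨hx, hxU⟩, ?_⟩
    rw [thv_resE]
    have h1 := (AmpleX.isFrame_res_locus (show Γ(L, q ⁻¹ᵁ V) from θ.app V e)).res
      (inf_le_left : W ≤ _)
    rw [res_res] at h1
    exact h1
  by_contra! hcon
  let j := X.fromSpecResidueField x
  let η : L ⟶ (Scheme.Modules.pushforward j).obj ((Scheme.Modules.pullback j).obj L) :=
    (Scheme.Modules.pullbackPushforwardAdjunction j).unit.app L
  have hj : ∀ z, j z = x := fun z => by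
    have hz : j z ∈ Set.range j := ⟨z, rfl⟩
    rwa [Scheme.range_fromSpecResidueField] at hz
  have hiM := PicClLib.isInvertible_pullback j hL
  have h1 : θ ≫ (Scheme.Modules.pushforward q).map η = 0 := by
    refine Scheme.Modules.hom_ext _ _ fun V => ?_
    ext e
    show (InvX.pullElt j (show Γ(L, q ⁻¹ᵁ V) from θ.app V e) :
      Γ((Scheme.Modules.pullback j).obj L, j ⁻¹ᵁ (q ⁻¹ᵁ V))) = 0
    refine AmpleX.eq_zero_of_locus_eq_bot hiM _ ?_
    rw [AmpleX.locus_pullElt hL, eq_bot_iff]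
    intro z hz
    have hz' : x ∈ AmpleX.locus (show Γ(L, q ⁻¹ᵁ V) from θ.app V e) := hj z ▸ hz
    exact absurd hz' (hcon V e)
  have h2 : φ ≫ η = 0 := by
    refine ((Scheme.Modules.pullbackPushforwardAdjunction q).homEquiv E _).injective ?_
    rw [Adjunction.homEquiv_naturality_right, h1, Adjunction.homEquiv_unit]
    have h0 : (Scheme.Modules.pushforward q).map
        (0 : (Scheme.Modules.pullback q).obj E ⟶
          (Scheme.Modules.pushforward j).obj ((Scheme.Modules.pullback j).obj L)) = 0 :=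
      Scheme.Modules.hom_ext _ _ fun _ => rfl
    rw [h0]
    exact (Limits.comp_zero).symm
  have h3 : η = 0 := by rw [← cancel_epi φ, h2, Limits.comp_zero]
  obtain ⟨V, hV, e, he⟩ := InvX.exists_frame hL x
  have h4 : InvX.pullElt j e = 0 := by
    show η.app V e = 0
    rw [h3]; rfl
  obtain ⟨z⟩ : Nonempty (Spec (X.residueField x)) := inferInstance
  have h5 : z ∈ AmpleX.locus (InvX.pullElt j e) := by
    refine AmpleX.le_locus _ le_rfl ?_ (show z ∈ j ⁻¹ᵁ V by show j z ∈ V; rw [hj]; exact hV)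
    rw [res_self]
    exact InvX.isFrame_pullElt j he
  rw [h4, show (0 : Γ((Scheme.Modules.pullback j).obj L, j ⁻¹ᵁ V)) =
    (0 : Γ(Spec (X.residueField x), j ⁻¹ᵁ V)) • (0 : Γ((Scheme.Modules.pullback j).obj L, j ⁻¹ᵁ V))
    from (smul_zero _).symm, AmpleX.locus_smul hiM, Scheme.basicOpen_zero, inf_bot_eq] at h5
  exact h5

section segre

variable {X Y : Scheme.{u}} {E E' : Y.Modules} (B : PB Y E) {q : X ⟶ Y} {L L' : X.Modules}
  (θ : E ⟶ (Scheme.Modules.pushforward q).obj L) (θ' : E' ⟶ (Scheme.Modules.pushforward q).obj L')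

/-- `(e, e') ↦ θ e ⊗ θ' e'`. -/
def mulBilin : H23.TensorDesc.Bilin E E' ((Scheme.Modules.pushforward q).obj (CohB1.tensorMod L L')) where
  b U e e' := InvX.tmul (thv θ (le_refl (q ⁻¹ᵁ U)) e) (thv θ' le_rfl e')
  add_left U m m' n := by rw [thv_add]; exact tmul_add_left _ _ _
  smul_left U r m n := by
    rw [thv_smul, InvX.tmul_smul_left, ← Scheme.Hom.app_eq_appLE]
    rfl
  add_right U m n n' := by rw [thv_add]; exact tmul_add_right _ _ _
  smul_right U r m n := by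
    rw [thv_smul, InvX.tmul_smul_right, ← Scheme.Hom.app_eq_appLE]
    rfl
  res {U V} h m n := by
    show res (CohB1.tensorMod L L') (q.preimage_mono h) (InvX.tmul _ _) =
      InvX.tmul (thv θ le_rfl (res E h m)) (thv θ' le_rfl (res E' h n))
    rw [InvX.res_tmul, thv_res, thv_res, thv_resE, thv_resE]

/-- The product of two generating maps. -/
def mulTheta : CohB1.tensorMod E E' ⟶ (Scheme.Modules.pushforward q).obj (CohB1.tensorMod L L') :=
  H23.TensorDesc.desc (mulBilin θ θ')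

theorem thv_mulTheta {U : Y.Opens} {W : X.Opens} (h : W ≤ q ⁻¹ᵁ U) (e : Γ(E, U)) (e' : Γ(E', U)) :
    thv (mulTheta θ θ') h (InvX.tmul e e') = InvX.tmul (thv θ h e) (thv θ' h e') := by
  refine (congrArg (res _ h) (H23.TensorDesc.desc_tmul (mulBilin θ θ') U e e')).trans ?_
  show res _ h (InvX.tmul (thv θ (le_refl (q ⁻¹ᵁ U)) e) (thv θ' le_rfl e')) = _
  rw [InvX.res_tmul, thv_res, thv_res]

variable {θ θ'}

theorem exists_common_frame (hθ : Gen θ) (hθ' : Gen θ') (x : X) {D₀ : Y.Opens} (hD₀ : IsAffineOpen D₀)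
    (hx : q x ∈ D₀) :
    ∃ (D : Y.Opens) (_ : IsAffineOpen D) (_ : D ≤ D₀) (W : X.Opens) (h : W ≤ q ⁻¹ᵁ D) (e : Γ(E, D))
      (e' : Γ(E', D)), x ∈ W ∧ InvX.IsFrame (thv θ h e) ∧ InvX.IsFrame (thv θ' h e') := by
  obtain ⟨U, hU, e, W₁, h₁, hx₁, hf₁⟩ := hθ x
  obtain ⟨U', hU', e', W₂, h₂, hx₂, hf₂⟩ := hθ' x
  obtain ⟨D₁, hD₁, hb₁, hb₂, -, hxD₁⟩ := ProjQX.exists_common (W := ⊤) hU hU' (x := q x) (h₁ hx₁) (h₂ hx₂) trivial
  obtain ⟨D, hD, hc₁, hc₂, -, hxD⟩ := ProjQX.exists_common (W := ⊤) hD₁ hD₀ (x := q x) hxD₁ hx trivial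
  let W := (W₁ ⊓ W₂) ⊓ q ⁻¹ᵁ D
  refine ⟨D, hD, hc₂.le, W, inf_le_right, res E (hc₁.le.trans hb₁.le) e, res E' (hc₁.le.trans hb₂.le) e',
    ⟨⟨hx₁, hx₂⟩, hxD⟩, ?_, ?_⟩
  · have := hf₁.res ((inf_le_left : W ≤ W₁ ⊓ W₂).trans inf_le_left)
    rw [thv_res] at this
    rwa [thv_resE]
  · have := hf₂.res ((inf_le_left : W ≤ W₁ ⊓ W₂).trans inf_le_right)
    rw [thv_res] at this
    rwa [thv_resE]

theorem gen_mulTheta (hθ : Gen θ) (hθ' : Gen θ') : Gen (mulTheta θ θ') := fun x => by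
  obtain ⟨_, ⟨U, hU, rfl⟩, hxU, -⟩ := Y.isBasis_affineOpens.exists_subset_of_mem_open
    (Set.mem_univ (q x)) isOpen_univ
  obtain ⟨D, hD, -, W, h, e, e', hx, hf, hf'⟩ := exists_common_frame hθ hθ' x hU hxU
  exact ⟨D, hD, InvX.tmul e e', W, h, hx, by rw [thv_mulTheta]; exact InvX.isFrame_tmul hf hf'⟩

theorem isImmersion_mul {B' : PB Y (CohB1.tensorMod E E')} {i : X ⟶ B.P} [IsImmersion i] (hi : IsMapOf B θ i)
    (hθ' : Gen θ') {r : X ⟶ B'.P} (hr : IsMapOf B' (mulTheta θ θ') r) : IsImmersion r := by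
  let ι := Σ' (U : Y.affineOpens), Γ(E, U.1) × Γ(E', U.1)
  refine isImmersion_of_immersion_on r (fun a : ι => B'.D a.1.2 (InvX.tmul a.2.1 a.2.2)) (fun x => ?_) fun a => ?_
  · obtain ⟨_, ⟨U, hU, rfl⟩, hxU, -⟩ := Y.isBasis_affineOpens.exists_subset_of_mem_open
      (Set.mem_univ (q x)) isOpen_univ
    obtain ⟨D, hD, -, W, h, e, e', hx, hf, hf'⟩ := exists_common_frame (hi.gen (B := B) θ) hθ' x hU hxU
    refine ⟨⟨⟨D, hD⟩, e, e'⟩, hr.mem D hD _ W h ?_ hx⟩
    rw [thv_mulTheta]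
    exact InvX.isFrame_tmul hf hf'
  obtain ⟨⟨U, hU⟩, e, e'⟩ := a
  show IsImmersion (r ∣_ B'.D hU (InvX.tmul e e'))
  let D := B.D hU e
  let D' := B'.D hU (InvX.tmul e e')
  let W := r ⁻¹ᵁ D'
  have hWU : W ≤ q ⁻¹ᵁ U := fun x hx => by
    show q x ∈ U
    rw [← hr.comp, Scheme.Hom.comp_apply]
    exact B'.D_le hU _ hx
  have hF : InvX.IsFrame (thv (mulTheta θ θ') hWU (InvX.tmul e e')) := hr.frame U hU _ W hWU le_rfl
  have hWi : W ≤ i ⁻¹ᵁ D := by
    intro x hx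
    obtain ⟨V, hV, hVU, W₁, h₁, e₀, e₀', hx₁, hf₀, hf₀'⟩ := exists_common_frame (hi.gen (B := B) θ) hθ' x hU (hWU hx)
    let W₂ := W₁ ⊓ W
    have hW₂ : W₂ ≤ q ⁻¹ᵁ V := inf_le_left.trans h₁
    have hg₀ : InvX.IsFrame (thv θ hW₂ e₀) := by
      have := hf₀.res (inf_le_left : W₂ ≤ W₁); rwa [thv_res] at this
    have hg₀' : InvX.IsFrame (thv θ' hW₂ e₀') := by
      have := hf₀'.res (inf_le_left : W₂ ≤ W₁); rwa [thv_res] at this
    obtain ⟨c, hc⟩ := hg₀.exists_coord le_rfl (thv θ hW₂ (res E hVU e))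
    obtain ⟨c', hc'⟩ := hg₀'.exists_coord le_rfl (thv θ' hW₂ (res E' hVU e'))
    rw [res_self] at hc hc'
    have hF₂ : InvX.IsFrame (thv (mulTheta θ θ') hW₂ (InvX.tmul (res E hVU e) (res E' hVU e'))) := by
      rw [← InvX.res_tmul, thv_resE]
      have := hF.res (inf_le_right : W₂ ≤ W)
      rwa [thv_res] at this
    rw [thv_mulTheta, hc, hc', InvX.tmul_smul_left, InvX.tmul_smul_right, ← mul_smul] at hF₂
    have hu : IsUnit (c * c') := isUnit_coord (InvX.isFrame_tmul hg₀ hg₀') hF₂ rfl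
    have hfe : InvX.IsFrame (thv θ hW₂ (res E hVU e)) := by
      rw [hc]; exact hg₀.isUnit_smul (isUnit_of_mul_isUnit_left hu)
    exact (i.preimage_mono (B.D_res_le hU hV hVU e)) (hi.mem V hV _ W₂ hW₂ hfe ⟨hx₁, hx⟩)
  obtain ⟨α, hαb, hαa⟩ := B.exists_ringHom hU e (B'.base hU (InvX.tmul e e'))
    (AddMonoidHom.mk' (fun a => B'.ratio hU (InvX.tmul a e') (InvX.tmul e e')) fun a a' => by
      rw [tmul_add_left, B'.ratio_add])
    (fun c a => by
      show B'.ratio hU (InvX.tmul (c • a) e') _ = _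
      rw [InvX.tmul_smul_left, B'.ratio_smul]
      rfl)
    (B'.ratio_self hU _)
  let σ : D'.toScheme ⟶ B.P := D'.toSpecΓ ≫ Spec.map (CommRingCat.ofHom α) ≫ (B.isAffineOpen_D hU e).fromSpec
  have key : CommRingCat.ofHom α ≫ r.appLE D' W le_rfl = i.appLE D W hWi := by
    refine CommRingCat.hom_ext (B.ringHom_ext hU e (fun c => ?_) fun a => ?_)
    · show (r.appLE D' W _).hom (α _) = _
      rw [hαb]
      show (B'.p.appLE U D' _ ≫ r.appLE D' W _).hom c = (B.p.appLE U D _ ≫ i.appLE D W _).hom c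
      rw [Scheme.Hom.appLE_comp_appLE, Scheme.Hom.appLE_comp_appLE]
      have h1 := hr.comp
      have h2 := hi.comp
      simp only [h1, h2]
    · show (r.appLE D' W _).hom (α _) = _
      rw [hαa]
      refine hF.coord_unique le_rfl ?_
      rw [res_self]
      refine (hr.coord U hU (InvX.tmul a e') (InvX.tmul e e') W hWU le_rfl).symm.trans ?_
      rw [thv_mulTheta, thv_mulTheta, hi.coord U hU a e W hWU hWi, InvX.tmul_smul_left]
  have h2 : r.resLE D' W le_rfl ≫ σ = W.ι ≫ i := by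
    rw [ι_comp_eq i (B.isAffineOpen_D hU e) hWi]
    show r.resLE D' W le_rfl ≫ D'.toSpecΓ ≫ _ = _
    rw [← Scheme.Opens.toSpecΓ_SpecMap_appLE_assoc, ← Spec.map_comp_assoc, key]
  have : IsImmersion (r.resLE D' W le_rfl ≫ σ) := by rw [h2]; infer_instance
  have h3 : IsImmersion (r.resLE D' W le_rfl) := IsImmersion.of_comp _ σ
  rwa [Scheme.Hom.resLE_eq_morphismRestrict] at h3

theorem isRelVeryAmple_mul {B' : PB Y (CohB1.tensorMod E E')} {i : X ⟶ B.P} [IsImmersion i]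
    (hi : IsMapOf B θ i) (hθ' : Gen θ') : RelProj.IsRelVeryAmple q (CohB1.tensorMod L L') := by
  obtain ⟨r, hr⟩ := exists_isMapOf B' (mulTheta θ θ') (gen_mulTheta (hi.gen (B := B) θ) hθ')
  have := isImmersion_mul B hi hθ' hr
  obtain ⟨τ, -⟩ := hr.exists_iso
  exact B'.isRelVeryAmple _ r hr.comp τ.symm

end segre

theorem isRelVeryAmple_tensor_gen {X Y : Scheme.{u}} {q : X ⟶ Y} {L L' : X.Modules}
    (hva : RelProj.IsRelVeryAmple q L) {E' : Y.Modules} (hE' : Coh.IsQCoh E')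
    (θ' : E' ⟶ (Scheme.Modules.pushforward q).obj L') (hθ' : Gen θ') :
    RelProj.IsRelVeryAmple q (CohB1.tensorMod L L') := by
  obtain ⟨E, B, i, hi, hq, ⟨e⟩⟩ := exists_pb_of_isRelVeryAmple hva
  obtain ⟨B'⟩ := PB.exists_of_isQCoh (KFlatLib.isQCoh_tensor B.hE hE')
  exact isRelVeryAmple_mul B (B' := B') (isMapOf_thetaOf hq e.symm) hθ'

theorem isRelVeryAmple_tensor' {X Y : Scheme.{u}} {q : X ⟶ Y} {L L' : X.Modules}
    (hva : RelProj.IsRelVeryAmple q L) (hva' : RelProj.IsRelVeryAmple q L') :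
    RelProj.IsRelVeryAmple q (CohB1.tensorMod L L') := by
  obtain ⟨E', B', i', -, hq', ⟨e'⟩⟩ := exists_pb_of_isRelVeryAmple hva'
  exact isRelVeryAmple_tensor_gen hva B'.hE _
    ((isMapOf_thetaOf hq' e'.symm).gen (B := B') _)

theorem isRelVeryAmple_of_iso {X Y : Scheme.{u}} {q : X ⟶ Y} {L L' : X.Modules} (e : L ≅ L')
    (hva : RelProj.IsRelVeryAmple q L) : RelProj.IsRelVeryAmple q L' := by
  obtain ⟨E, B, i, hi, hq, ⟨ε⟩⟩ := exists_pb_of_isRelVeryAmple hva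
  exact B.isRelVeryAmple L' i hq (e.symm ≪≫ ε)

theorem isRelVeryAmple_tensorPow' {X Y : Scheme.{u}} {q : X ⟶ Y} {L : X.Modules}
    (hva : RelProj.IsRelVeryAmple q L) : ∀ n, RelProj.IsRelVeryAmple q (CohB1.tensorPow L (n + 1))
  | 0 => isRelVeryAmple_of_iso ((H23.PicMul.unit L).some.symm ≪≫ (H23.PicMul.comm L (Coh.structureModule X)).some) hva
  | n + 1 => isRelVeryAmple_tensor' (isRelVeryAmple_tensorPow' hva n) hva

end Groth.Agent.RelVA16
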