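import Groth.Agent.RelVA16.Segre

/-! The Segre map of two maps into bundles whose pair is an immersion. -/

set_option autoImplicit false
set_option backward.isDefEq.respectTransparency false
set_option backward.isDefEq.respectTransparency.types false
set_option linter.style.haveILetI false

universe u

open CategoryTheory CategoryTheory.Limits AlgebraicGeometry TopologicalSpace Opposite

noncomputable section

namespace Groth.Agent.RelVA16

open Groth.Agent Groth.Agent.AModX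

variable {X Y : Scheme.{u}} {E E' : Y.Modules} (B : PB Y E) (B₂ : PB Y E') {q : X ⟶ Y} {L L' : X.Modules}
  {θ : E ⟶ (Scheme.Modules.pushforward q).obj L} {θ' : E' ⟶ (Scheme.Modules.pushforward q).obj L'}

theorem isImmersion_mulPair {B' : PB Y (CohB1.tensorMod E E')} {i : X ⟶ B.P} (hi : IsMapOf B θ i)
    {i₂ : X ⟶ B₂.P} (hi₂ : IsMapOf B₂ θ' i₂)
    [IsImmersion (pullback.lift i i₂ (hi.comp.trans hi₂.comp.symm) : X ⟶ pullback B.p B₂.p)]
    {r : X ⟶ B'.P} (hr : IsMapOf B' (mulTheta θ θ') r) : IsImmersion r := by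
  let ι := Σ' (U : Y.affineOpens), Γ(E, U.1) × Γ(E', U.1)
  have hθ : Gen θ := hi.gen (B := B) θ
  have hθ' : Gen θ' := hi₂.gen (B := B₂) θ'
  refine isImmersion_of_immersion_on r (fun a : ι => B'.D a.1.2 (InvX.tmul a.2.1 a.2.2)) (fun x => ?_) fun a => ?_
  · obtain ⟨_, ⟨U, hU, rfl⟩, hxU, -⟩ := Y.isBasis_affineOpens.exists_subset_of_mem_open
      (Set.mem_univ (q x)) isOpen_univ
    obtain ⟨D, hD, -, W, h, e, e', hx, hf, hf'⟩ := exists_common_frame hθ hθ' x hU hxU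
    refine ⟨⟨⟨D, hD⟩, e, e'⟩, hr.mem D hD _ W h ?_ hx⟩
    rw [thv_mulTheta]
    exact InvX.isFrame_tmul hf hf'
  obtain ⟨⟨U, hU⟩, e, e'⟩ := a
  show IsImmersion (r ∣_ B'.D hU (InvX.tmul e e'))
  let D := B.D hU e
  let D₂ := B₂.D hU e'
  let D' := B'.D hU (InvX.tmul e e')
  let W := r ⁻¹ᵁ D'
  have hWU : W ≤ q ⁻¹ᵁ U := fun x hx => by
    show q x ∈ U
    rw [← hr.comp, Scheme.Hom.comp_apply]
    exact B'.D_le hU _ hx
  have hF : InvX.IsFrame (thv (mulTheta θ θ') hWU (InvX.tmul e e')) := hr.frame U hU _ W hWU le_rfl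
  have hW : ∀ x ∈ W, x ∈ i ⁻¹ᵁ D ∧ x ∈ i₂ ⁻¹ᵁ D₂ := by
    intro x hx
    obtain ⟨V, hV, hVU, W₁, h₁, e₀, e₀', hx₁, hf₀, hf₀'⟩ := exists_common_frame hθ hθ' x hU (hWU hx)
    let W₂ := W₁ ⊓ W
    have hW₂ : W₂ ≤ q ⁻¹ᵁ V := inf_le_left.trans h₁
    have hg₀ : InvX.IsFrame (thv θ hW₂ e₀) := by
      have := hf₀.res (inf_le_left : W₂ ≤ W₁); rwa [thv_res] at this
    have hg₀' : InvX.IsFrame (thv θ' hW₂ e₀') := by
      have := hf₀'.res (inf_le_left : W₂ ≤ W₁); rwa [thv_res] at this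
    obtain ⟨c, hc⟩ := hg₀.exists_coord le_rfl (thv θ hW₂ (res E hVU e))
    obtain ⟨c', hc'⟩ := hg₀'.exists_coord le_rfl (thv θ' hW₂ (res E' hVU e'))
    rw [res_self] at hc hc'
    have hF₂ : InvX.IsFrame (thv (mulTheta θ θ') hW₂ (InvX.tmul (res E hVU e) (res E' hVU e'))) := by
      rw [← InvX.res_tmul, thv_resE]
      have := hF.res (inf_le_right : W₂ ≤ W)
      rwa [thv_res] at this
    rw [thv_mulTheta, hc, hc', InvX.tmul_smul_left, InvX.tmul_smul_right, ← mul_smul] at hF₂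
    have hu : IsUnit (c * c') := isUnit_coord (InvX.isFrame_tmul hg₀ hg₀') hF₂ rfl
    have hfe : InvX.IsFrame (thv θ hW₂ (res E hVU e)) := by
      rw [hc]; exact hg₀.isUnit_smul (isUnit_of_mul_isUnit_left hu)
    have hfe' : InvX.IsFrame (thv θ' hW₂ (res E' hVU e')) := by
      rw [hc']; exact hg₀'.isUnit_smul (isUnit_of_mul_isUnit_right hu)
    exact ⟨(i.preimage_mono (B.D_res_le hU hV hVU e)) (hi.mem V hV _ W₂ hW₂ hfe ⟨hx₁, hx⟩),
      (i₂.preimage_mono (B₂.D_res_le hU hV hVU e')) (hi₂.mem V hV _ W₂ hW₂ hfe' ⟨hx₁, hx⟩)⟩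
  have hWi : W ≤ i ⁻¹ᵁ D := fun x hx => (hW x hx).1
  have hWi₂ : W ≤ i₂ ⁻¹ᵁ D₂ := fun x hx => (hW x hx).2
  obtain ⟨α, hαb, hαa⟩ := B.exists_ringHom hU e (B'.base hU (InvX.tmul e e'))
    (AddMonoidHom.mk' (fun a => B'.ratio hU (InvX.tmul a e') (InvX.tmul e e')) fun a a' => by
      rw [tmul_add_left, B'.ratio_add])
    (fun c a => by
      show B'.ratio hU (InvX.tmul (c • a) e') _ = _
      rw [InvX.tmul_smul_left, B'.ratio_smul]
      rfl)
    (B'.ratio_self hU _)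
  obtain ⟨α₂, hα₂b, hα₂a⟩ := B₂.exists_ringHom hU e' (B'.base hU (InvX.tmul e e'))
    (AddMonoidHom.mk' (fun a => B'.ratio hU (InvX.tmul e a) (InvX.tmul e e')) fun a a' => by
      rw [tmul_add_right, B'.ratio_add])
    (fun c a => by
      show B'.ratio hU (InvX.tmul e (c • a)) _ = _
      rw [InvX.tmul_smul_right, B'.ratio_smul]
      rfl)
    (B'.ratio_self hU _)
  let σ : D'.toScheme ⟶ B.P := D'.toSpecΓ ≫ Spec.map (CommRingCat.ofHom α) ≫ (B.isAffineOpen_D hU e).fromSpec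
  let σ₂ : D'.toScheme ⟶ B₂.P :=
    D'.toSpecΓ ≫ Spec.map (CommRingCat.ofHom α₂) ≫ (B₂.isAffineOpen_D hU e').fromSpec
  have key : CommRingCat.ofHom α ≫ r.appLE D' W le_rfl = i.appLE D W hWi := by
    refine CommRingCat.hom_ext (B.ringHom_ext hU e (fun c => ?_) fun a => ?_)
    · show (r.appLE D' W _).hom (α _) = _
      rw [hαb]
      show (B'.p.appLE U D' _ ≫ r.appLE D' W _).hom c = (B.p.appLE U D _ ≫ i.appLE D W _).hom c
      rw [Scheme.Hom.appLE_comp_appLE, Scheme.Hom.appLE_comp_appLE]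
      have h1 := hr.comp
      have h2 := hi.comp
      simp only [h1, h2]
    · show (r.appLE D' W _).hom (α _) = _
      rw [hαa]
      refine hF.coord_unique le_rfl ?_
      rw [res_self]
      refine (hr.coord U hU (InvX.tmul a e') (InvX.tmul e e') W hWU le_rfl).symm.trans ?_
      rw [thv_mulTheta, thv_mulTheta, hi.coord U hU a e W hWU hWi, InvX.tmul_smul_left]
  have key₂ : CommRingCat.ofHom α₂ ≫ r.appLE D' W le_rfl = i₂.appLE D₂ W hWi₂ := by
    refine CommRingCat.hom_ext (B₂.ringHom_ext hU e' (fun c => ?_) fun a => ?_)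
    · show (r.appLE D' W _).hom (α₂ _) = _
      rw [hα₂b]
      show (B'.p.appLE U D' _ ≫ r.appLE D' W _).hom c = (B₂.p.appLE U D₂ _ ≫ i₂.appLE D₂ W _).hom c
      rw [Scheme.Hom.appLE_comp_appLE, Scheme.Hom.appLE_comp_appLE]
      have h1 := hr.comp
      have h2 := hi₂.comp
      simp only [h1, h2]
    · show (r.appLE D' W _).hom (α₂ _) = _
      rw [hα₂a]
      refine hF.coord_unique le_rfl ?_
      rw [res_self]
      refine (hr.coord U hU (InvX.tmul e a) (InvX.tmul e e') W hWU le_rfl).symm.trans ?_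
      rw [thv_mulTheta, thv_mulTheta, hi₂.coord U hU a e' W hWU hWi₂, InvX.tmul_smul_right]
  have hb : CommRingCat.ofHom α ≫ 𝟙 _ = CommRingCat.ofHom α := Category.comp_id _
  have hσ : σ ≫ B.p = σ₂ ≫ B₂.p := by
    simp only [σ, σ₂, Category.assoc]
    rw [← IsAffineOpen.SpecMap_appLE_fromSpec B.p hU (B.isAffineOpen_D hU e) (B.D_le hU e),
      ← IsAffineOpen.SpecMap_appLE_fromSpec B₂.p hU (B₂.isAffineOpen_D hU e') (B₂.D_le hU e'),
      ← Spec.map_comp_assoc, ← Spec.map_comp_assoc]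
    congr 3
    refine CommRingCat.hom_ext (RingHom.ext fun c => ?_)
    exact (hαb c).trans (hα₂b c).symm
  have h2 : r.resLE D' W le_rfl ≫ pullback.lift σ σ₂ hσ =
      W.ι ≫ pullback.lift i i₂ (hi.comp.trans hi₂.comp.symm) := by
    refine pullback.hom_ext ?_ ?_
    · rw [Category.assoc, Category.assoc, pullback.lift_fst, pullback.lift_fst,
        ι_comp_eq i (B.isAffineOpen_D hU e) hWi]
      show r.resLE D' W le_rfl ≫ D'.toSpecΓ ≫ _ = _
      rw [← Scheme.Opens.toSpecΓ_SpecMap_appLE_assoc, ← Spec.map_comp_assoc, key]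
    · rw [Category.assoc, Category.assoc, pullback.lift_snd, pullback.lift_snd,
        ι_comp_eq i₂ (B₂.isAffineOpen_D hU e') hWi₂]
      show r.resLE D' W le_rfl ≫ D'.toSpecΓ ≫ _ = _
      rw [← Scheme.Opens.toSpecΓ_SpecMap_appLE_assoc, ← Spec.map_comp_assoc, key₂]
  have : IsImmersion (r.resLE D' W le_rfl ≫ pullback.lift σ σ₂ hσ) := by rw [h2]; infer_instance
  have h3 : IsImmersion (r.resLE D' W le_rfl) := IsImmersion.of_comp _ (pullback.lift σ σ₂ hσ)
  rwa [Scheme.Hom.resLE_eq_morphismRestrict] at h3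

theorem isRelVeryAmple_mulPair {i : X ⟶ B.P} (hi : IsMapOf B θ i) {i₂ : X ⟶ B₂.P} (hi₂ : IsMapOf B₂ θ' i₂)
    [IsImmersion (pullback.lift i i₂ (hi.comp.trans hi₂.comp.symm) : X ⟶ pullback B.p B₂.p)] :
    RelProj.IsRelVeryAmple q (CohB1.tensorMod L L') := by
  obtain ⟨B'⟩ := PB.exists_of_isQCoh (KFlatLib.isQCoh_tensor B.hE B₂.hE)
  obtain ⟨r, hr⟩ := exists_isMapOf B' (mulTheta θ θ')
    (gen_mulTheta (hi.gen (B := B) θ) (hi₂.gen (B := B₂) θ'))
  have := isImmersion_mulPair B B₂ hi hi₂ hr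
  obtain ⟨τ, -⟩ := hr.exists_iso
  exact B'.isRelVeryAmple _ r hr.comp τ.symm

end Groth.Agent.RelVA16
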