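import Groth.Agent.RelVA16.ToPB
import Groth.Agent.InvX.GenLocusPull

/-! The invertible module and the sections of the morphism attached to a generating map. -/

set_option autoImplicit false
set_option backward.isDefEq.respectTransparency false
set_option backward.isDefEq.respectTransparency.types false

universe u

open CategoryTheory CategoryTheory.Limits AlgebraicGeometry TopologicalSpace Opposite

noncomputable section

namespace Groth.Agent.RelVA16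

open Groth.Agent Groth.Agent.AModX

variable {Y X : Scheme.{u}} {E : Y.Modules} (B : PB Y E) (r : X ⟶ B.P)

/-- The inverse image of a fundamental section. -/
def pf {U : Y.Opens} {W : X.Opens} (h : W ≤ r ⁻¹ᵁ (B.p ⁻¹ᵁ U)) (e : Γ(E, U)) :
    Γ((Scheme.Modules.pullback r).obj B.O1, W) :=
  res _ h (InvX.pullElt r (B.fdv U e))

theorem pf_res {U : Y.Opens} {W W' : X.Opens} (h : W ≤ r ⁻¹ᵁ (B.p ⁻¹ᵁ U)) (h' : W' ≤ W) (e : Γ(E, U)) :
    res _ h' (pf B r h e) = pf B r (h'.trans h) e :=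
  res_res _ _ _

theorem pf_resE {U V : Y.Opens} {W : X.Opens} (i : V ≤ U) (h : W ≤ r ⁻¹ᵁ (B.p ⁻¹ᵁ V)) (e : Γ(E, U)) :
    pf B r h (res E i e) = pf B r (h.trans (r.preimage_mono (B.p.preimage_mono i))) e := by
  rw [pf, pf, ← B.fdv_res i, ← pullElt_res r (B.p.preimage_mono i), res_res]

theorem pf_eq {U : Y.Opens} (hU : IsAffineOpen U) (e₀ e : Γ(E, U)) {W : X.Opens}
    (h : W ≤ r ⁻¹ᵁ (B.p ⁻¹ᵁ U)) (hW : W ≤ r ⁻¹ᵁ B.D hU e₀) :
    pf B r h e = res _ hW (InvX.pullElt r (res B.O1 (B.D_le hU e₀) (B.fdv U e))) := by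
  rw [pf, ← pullElt_res r (B.D_le hU e₀), res_res]

theorem pf_coord {U : Y.Opens} (hU : IsAffineOpen U) (a e : Γ(E, U)) {W : X.Opens}
    (h : W ≤ r ⁻¹ᵁ (B.p ⁻¹ᵁ U)) (hW : W ≤ r ⁻¹ᵁ B.D hU e) :
    pf B r h a = (r.appLE (B.D hU e) W hW).hom (B.ratio hU a e) • pf B r h e := by
  rw [pf_eq B r hU e a h hW, pf_eq B r hU e e h hW, B.ratio_spec hU a e, pullElt_smul, res_smul]
  rfl

theorem isFrame_pf {U : Y.Opens} (hU : IsAffineOpen U) (e : Γ(E, U)) {W : X.Opens}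
    (h : W ≤ r ⁻¹ᵁ (B.p ⁻¹ᵁ U)) (hW : W ≤ r ⁻¹ᵁ B.D hU e) : InvX.IsFrame (pf B r h e) := by
  rw [pf_eq B r hU e e h hW]
  exact (InvX.isFrame_pullElt r (B.isFrame_fdv hU e)).res hW

variable {B r} {q : X ⟶ Y} {L : X.Modules}

/-- The map `E ⟶ q_* L` of a morphism into the bundle and a map `r^* O(1) ⟶ L`. -/
def thetaOf (hc : r ≫ B.p = q) (τ : (Scheme.Modules.pullback r).obj B.O1 ⟶ L) :
    E ⟶ (Scheme.Modules.pushforward q).obj L :=
  B.fd ≫ (Scheme.Modules.pushforward B.p).map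
      ((Scheme.Modules.pullbackPushforwardAdjunction r).unit.app B.O1 ≫ (Scheme.Modules.pushforward r).map τ) ≫
    (Scheme.Modules.pushforwardComp r B.p).hom.app L ≫ (Scheme.Modules.pushforwardCongr hc).hom.app L

theorem thv_thetaOf (hc : r ≫ B.p = q) (τ : (Scheme.Modules.pullback r).obj B.O1 ⟶ L) {U : Y.Opens}
    {W : X.Opens} (h : W ≤ q ⁻¹ᵁ U) (h' : W ≤ r ⁻¹ᵁ (B.p ⁻¹ᵁ U)) (e : Γ(E, U)) :
    thv (thetaOf hc τ) h e = τ.app W (pf B r h' e) := by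
  subst hc
  rw [pf, app_res]
  exact res_res (W := (r ≫ B.p) ⁻¹ᵁ U) _ _ _

theorem le_of_comp (hc : r ≫ B.p = q) (U : Y.Opens) : q ⁻¹ᵁ U ≤ r ⁻¹ᵁ (B.p ⁻¹ᵁ U) := by
  subst hc; exact le_rfl

theorem isMapOf_thetaOf (hc : r ≫ B.p = q) (τ : (Scheme.Modules.pullback r).obj B.O1 ≅ L) :
    IsMapOf B (thetaOf hc τ.hom) r := by
  have key : ∀ (U : Y.Opens) (hU : IsAffineOpen U) (a e : Γ(E, U)) (W : X.Opens) (h : W ≤ q ⁻¹ᵁ U)
      (hW : W ≤ r ⁻¹ᵁ B.D hU e),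
      InvX.IsFrame (thv (thetaOf hc τ.hom) h e) ∧
        thv (thetaOf hc τ.hom) h a =
          (r.appLE (B.D hU e) W hW).hom (B.ratio hU a e) • thv (thetaOf hc τ.hom) h e := by
    intro U hU a e W h hW
    rw [thv_thetaOf hc _ h (h.trans (le_of_comp hc U)), thv_thetaOf hc _ h (h.trans (le_of_comp hc U)),
      pf_coord B r hU a e _ hW]
    exact ⟨(isFrame_pf B r hU e _ hW).map_iso τ, Scheme.Modules.Hom.app_smul _ _ _⟩
  refine ⟨hc, fun U hU e W h hf x hx => ?_, fun U hU e W h hW => (key U hU e e W h hW).1,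
    fun U hU a e W h hW => (key U hU a e W h hW).2⟩
  obtain ⟨e', he'⟩ := B.exists_mem_D hU (x := r x) (by rw [← Scheme.Hom.comp_apply, hc]; exact h hx)
  let W₁ := W ⊓ r ⁻¹ᵁ B.D hU e'
  have hf₁ : InvX.IsFrame (thv (thetaOf hc τ.hom) ((inf_le_left : W₁ ≤ W).trans h) e) := by
    have := hf.res (inf_le_left : W₁ ≤ W)
    rwa [thv_res] at this
  obtain ⟨hf', hco⟩ := key U hU e e' W₁ ((inf_le_left : W₁ ≤ W).trans h) inf_le_right
  have hu := isUnit_coord hf' hf₁ hco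
  have hb : X.basicOpen ((r.appLE (B.D hU e') W₁ inf_le_right).hom (B.ratio hU e e')) = W₁ :=
    X.basicOpen_of_isUnit hu
  have h1 : x ∈ X.basicOpen ((r.appLE (B.D hU e') W₁ inf_le_right).hom (B.ratio hU e e')) := by
    rw [hb]; exact ⟨hx, he'⟩
  rw [Scheme.basicOpen_appLE] at h1
  have h2 : r x ∈ B.P.basicOpen (B.ratio hU e e') := h1.2
  rw [B.basicOpen_ratio hU] at h2
  exact h2.2

theorem IsMapOf.exists_iso {θ : E ⟶ (Scheme.Modules.pushforward q).obj L} (hr : IsMapOf B θ r) :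
    ∃ τ : (Scheme.Modules.pullback r).obj B.O1 ≅ L, thetaOf hr.comp τ.hom = θ := by
  let ι := Σ' (U : Y.affineOpens) (e : Γ(E, U.1)) (W : X.Opens) (h : W ≤ q ⁻¹ᵁ U.1), InvX.IsFrame (thv θ h e)
  have hcov : ∀ x, ∃ a : ι, x ∈ a.2.2.1 := fun x => by
    obtain ⟨U, hU, e, W, h, hx, hf⟩ := hr.gen (B := B) θ x
    exact ⟨⟨⟨U, hU⟩, e, W, h, hf⟩, hx⟩
  have hD : ∀ a : ι, a.2.2.1 ≤ r ⁻¹ᵁ B.D a.1.2 a.2.1 := fun a => hr.mem _ a.1.2 a.2.1 _ a.2.2.2.1 a.2.2.2.2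
  obtain ⟨τ, hτ⟩ := exists_iso_of_frames (fun a : ι => a.2.2.1) hcov
    (fun a => pf B r ((hD a).trans (r.preimage_mono (B.D_le a.1.2 a.2.1))) a.2.1)
    (fun a => isFrame_pf B r a.1.2 a.2.1 _ (hD a))
    (fun a => thv θ a.2.2.2.1 a.2.1) (fun a => a.2.2.2.2) fun a b W ha hb g hg => by
      refine AModX.eq_of_locally _ _ fun x hx => ?_
      obtain ⟨D, hD', hba, hbb, -, hxD⟩ := ProjQX.exists_common (W := ⊤) a.1.2 b.1.2 (x := q x)
        (a.2.2.2.1 (ha hx)) (b.2.2.2.1 (hb hx)) trivial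
      let W' := W ⊓ q ⁻¹ᵁ D
      have hW'D : W' ≤ q ⁻¹ᵁ D := inf_le_right
      have hfa : InvX.IsFrame (thv θ hW'D (res E hba.le a.2.1)) := by
        have := a.2.2.2.2.res ((inf_le_left : W' ≤ W).trans ha)
        rw [thv_res] at this
        rwa [thv_resE]
      have hm := hr.mem D hD' _ W' hW'D hfa
      have hc' := hr.coord D hD' (res E hbb.le b.2.1) (res E hba.le a.2.1) W' hW'D hm
      have hp := pf_coord B r hD' (res E hbb.le b.2.1) (res E hba.le a.2.1) (hW'D.trans (le_of_comp hr.comp D)) hm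
      refine ⟨W', inf_le_left, ⟨hx, hxD⟩, ?_⟩
      have hgW : resR (inf_le_left : W' ≤ W) g =
          (r.appLE _ W' hm).hom (B.ratio hD' (res E hbb.le b.2.1) (res E hba.le a.2.1)) := by
        refine (isFrame_pf B r hD' (res E hba.le a.2.1) (hW'D.trans (le_of_comp hr.comp D)) hm).coord_unique le_rfl ?_
        rw [res_self, ← hp, pf_resE, pf_resE]
        have h1 := congrArg (res _ (inf_le_left : W' ≤ W)) hg
        rw [res_smul] at h1
        simp only [pf_res] at h1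
        exact h1.symm
      rw [res_res, res_smul, res_res, thv_res, thv_res, hgW]
      rw [thv_resE, thv_resE] at hc'
      exact hc'
  refine ⟨τ, ?_⟩
  refine Scheme.Modules.hom_ext _ _ fun U₀ => ?_
  ext e
  refine AModX.eq_of_locally (M := L) (show Γ(L, q ⁻¹ᵁ U₀) from _) (show Γ(L, q ⁻¹ᵁ U₀) from _) fun x hx => ?_
  obtain ⟨U, hU, e', W, h, hx', hf⟩ := hr.gen (B := B) θ x
  obtain ⟨U₁, hU₁, hxU₁, hle⟩ := exists_isAffineOpen_mem_and_subset (X := Y) (x := q x) (U := U₀) hx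
  obtain ⟨D, hD', hb, hb₁, -, hxD⟩ := ProjQX.exists_common (W := ⊤) hU hU₁ (x := q x) (h hx') hxU₁ trivial
  let W' := W ⊓ q ⁻¹ᵁ D
  have hW'D : W' ≤ q ⁻¹ᵁ D := inf_le_right
  have hi : D ≤ U₀ := hb₁.le.trans hle
  refine ⟨W', hW'D.trans (q.preimage_mono hi), ⟨hx', hxD⟩, ?_⟩
  show thv (thetaOf hr.comp τ.hom) _ e = thv θ _ e
  have hfa : InvX.IsFrame (thv θ hW'D (res E hb.le e')) := by
    have := hf.res (inf_le_left : W' ≤ W)
    rw [thv_res] at this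
    rwa [thv_resE]
  have hm := hr.mem D hD' _ W' hW'D hfa
  rw [← thv_resE (thetaOf hr.comp τ.hom) hi hW'D, ← thv_resE θ hi hW'D,
    thv_thetaOf hr.comp _ hW'D (hW'D.trans (le_of_comp hr.comp D)),
    pf_coord B r hD' (res E hi e) (res E hb.le e') _ hm, Scheme.Modules.Hom.app_smul,
    hr.coord D hD' (res E hi e) (res E hb.le e') W' hW'D hm]
  exact congrArg (_ • ·) (hτ ⟨⟨D, hD'⟩, res E hb.le e', W', hW'D, hfa⟩)

end Groth.Agent.RelVA16
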