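import Groth.Agent.RelVA16.ToPBIso
import Groth.Agent.ProjQX.LineBundle

/-! The morphism `r_{L,ψ}` into a projective bundle is the morphism attached to the generating map. -/

set_option autoImplicit false
set_option backward.isDefEq.respectTransparency false
set_option backward.isDefEq.respectTransparency.types false

universe u

open CategoryTheory CategoryTheory.Limits AlgebraicGeometry TopologicalSpace Opposite
open scoped HomogeneousIdeal

noncomputable section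

namespace Groth.Agent.RelVA16

open Groth.Agent Groth.Agent.AModX Groth.Agent.SymAlgX

variable {Y : Scheme.{u}} {E : Y.Modules} (B : PB Y E) {U : Y.Opens} (hU : IsAffineOpen U)

/-- The functions of `D₊(e)` as fractions of degree zero. -/
def PB.kap (e : Γ(E, U)) : Γ(B.P, B.D hU e) ⟶
    CommRingCat.of (HomogeneousLocalization.Away (B.𝒮.deg U hU) (jv B.𝒮.toQCAlg B.j U e)) :=
  (RelProj.emb B.p B.chart U hU).appLE (B.D hU e) _ (preimage_dO hU _).ge ≫
    (Proj.basicOpenIsoAway (B.𝒮.deg U hU) _ (B.jv_mem1 hU e) one_pos).inv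

theorem PB.kap_aw (e : Γ(E, U))
    (z : HomogeneousLocalization.Away (B.𝒮.deg U hU) (jv B.𝒮.toQCAlg B.j U e)) :
    B.kap hU e (B.aw hU e z) = z := by
  have e1 : (RelProj.emb B.p B.chart U hU).appLE (B.D hU e) _ (preimage_dO hU _).ge (B.aw hU e z) =
      (Proj.awayToSection (B.𝒮.deg U hU) (jv B.𝒮.toQCAlg B.j U e)).hom z := by
    show (RelProj.emb B.p B.chart U hU).appLE _ _ _ (((RelProj.emb B.p B.chart U hU).appIso _).inv _) = _
    rw [← CommRingCat.comp_apply]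
    erw [Scheme.Hom.appIso_inv_appLE]
    exact ConcreteCategory.congr_hom ((Proj (B.𝒮.deg U hU)).presheaf.map_id _) _
  refine (congrArg _ e1).trans ?_
  rw [show Proj.awayToSection (B.𝒮.deg U hU) (jv B.𝒮.toQCAlg B.j U e) =
    (Proj.basicOpenIsoAway (B.𝒮.deg U hU) _ (B.jv_mem1 hU e) one_pos).hom from
    (Proj.basicOpenIsoAway_hom ..).symm]
  exact ConcreteCategory.congr_hom
    (Proj.basicOpenIsoAway (B.𝒮.deg U hU) _ (B.jv_mem1 hU e) one_pos).hom_inv_id z

theorem PB.kap_ratio (a e : Γ(E, U)) :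
    B.kap hU e (B.ratio hU a e) =
      HomogeneousLocalization.Away.mk _ (B.jv_mem1 hU e) 1 (jv B.𝒮.toQCAlg B.j U a)
        (by simpa using B.jv_mem1 hU a) := by
  rw [← B.deh_jv hU a e, ← B.aw_mk hU e 1 _ (by simpa using B.jv_mem1 hU a), B.kap_aw]

theorem PB.kap_base (e : Γ(E, U)) (r : Γ(Y, U)) :
    B.kap hU e (B.base hU e r) =
      HomogeneousLocalization.Away.mk _ (B.jv_mem1 hU e) 0 ((B.𝒮.str.app (op U)).hom r)
        (by simpa using B.𝒮.str_mem U hU r) := by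
  rw [← B.deh_str hU e r, ← B.aw_mk hU e 0 _ (by simpa using B.𝒮.str_mem U hU r), B.kap_aw]

theorem PB.awayι_emb (e : Γ(E, U)) :
    Proj.awayι (B.𝒮.deg U hU) _ (B.jv_mem1 hU e) one_pos ≫ RelProj.emb B.p B.chart U hU =
      Spec.map (B.kap hU e) ≫ (B.isAffineOpen_D hU e).fromSpec := by
  rw [← Proj.basicOpenIsoSpec_inv_ι, Category.assoc, Iso.inv_comp_eq,
    ι_comp_eq _ (B.isAffineOpen_D hU e) (preimage_dO hU _).ge, Proj.basicOpenIsoSpec_hom, Proj.basicOpenToSpec,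
    Category.assoc, ← Spec.map_comp_assoc, PB.kap, Category.assoc,
    show Proj.awayToSection (B.𝒮.deg U hU) (jv B.𝒮.toQCAlg B.j U e) =
      (Proj.basicOpenIsoAway (B.𝒮.deg U hU) _ (B.jv_mem1 hU e) one_pos).hom from
      (Proj.basicOpenIsoAway_hom ..).symm,
    Iso.inv_hom_id, Category.comp_id]

variable {X PL : Scheme.{u}} {q : X ⟶ Y} {L : X.Modules} (hLq : Coh.IsQCoh L)
  {𝒮L : RelProj.QCGrAlg X} {jL : L ⟶ 𝒮L.toModule} (hjL : RelProj.IsGrSymAlg L 𝒮L jL)
  {pL : PL ⟶ X}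
  {chartL : ∀ (V : X.Opens) (hV : IsAffineOpen V), (((pL ⁻¹ᵁ V : PL.Opens) : Scheme.{u}) ≅ Proj (𝒮L.deg V hV))}
  (hPL : RelProj.IsRelProj 𝒮L pL chartL)
  (θ : E ⟶ (Scheme.Modules.pushforward q).obj L) (u : RelProj.QGrHom q B.𝒮 𝒮L)
  (hu : ∀ (U : Y.Opens) (x : Γ(E, U)), (u.app U).hom ((B.j.app U) x) = (jL.app (q ⁻¹ᵁ U)) ((θ.app U) x))

variable {B θ u}

theorem jv_smul (V : X.Opens) (c : Γ(X, V)) (s : Γ(L, V)) :
    jv 𝒮L.toQCAlg jL V (c • s) = (𝒮L.str.app (op V)).hom c * jv 𝒮L.toQCAlg jL V s :=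
  Scheme.Modules.Hom.app_smul jL c s

include hu in
theorem gradedAt_jv {V : X.Opens} (hV : IsAffineOpen V) (h : V ≤ q ⁻¹ᵁ U) (a : Γ(E, U)) :
    u.gradedAt U hU V hV h (jv B.𝒮.toQCAlg B.j U a) = jv 𝒮L.toQCAlg jL V (thv θ h a) := by
  refine (congrArg (QCoh.rB 𝒮L.toQCAlg h) (hu U a)).trans ?_
  exact rB_jv 𝒮L.toQCAlg jL h _

include hLq hjL in
theorem span_frame {V : X.Opens} (hV : IsAffineOpen V) {s : Γ(L, V)} (hs : InvX.IsFrame s) :
    ((𝒮L.deg V hV 1 : AddSubgroup (𝒮L.presheaf.obj (op V))) : Set (𝒮L.presheaf.obj (op V))) ⊆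
      (Ideal.span {jv 𝒮L.toQCAlg jL V s} : Set (𝒮L.presheaf.obj (op V))) := fun b hb => by
  have hbij : Function.Bijective fun r : Γ(X, V) => r • s := by
    have := hs V le_rfl
    simp only [res_self] at this
    exact this
  obtain ⟨r, rfl⟩ := S12143.mem_deg_eq hLq hjL hV s hbij hb
  rw [SetLike.mem_coe, Ideal.mem_span_singleton, pow_one]
  exact dvd_mul_left _ _

include hLq hjL hu in
theorem basicOpen_gradedAt_eq_top {V : X.Opens} (hV : IsAffineOpen V) {h : V ≤ q ⁻¹ᵁ U} {e : Γ(E, U)}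
    (hf : InvX.IsFrame (thv θ h e)) :
    Proj.basicOpen (𝒮L.deg V hV) (u.gradedAt U hU V hV h (jv B.𝒮.toQCAlg B.j U e)) = ⊤ := by
  rw [gradedAt_jv hU hu hV h e]
  exact eq_top_iff.2 fun z _ => ProjQX.notMem_of_span hLq hjL hV (span_frame hLq hjL hV hf) z

omit hU in
theorem exists_chart_of_gen (hgen : Gen θ) (y : PL) :
    ∃ (U : Y.Opens) (hU : IsAffineOpen U) (e : Γ(E, U)) (V : X.Opens) (hV : IsAffineOpen V) (h : V ≤ q ⁻¹ᵁ U),
      InvX.IsFrame (thv θ h e) ∧ pL y ∈ V := by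
  obtain ⟨U, hU, e, W, h, hx, hf⟩ := hgen (pL y)
  obtain ⟨V, hV, hxV, hVW⟩ := exists_isAffineOpen_mem_and_subset (X := X) (x := pL y) (U := W) hx
  have hf' := hf.res (show V ≤ W from hVW)
  rw [thv_res] at hf'
  exact ⟨U, hU, e, V, hV, _, hf', hxV⟩

omit hU in
include hLq hjL hu in
theorem domQ_eq_top_of_gen (hgen : Gen θ) : RelProj.domQ u pL chartL = ⊤ := by
  refine eq_top_iff.2 fun y _ => ?_
  obtain ⟨U, hU, e, V, hV, h, hf, hy⟩ := exists_chart_of_gen (pL := pL) hgen y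
  obtain ⟨z, rfl⟩ := (ProjQX.mem_opensRange_emb (chart := chartL) hV).mpr hy
  refine Opens.mem_iSup.mpr ⟨⟨(⟨U, hU⟩, ⟨V, hV⟩), h⟩, z, ?_, rfl⟩
  exact ProjQX.mem_domOpen_of_homogeneous _ one_pos (B.jv_mem1 hU e)
    ((basicOpen_gradedAt_eq_top hU hLq hjL hu hV hf).ge trivial)

omit hU in
include hLq hjL hPL hu in
/-- On the whole of `X` the morphism `r_{L,ψ}` is the morphism attached to `θ`. -/
theorem eq_of_isMapOf {r : ((RelProj.domQ u pL chartL : PL.Opens) : Scheme.{u}) ⟶ B.P}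
    (hr : RelProj.IsProjQMapOn u B.p B.chart pL chartL (RelProj.domQ u pL chartL) r) {r₀ : X ⟶ B.P}
    (hr₀ : IsMapOf B θ r₀) : r = (RelProj.domQ u pL chartL).ι ≫ pL ≫ r₀ := by
  let κ := Σ' (U : Y.affineOpens) (e : Γ(E, U.1)) (V : X.affineOpens) (h : V.1 ≤ q ⁻¹ᵁ U.1),
    InvX.IsFrame (thv θ h e)
  let idx : κ → ProjQX.Idx u := fun a =>
    ⟨a.1.1, a.1.2, a.2.2.1.1, a.2.2.1.2, a.2.2.2.1, 1, one_pos, _, B.jv_mem1 a.1.2 a.2.1⟩
  let 𝒰 : (RelProj.domQ u pL chartL : Scheme.{u}).OpenCover :=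
    { I₀ := κ
      X := fun a => (idx a).src
      f := fun a => ProjQX.embDom chartL (idx a)
      mem₀ := by
        rw [Scheme.ofArrows_mem_precoverage_iff]
        refine ⟨fun y => ?_, fun a => ?_⟩
        · obtain ⟨U, hU, e, V, hV, h, hf, hy⟩ :=
            exists_chart_of_gen (pL := pL) (hr₀.gen (B := B) θ) y.1
          refine ⟨⟨⟨U, hU⟩, e, ⟨V, hV⟩, h, hf⟩, ?_⟩
          obtain ⟨z, hz⟩ := (ProjQX.mem_opensRange_emb (chart := chartL) hV).mpr hy
          obtain ⟨w, hw⟩ : z ∈ (Proj.awayι (𝒮L.deg V hV) _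
              ((u.gradedAt U hU V hV h).map_mem (B.jv_mem1 hU e)) one_pos).opensRange := by
            rw [Proj.opensRange_awayι]
            exact (basicOpen_gradedAt_eq_top hU hLq hjL hu hV hf).ge trivial
          refine ⟨w, (RelProj.domQ u pL chartL).ι.isOpenEmbedding.injective ?_⟩
          rw [← Scheme.Hom.comp_apply, ProjQX.embDom_ι]
          show RelProj.emb pL chartL V hV (Proj.awayι (𝒮L.deg V hV) _ _ one_pos w) = y.1
          rw [hw, hz]
        · have : IsOpenImmersion (ProjQX.embDom chartL (idx a) ≫ (RelProj.domQ u pL chartL).ι) := by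
            rw [ProjQX.embDom_ι]; infer_instance
          exact IsOpenImmersion.of_comp _ (RelProj.domQ u pL chartL).ι }
  refine Scheme.Cover.hom_ext 𝒰 _ _ fun a => ?_
  obtain ⟨⟨U, hU⟩, e, ⟨V, hV⟩, h, hf⟩ := a
  let i : ProjQX.Idx u := ⟨U, hU, V, hV, h, 1, one_pos, _, B.jv_mem1 hU e⟩
  show ProjQX.embDom chartL i ≫ r = ProjQX.embDom chartL i ≫ _
  rw [(ProjQX.isProjQMapOn_domQ_iff u B.chart chartL r).mp hr i, ← Category.assoc (ProjQX.embDom chartL i),
    ProjQX.embDom_ι]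
  let σ : Γ(X, V) ⟶ CommRingCat.of (HomogeneousLocalization.Away (𝒮L.deg V hV) (i.grad i.f)) :=
    𝒮L.strZero V hV ≫ CommRingCat.ofHom
      (HomogeneousLocalization.fromZeroRingHom (𝒮L.deg V hV) (Submonoid.powers (i.grad i.f)))
  have ha : ProjQX.emb' u chartL i ≫ pL = Spec.map σ ≫ hV.fromSpec := by
    show (Proj.awayι (𝒮L.deg V hV) _ (i.grad.map_mem i.hf) i.hd ≫ RelProj.emb pL chartL V hV) ≫ pL = _
    rw [Category.assoc, ProjQX.emb_over hPL V hV, Proj.awayι_toSpecZero_assoc, Spec.map_comp, Category.assoc]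
    rfl
  have hchart : hV.fromSpec ≫ r₀ =
      Spec.map (CommRingCat.ofHom (rho B θ hU hf)) ≫ (B.isAffineOpen_D hU e).fromSpec := by
    rw [← hV.isoSpec_inv_ι, Category.assoc, hr₀.eq_chartMap (B := B) θ hU hf, chartMap, ← hV.isoSpec_hom,
      Iso.inv_hom_id_assoc]
  rw [reassoc_of% ha, hchart, ← Spec.map_comp_assoc]
  show Spec.map (CommRingCat.ofHom (HomogeneousLocalization.Away.map i.grad i.f)) ≫
    Proj.awayι (B.𝒮.deg U hU) _ (B.jv_mem1 hU e) one_pos ≫ RelProj.emb B.p B.chart U hU = _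
  rw [B.awayι_emb hU e, ← Spec.map_comp_assoc]
  congr 2
  refine CommRingCat.hom_ext (B.ringHom_ext hU e (fun c => ?_) fun b => ?_)
  · show HomogeneousLocalization.Away.map i.grad i.f (B.kap hU e (B.base hU e c)) =
      σ (rho B θ hU hf (B.base hU e c))
    rw [B.kap_base, rho_base]
    apply HomogeneousLocalization.val_injective
    erw [HomogeneousLocalization.Away.map_mk, HomogeneousLocalization.Away.val_mk]
    refine congr_arg₂ Localization.mk ?_ (Subtype.ext (pow_zero _))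
    exact ConcreteCategory.congr_hom (u.toQHom.str_appLE U V h) c
  · show HomogeneousLocalization.Away.map i.grad i.f (B.kap hU e (B.ratio hU b e)) =
      σ (rho B θ hU hf (B.ratio hU b e))
    rw [B.kap_ratio, rho_ratio]
    apply HomogeneousLocalization.val_injective
    erw [HomogeneousLocalization.Away.map_mk, HomogeneousLocalization.Away.val_mk]
    show _ = Localization.mk ((𝒮L.str.app (op V)).hom (cv θ hf b)) (1 : Submonoid.powers (i.grad i.f))
    rw [Localization.mk_eq_mk_iff, Localization.r_iff_exists]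
    refine ⟨1, ?_⟩
    simp only [OneMemClass.coe_one, one_mul, pow_one]
    show u.gradedAt U hU V hV h (jv B.𝒮.toQCAlg B.j U b) =
      u.gradedAt U hU V hV h (jv B.𝒮.toQCAlg B.j U e) * _
    rw [gradedAt_jv hU hu hV h b, gradedAt_jv hU hu hV h e, cv_spec θ hf b, jv_smul, mul_comm]

end Groth.Agent.RelVA16
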