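import Groth.Agent.RelVA16.FTMain
import Groth.Agent.S5721
import Groth.Agent.AmpleX.Generated
import Groth.Agent.AmpleX.CounitEpi

/-! Finite type modules are eventually generated from the base after twisting. -/

set_option autoImplicit false
set_option backward.isDefEq.respectTransparency false
set_option backward.isDefEq.respectTransparency.types false
set_option linter.style.haveILetI false

universe u

open CategoryTheory CategoryTheory.Limits AlgebraicGeometry TopologicalSpace Opposite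

noncomputable section

namespace Groth.Agent.RelVA16

open Groth.Agent Groth.Agent.H23 Groth.Agent.H23.PicMul

variable {Y Z : Scheme.{u}}

/-- Finitely many sections over `W` determining every morphism out of `G` over `W`. -/
def Determines (G : Y.Modules) (W : Y.Opens) (T : Set Γ(G, W)) : Prop :=
  ∀ (H : Y.Modules) (ψ₁ ψ₂ : G ⟶ H), (∀ t ∈ T, ψ₁.app W t = ψ₂.app W t) →
    ∀ (O : Y.Opens), O ≤ W → ∀ s : Γ(G, O), ψ₁.app O s = ψ₂.app O s

theorem determines_of_generated {G : Y.Modules} (W : Y.Opens) {G' : W.toScheme.Modules}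
    (e : G' ≅ G.restrict W.ι) {ι : Type u} (s : ι → Γ(G', ⊤)) (hs : ProjUP.GeneratedBy G' s) :
    Determines G W (Set.range fun i => AModX.res G (W.ι_image_top.ge : W ≤ W.ι ''ᵁ ⊤) (e.hom.app ⊤ (s i))) := by
  intro H ψ₁ ψ₂ h O hO
  let R := Scheme.Modules.restrictFunctor W.ι
  have hext : e.hom ≫ R.map ψ₁ = e.hom ≫ R.map ψ₂ := by
    refine InvX.hom_ext_of_generated hs fun i => ?_
    show ψ₁.app (W.ι ''ᵁ ⊤) (e.hom.app ⊤ (s i)) = ψ₂.app (W.ι ''ᵁ ⊤) (e.hom.app ⊤ (s i))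
    have h1 := h _ ⟨i, rfl⟩
    have h2 := congrArg (AModX.res H (W.ι_image_top.le : W.ι ''ᵁ ⊤ ≤ W)) h1
    rwa [← AModX.app_res, ← AModX.app_res, AModX.res_res, AModX.res_self] at h2
  have hR : R.map ψ₁ = R.map ψ₂ := (cancel_epi e.hom).1 hext
  intro s
  have hle : W.ι ''ᵁ (W.ι ⁻¹ᵁ O) = O := by
    rw [Scheme.Hom.image_preimage_eq_opensRange_inf, Scheme.Opens.opensRange_ι]
    exact inf_eq_right.2 hO
  have h3 : ψ₁.app (W.ι ''ᵁ (W.ι ⁻¹ᵁ O)) (AModX.res G hle.le s) = ψ₂.app (W.ι ''ᵁ (W.ι ⁻¹ᵁ O)) (AModX.res G hle.le s) :=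
    congrArg (fun χ : (G.restrict W.ι) ⟶ H.restrict W.ι => χ.app (W.ι ⁻¹ᵁ O) (AModX.res G hle.le s)) hR
  have h4 := congrArg (AModX.res H hle.ge) h3
  rwa [← AModX.app_res, ← AModX.app_res, AModX.res_res, AModX.res_self] at h4

theorem exists_determines {g : Y ⟶ Z} {K : Y.Modules} (hKa : RelAmple.IsRelAmple g K) {E : Y.Modules}
    (hE : Coh.IsQCoh E) (hft : CohB1.IsFT E) (V : Z.affineOpens) :
    ∃ m₀ : ℕ, ∀ m, m₀ ≤ m → ∃ T : Set Γ(CohB1.tensorMod E (CohB1.tensorPow K m), g ⁻¹ᵁ V.1),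
      T.Finite ∧ Determines _ (g ⁻¹ᵁ V.1) T := by
  let W := g ⁻¹ᵁ V.1
  have hA := hKa.2 V
  haveI : CompactSpace W.toScheme := hA.2.1
  haveI : W.toScheme.IsSeparated := AmpleX.isSeparated_of_isAmple hA
  obtain ⟨m₀, hm₀⟩ := AmpleX.eventually_generated_finite hA (QCoh.isQCoh_restrict W.ι hE)
    (AmpleX.isFT_restrict' W.ι hE hft)
  refine ⟨m₀, fun m hm => ?_⟩
  obtain ⟨G', iso, ι, _, s, hs⟩ := hm₀ m hm
  obtain ⟨e⟩ : Nonempty (CohB1.tensorMod (E.restrict W.ι) (CohB1.tensorPow (K.restrict W.ι) m) ≅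
      (CohB1.tensorMod E (CohB1.tensorPow K m)).restrict W.ι) :=
    cl_eq_iff.1 (by rw [cl_tensor, cl_tensorPow, AmpleX.cl_restrict, AmpleX.cl_restrict, AmpleX.cl_restrict,
      cl_tensor, cl_tensorPow, pullCl_mul, pullCl_pow])
  exact ⟨_, Set.finite_range _, determines_of_generated W (iso ≪≫ e) s hs⟩

theorem exists_ft_epi {g : Y ⟶ Z} {G : Y.Modules} (hG : Coh.IsQCoh ((Scheme.Modules.pushforward g).obj G))
    (hext : ∀ U : Z.Opens, IsAffineOpen U → QCoh.ExtStep U) (S : Finset Z.affineOpens)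
    (hS : ∀ z : Z, ∃ V ∈ S, z ∈ V.1)
    (T : ∀ V : Z.affineOpens, Set Γ(G, g ⁻¹ᵁ V.1)) (hT : ∀ V ∈ S, (T V).Finite)
    (hdet : ∀ V ∈ S, Determines G (g ⁻¹ᵁ V.1) (T V)) :
    ∃ (F : Z.Modules) (φ : (Scheme.Modules.pullback g).obj F ⟶ G), Coh.IsQCoh F ∧ CohB1.IsFT F ∧ Epi φ := by
  classical
  let P := (Scheme.Modules.pushforward g).obj G
  let T' : ∀ V : Z.affineOpens, Set Γ(P, V.1) := fun V => T V
  have hN : ∀ K : Finset Z.affineOpens, K ⊆ S →
      ∃ N : QCoh.SubMod P, QCoh.FTOn N ⊤ ∧ ∀ V ∈ K, T' V ⊆ N.mem V.1 := by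
    intro K
    induction K using Finset.induction_on with
    | empty =>
      refine fun _ => ⟨QcqsColim.botSub P, fun y _ => ?_, fun x hx => absurd hx (Finset.notMem_empty x)⟩
      obtain ⟨V, hV, hyV, -⟩ := exists_isAffineOpen_mem_and_subset (X := Z) (x := y) (U := ⊤) trivial
      refine ⟨V, hV, hyV, le_top, ∅, Set.finite_empty, fun t ht => ht.elim, fun O hO s hs z hz => ?_⟩
      refine ⟨O, le_rfl, hz, ?_⟩
      rw [(Submodule.mem_bot _).1 hs, QCoh.rs, map_zero]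
      exact zero_mem _
    | insert x K _ ih =>
      intro hK
      obtain ⟨N, hN, hNK⟩ := ih ((Finset.subset_insert _ _).trans hK)
      obtain ⟨N', hN', hT'⟩ :=
        QCoh.exists_ftOn_contains hG x.2 (hext _ x.2) (T' x) (hT x (hK (Finset.mem_insert_self _ _)))
      refine ⟨QcqsColim.supSub N' N, QcqsColim.ftOn_supSub hN' hN, fun y hy => ?_⟩
      rcases Finset.mem_insert.1 hy with rfl | hy
      · exact fun t ht => QcqsColim.mem_supSub_left _ _ _ (hT' ht)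
      · exact fun t ht => QcqsColim.mem_supSub_right _ _ _ (hNK y hy ht)
  obtain ⟨N, hN, hNS⟩ := hN S subset_rfl
  let adj := Scheme.Modules.pullbackPushforwardAdjunction g
  refine ⟨N.toModules, (adj.homEquiv _ _).symm N.ι, QCoh.isQCoh_of_ftOn hG hN, QCoh.isFT_of_ftOn hG hN,
    ⟨fun {H} ψ₁ ψ₂ h => ?_⟩⟩
  have h' : N.ι ≫ (Scheme.Modules.pushforward g).map ψ₁ = N.ι ≫ (Scheme.Modules.pushforward g).map ψ₂ := by
    apply (adj.homEquiv _ _).symm.injective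
    rw [adj.homEquiv_naturality_right_symm, adj.homEquiv_naturality_right_symm, h]
  have hloc : ∀ V ∈ S, ∀ (O : Y.Opens), O ≤ g ⁻¹ᵁ V.1 → ∀ s : Γ(G, O), ψ₁.app O s = ψ₂.app O s := fun V hV => by
    refine hdet V hV H ψ₁ ψ₂ fun t ht => ?_
    obtain ⟨a, ha⟩ := N.exists_app_eq (hNS V hV ht)
    have := congrArg (fun χ : N.toModules ⟶ (Scheme.Modules.pushforward g).obj H => χ.app V.1 a) h'
    change ψ₁.app (g ⁻¹ᵁ V.1) (N.ι.app V.1 a) = ψ₂.app (g ⁻¹ᵁ V.1) (N.ι.app V.1 a) at this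
    rwa [ha] at this
  refine Scheme.Modules.hom_ext _ _ fun O => ?_
  ext s
  refine AModX.eq_of_locally _ _ fun y hy => ?_
  obtain ⟨V, hV, hyV⟩ := hS (g y)
  refine ⟨O ⊓ g ⁻¹ᵁ V.1, inf_le_left, ⟨hy, hyV⟩, ?_⟩
  rw [← AModX.app_res, ← AModX.app_res]
  exact hloc V hV _ inf_le_right _

theorem eventually_ft_epi_tensor {g : Y ⟶ Z} [QuasiCompact g] [CompactSpace Z]
    (hext : ∀ U : Z.Opens, IsAffineOpen U → QCoh.ExtStep U)
    {K : Y.Modules} (hK : PicF.IsInvertible K) (hKa : RelAmple.IsRelAmple g K) {E : Y.Modules}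
    (hE : Coh.IsQCoh E) (hft : CohB1.IsFT E) :
    ∃ m₀ : ℕ, ∀ m : ℕ, m₀ ≤ m →
      ∃ (F : Z.Modules) (φ : (Scheme.Modules.pullback g).obj F ⟶ CohB1.tensorMod E (CohB1.tensorPow K m)),
        Coh.IsQCoh F ∧ CohB1.IsFT F ∧ Epi φ := by
  classical
  haveI : IsSeparated g := AmpleX.isSeparated_of_ampleOn fun x => AmpleX.ampleOn_of_isRelAmple hKa (g x)
  choose m₀ hm₀ using exists_determines hKa hE hft
  obtain ⟨S, hS⟩ := isCompact_univ.elim_finite_subcover (fun V : Z.affineOpens => (V.1 : Set Z))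
    (fun V => V.1.2) fun z _ => by
      obtain ⟨_, ⟨U, hU, rfl⟩, hz, -⟩ := Z.isBasis_affineOpens.exists_subset_of_mem_open
        (Set.mem_univ z) isOpen_univ
      exact Set.mem_iUnion.2 ⟨⟨U, hU⟩, hz⟩
  refine ⟨S.sup m₀, fun m hm => ?_⟩
  have hm' : ∀ V : Z.affineOpens, ∃ T : Set Γ(CohB1.tensorMod E (CohB1.tensorPow K m), g ⁻¹ᵁ V.1),
      V ∈ S → T.Finite ∧ Determines _ (g ⁻¹ᵁ V.1) T := fun V => by
    by_cases hV : V ∈ S
    · obtain ⟨T, hT⟩ := hm₀ V m ((Finset.le_sup hV).trans hm)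
      exact ⟨T, fun _ => hT⟩
    · exact ⟨∅, fun h => absurd h hV⟩
  choose T hT using hm'
  refine exists_ft_epi ?_ hext S (fun z => ?_) T (fun V hV => (hT V hV).1) fun V hV => (hT V hV).2
  · exact QCoh.isQCoh_pushforward g
      (KFlatLib.isQCoh_tensor hE (ProjUPX.isQCoh_of_isInvertible (InvX.isInvertible_tensorPow hK m)))
  · obtain ⟨V, hV, hz⟩ := Set.mem_iUnion₂.1 (hS (Set.mem_univ z))
    exact ⟨V, hV, hz⟩

end Groth.Agent.RelVA16
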