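import Groth.Agent.RelVA16.QBC
import Groth.Agent.SymAlgX.Exists
import Groth.Agent.AModX.Res

/-!
The graded `g`-morphism out of a graded symmetric algebra attached to a map of modules into degree one.
-/

set_option autoImplicit false
set_option backward.isDefEq.respectTransparency false
set_option backward.isDefEq.respectTransparency.types false

universe u

open CategoryTheory CategoryTheory.Limits AlgebraicGeometry TopologicalSpace Opposite
open Groth.Agent Groth.Agent.SymAlgX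

noncomputable section

namespace Groth.Agent.RelVA16

theorem map_mem_of_gen {A B : Type u} [CommRing A] [CommRing B] {𝒜 : ℕ → AddSubgroup A} [GradedRing 𝒜]
    {ℬ : ℕ → AddSubgroup B} [GradedRing ℬ] (φ : A →+* B) (G : Set A) (hG : Subring.closure G = ⊤)
    (h : ∀ x ∈ G, ∃ d, x ∈ 𝒜 d ∧ φ x ∈ ℬ d) {d : ℕ} {x : A} (hx : x ∈ 𝒜 d) : φ x ∈ ℬ d := by
  classical
  suffices key : ∀ y ∈ Subring.closure G, ∀ n, φ (DirectSum.decompose 𝒜 y n : A) ∈ ℬ n by
    have := key x (hG ▸ Subring.mem_top x) d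
    rwa [DirectSum.decompose_of_mem_same 𝒜 hx] at this
  intro y hy
  induction hy using Subring.closure_induction with
  | mem z hz =>
    intro n
    obtain ⟨m, hm, hm'⟩ := h z hz
    by_cases hnm : m = n
    · subst hnm
      rwa [DirectSum.decompose_of_mem_same 𝒜 hm]
    · rw [DirectSum.decompose_of_mem_ne 𝒜 hm hnm, map_zero]
      exact zero_mem _
  | zero =>
    intro n
    simp
  | one =>
    intro n
    by_cases hn : (0 : ℕ) = n
    · subst hn
      rw [DirectSum.decompose_of_mem_same 𝒜 SetLike.GradedOne.one_mem, map_one]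
      exact SetLike.GradedOne.one_mem
    · rw [DirectSum.decompose_of_mem_ne 𝒜 SetLike.GradedOne.one_mem hn, map_zero]
      exact zero_mem _
  | add a b _ _ ha hb =>
    intro n
    rw [DirectSum.decompose_add, DirectSum.add_apply, AddSubgroup.coe_add, map_add]
    exact add_mem (ha n) (hb n)
  | neg a _ ha =>
    intro n
    rw [DirectSum.decompose_neg]
    rw [show (((-DirectSum.decompose 𝒜 a) n : 𝒜 n) : A) = -((DirectSum.decompose 𝒜 a n : 𝒜 n) : A) from rfl, map_neg]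
    exact neg_mem (ha n)
  | mul a b _ _ ha hb =>
    intro n
    rw [DirectSum.decompose_mul, DirectSum.coe_mul_apply_eq_sum_antidiagonal, map_sum]
    refine sum_mem fun ij hij => ?_
    rw [map_mul, ← Finset.mem_antidiagonal.1 hij]
    exact SetLike.GradedMul.mul_mem (ha ij.1) (hb ij.2)

variable {Y Y' : Scheme.{u}} (ψ : Y' ⟶ Y) {E : Y.Modules} (hE : Coh.IsQCoh E) {𝒮 : RelProj.QCGrAlg Y}
  {j : E ⟶ 𝒮.toModule} (hj : RelProj.IsGrSymAlg E 𝒮 j) {𝒮' : RelProj.QCGrAlg Y'}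
  (θ : E ⟶ (Scheme.Modules.pushforward ψ).obj 𝒮'.toModule)

/-- The value of `θ`. -/
abbrev tv (U : Y.Opens) (e : Γ(E, U)) : 𝒮'.presheaf.obj (op (ψ ⁻¹ᵁ U)) := θ.app U e

lemma tv_smul (U : Y.Opens) (r : Γ(Y, U)) (e : Γ(E, U)) :
    tv ψ θ U (r • e) = (𝒮'.str.app (op (ψ ⁻¹ᵁ U))).hom ((ψ.app U).hom r) * tv ψ θ U e :=
  Scheme.Modules.Hom.app_smul θ r e

lemma tv_res {U V : Y.Opens} (i : V ≤ U) (e : Γ(E, U)) :
    (𝒮'.presheaf.map (homOfLE (ψ.preimage_mono i)).op).hom (tv ψ θ U e) =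
      tv ψ θ V (E.presheaf.map (homOfLE i).op e) :=
  (AModX.app_res θ i e).symm

/-- The map on the symmetric algebra of the sections. -/
def symVal (U : Y.Opens) : SymAt E U →+* 𝒮'.presheaf.obj (op (ψ ⁻¹ᵁ U)) :=
  liftHom ((𝒮'.str.app (op (ψ ⁻¹ᵁ U))).hom.comp (ψ.app U).hom)
    (show Γ(E, U) →+ 𝒮'.presheaf.obj (op (ψ ⁻¹ᵁ U)) from (θ.app U).hom) (fun r e => tv_smul ψ θ U r e)

/-- The map over one affine open. -/
def affHom (U : Y.Opens) (hU : IsAffineOpen U) : 𝒮.presheaf.obj (op U) →+* 𝒮'.presheaf.obj (op (ψ ⁻¹ᵁ U)) :=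
  (symVal ψ θ U).comp (RingEquiv.ofBijective _ (liftAt_bijective hE 𝒮.toQCAlg hj.1 hU)).symm.toRingHom

lemma affHom_liftAt (U : Y.Opens) (hU : IsAffineOpen U) (z : SymAt E U) :
    affHom ψ hE hj θ U hU (liftAt 𝒮.toQCAlg j U z) = symVal ψ θ U z :=
  congrArg (symVal ψ θ U) ((RingEquiv.ofBijective _ (liftAt_bijective hE 𝒮.toQCAlg hj.1 hU)).symm_apply_apply z)

lemma affHom_str (U : Y.Opens) (hU : IsAffineOpen U) (r : Γ(Y, U)) :
    affHom ψ hE hj θ U hU ((𝒮.str.app (op U)).hom r) = (𝒮'.str.app (op (ψ ⁻¹ᵁ U))).hom ((ψ.app U).hom r) := by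
  rw [← liftAt_algebraMap 𝒮.toQCAlg j U r, affHom_liftAt]
  exact liftHom_algebraMap _ _ _ r

lemma affHom_jv (U : Y.Opens) (hU : IsAffineOpen U) (e : Γ(E, U)) :
    affHom ψ hE hj θ U hU (jv 𝒮.toQCAlg j U e) = tv ψ θ U e := by
  rw [← liftAt_ι 𝒮.toQCAlg j U e, affHom_liftAt]
  exact liftHom_ι _ _ _ e

include hE hj in
lemma symAlg_hom_ext {U : Y.Opens} (hU : IsAffineOpen U) {C : Type u} [CommRing C]
    {a b : 𝒮.presheaf.obj (op U) →+* C}
    (h₁ : ∀ r : Γ(Y, U), a ((𝒮.str.app (op U)).hom r) = b ((𝒮.str.app (op U)).hom r))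
    (h₂ : ∀ e : Γ(E, U), a (jv 𝒮.toQCAlg j U e) = b (jv 𝒮.toQCAlg j U e)) : a = b :=
  RingHom.ext fun x => by
    obtain ⟨z, rfl⟩ := (liftAt_bijective hE 𝒮.toQCAlg hj.1 hU).2 x
    exact RingHom.congr_fun (symHom_ext (a := a.comp (liftAt 𝒮.toQCAlg j U))
      (b := b.comp (liftAt 𝒮.toQCAlg j U))
      (fun r => by simpa only [RingHom.comp_apply, liftAt_algebraMap] using h₁ r)
      fun e => by simpa only [RingHom.comp_apply, liftAt_ι] using h₂ e) z

/-- The map on the affine opens, natural. -/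
def affNat : (Scheme.AffineZariskiSite.toOpensFunctor Y).op ⋙ 𝒮.presheaf ⟶
    (Scheme.AffineZariskiSite.toOpensFunctor Y).op ⋙ (ψ.base _* 𝒮'.presheaf) where
  app U := CommRingCat.ofHom (affHom ψ hE hj θ U.unop.1 U.unop.2)
  naturality U V i := by
    have hi := Scheme.AffineZariskiSite.toOpens_mono (leOfHom i.unop)
    show 𝒮.presheaf.map (homOfLE hi).op ≫ _ = _ ≫ 𝒮'.presheaf.map (homOfLE (ψ.preimage_mono hi)).op
    refine CommRingCat.hom_ext (symAlg_hom_ext hE hj U.unop.2 (fun r => ?_) fun e => ?_)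
    · show affHom ψ hE hj θ _ V.unop.2 ((𝒮.presheaf.map (homOfLE hi).op).hom ((𝒮.str.app _).hom r)) =
        (𝒮'.presheaf.map (homOfLE (ψ.preimage_mono hi)).op).hom (affHom ψ hE hj θ _ U.unop.2 ((𝒮.str.app _).hom r))
      rw [show (𝒮.presheaf.map (homOfLE hi).op).hom ((𝒮.str.app (op U.unop.1)).hom r) =
          (𝒮.str.app (op V.unop.1)).hom ((Y.presheaf.map (homOfLE hi).op).hom r) from
        (ConcreteCategory.congr_hom (𝒮.str.naturality (homOfLE hi).op) r).symm, affHom_str, affHom_str,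
        show (ψ.app V.unop.1).hom ((Y.presheaf.map (homOfLE hi).op).hom r) =
          (Y'.presheaf.map (homOfLE (ψ.preimage_mono hi)).op).hom ((ψ.app U.unop.1).hom r) from
        ConcreteCategory.congr_hom (ψ.naturality (homOfLE hi).op) r]
      exact ConcreteCategory.congr_hom (𝒮'.str.naturality (homOfLE (ψ.preimage_mono hi)).op) _
    · show affHom ψ hE hj θ _ V.unop.2 ((𝒮.presheaf.map (homOfLE hi).op).hom (jv 𝒮.toQCAlg j _ e)) =
        (𝒮'.presheaf.map (homOfLE (ψ.preimage_mono hi)).op).hom (affHom ψ hE hj θ _ U.unop.2 (jv 𝒮.toQCAlg j _ e))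
      rw [show (𝒮.presheaf.map (homOfLE hi).op).hom (jv 𝒮.toQCAlg j U.unop.1 e) =
          jv 𝒮.toQCAlg j V.unop.1 (E.presheaf.map (homOfLE hi).op e) from rB_jv 𝒮.toQCAlg j hi e,
        affHom_jv, affHom_jv, tv_res]

/-- The map of presheaves. -/
def symU : 𝒮.presheaf ⟶ ψ.base _* 𝒮'.presheaf :=
  (Functor.IsCoverDense.restrictHomEquivHom (G := Scheme.AffineZariskiSite.toOpensFunctor Y)
    (K := Opens.grothendieckTopology Y) (ℱ := 𝒮.presheaf)
    (ℱ' := (⟨ψ.base _* 𝒮'.presheaf, TopCat.Sheaf.pushforward_sheaf_of_sheaf _ 𝒮'.isSheaf⟩ :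
      TopCat.Sheaf CommRingCat.{u} Y.carrier))) (affNat ψ hE hj θ)

lemma symU_app {U : Y.Opens} (hU : IsAffineOpen U) (z : 𝒮.presheaf.obj (op U)) :
    ((symU ψ hE hj θ).app (op U)).hom z = affHom ψ hE hj θ U hU z :=
  ConcreteCategory.congr_hom (NatTrans.congr_app ((Functor.IsCoverDense.restrictHomEquivHom
    (G := Scheme.AffineZariskiSite.toOpensFunctor Y) (K := Opens.grothendieckTopology Y) (ℱ := 𝒮.presheaf)
    (ℱ' := (⟨ψ.base _* 𝒮'.presheaf, TopCat.Sheaf.pushforward_sheaf_of_sheaf _ 𝒮'.isSheaf⟩ :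
      TopCat.Sheaf CommRingCat.{u} Y.carrier))).symm_apply_apply (affNat ψ hE hj θ)) (op ⟨U, hU⟩)) z

lemma str_symU : 𝒮.str ≫ symU ψ hE hj θ =
    ψ.c ≫ (TopCat.Presheaf.pushforward CommRingCat.{u} ψ.base).map 𝒮'.str := by
  refine (Functor.IsCoverDense.restrictHomEquivHom (G := Scheme.AffineZariskiSite.toOpensFunctor Y)
    (K := Opens.grothendieckTopology Y) (ℱ := Y.presheaf)
    (ℱ' := (⟨ψ.base _* 𝒮'.presheaf, TopCat.Sheaf.pushforward_sheaf_of_sheaf _ 𝒮'.isSheaf⟩ :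
      TopCat.Sheaf CommRingCat.{u} Y.carrier))).symm.injective ?_
  ext U r
  show ((symU ψ hE hj θ).app (op U.unop.1)).hom ((𝒮.str.app (op U.unop.1)).hom r) =
    (𝒮'.str.app (op (ψ ⁻¹ᵁ U.unop.1))).hom ((ψ.app U.unop.1).hom r)
  rw [symU_app ψ hE hj θ U.unop.2, affHom_str]

variable (hdeg : ∀ (U : Y.Opens) (_ : IsAffineOpen U) (U' : Y'.Opens) (hU' : IsAffineOpen U') (hle : U' ≤ ψ ⁻¹ᵁ U)
  (e : Γ(E, U)), (𝒮'.presheaf.map (homOfLE hle).op).hom (tv ψ θ U e) ∈ 𝒮'.deg U' hU' 1)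

/-- The graded `g`-morphism. -/
def symQ : RelProj.QGrHom ψ 𝒮 𝒮' :=
  mkQ (symU ψ hE hj θ) (str_symU ψ hE hj θ) fun U hU U' hU' hle {d x} hx => by
    let φ : 𝒮.presheaf.obj (op U) →+* 𝒮'.presheaf.obj (op U') :=
      (𝒮'.presheaf.map (homOfLE hle).op).hom.comp (affHom ψ hE hj θ U hU)
    show (𝒮'.presheaf.map (homOfLE hle).op).hom (((symU ψ hE hj θ).app (op U)).hom x) ∈ _
    rw [symU_app ψ hE hj θ hU]
    refine map_mem_of_gen (𝒜 := 𝒮.deg U hU) (ℬ := 𝒮'.deg U' hU') φ _ (genAt_eq_top hE hj.1 hU) ?_ hx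
    rintro z (⟨a, rfl⟩ | ⟨e, rfl⟩)
    · refine ⟨0, 𝒮.str_mem U hU a, ?_⟩
      show (𝒮'.presheaf.map (homOfLE hle).op).hom (affHom ψ hE hj θ U hU _) ∈ _
      rw [affHom_str, show (𝒮'.presheaf.map (homOfLE hle).op).hom ((𝒮'.str.app (op (ψ ⁻¹ᵁ U))).hom
          ((ψ.app U).hom a)) = (𝒮'.str.app (op U')).hom ((Y'.presheaf.map (homOfLE hle).op).hom ((ψ.app U).hom a)) from
        (ConcreteCategory.congr_hom (𝒮'.str.naturality (homOfLE hle).op) _).symm]
      exact 𝒮'.str_mem U' hU' _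
    · refine ⟨1, hj.2 U hU e, ?_⟩
      show (𝒮'.presheaf.map (homOfLE hle).op).hom (affHom ψ hE hj θ U hU _) ∈ _
      rw [affHom_jv]
      exact hdeg U hU U' hU' hle e

lemma symQ_jv {U : Y.Opens} (hU : IsAffineOpen U) (e : Γ(E, U)) :
    ((symQ ψ hE hj θ hdeg).app U).hom (jv 𝒮.toQCAlg j U e) = tv ψ θ U e :=
  (symU_app ψ hE hj θ hU _).trans (affHom_jv ψ hE hj θ U hU e)

end Groth.Agent.RelVA16
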