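import Groth.Prelude.Def_RelProj4
import Groth.Agent.SymAlgX.Exists
import Groth.Agent.RelSpecX.Spec
import Groth.Agent.QCoh.PullbackBC
import Groth.Agent.RelVA16.SymQ

/-! Symmetric algebras commute with inverse image; the base change of a projective bundle. -/

set_option autoImplicit false
set_option backward.isDefEq.respectTransparency false
set_option backward.isDefEq.respectTransparency.types false

universe u

open CategoryTheory CategoryTheory.Limits AlgebraicGeometry TopologicalSpace Opposite
open Groth.Agent Groth.Agent.SymAlgX Groth.Agent.QCoh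

noncomputable section

namespace Groth.Agent.RelVA16

theorem isQBaseChange_of_unit {S S' : Scheme.{u}} (g : S' ⟶ S)
    (E : S.Modules) (hE : Coh.IsQCoh E) (A : RelSpec.QCAlg S) (j : E ⟶ A.toModule) (hA : RelSpec.IsSymAlg E A j)
    (B : RelSpec.QCAlg S') (j' : (Scheme.Modules.pullback g).obj E ⟶ B.toModule)
    (hB : RelSpec.IsSymAlg ((Scheme.Modules.pullback g).obj E) B j')
    (u : RelSpec.QHom g A B)
    (hu : ∀ (U : S.Opens), IsAffineOpen U → ∀ (x : Γ(E, U)),
      (u.app U).hom ((j.app U) x) =
        (j'.app (g ⁻¹ᵁ U)) (((Scheme.Modules.pullbackPushforwardAdjunction g).unit.app E).app U x)) :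
    RelSpec.IsQBaseChange u := by
  intro U hU U' hU' hle
  let N := (Scheme.Modules.pullback g).obj E
  have hN : Coh.IsQCoh N := isQCoh_pullback g hE
  letI : Algebra Γ(S, U) Γ(S', U') := (g.appLE U U' hle).hom.toAlgebra
  letI : Module Γ(S, U) Γ(N, U') := Module.compHom Γ(N, U') (algebraMap Γ(S, U) Γ(S', U'))
  have : IsScalarTower Γ(S, U) Γ(S', U') Γ(N, U') := IsScalarTower.of_algebraMap_smul fun r x => rfl
  let l : Γ(E, U) →ₗ[Γ(S, U)] Γ(N, U') :=
    { toFun := pullSec g E hle
      map_add' := pullSec_add g E hle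
      map_smul' := pullSec_smul g E hle }
  have hl : IsBaseChange Γ(S', U') l := isBaseChange_pullback hU g hU' hE hle (fun _ => rfl) l fun _ => rfl
  have hstr : A.str.app (op U) ≫ u.appLE U U' hle = g.appLE U U' hle ≫ B.str.app (op U') := by
    rw [u.appLE_eq, ← Category.assoc, u.str_app, Category.assoc, Scheme.Hom.appLE, Category.assoc]
    exact congrArg (g.app U ≫ ·) (B.str.naturality (homOfLE hle).op).symm
  have hjv : ∀ x : Γ(E, U), (u.appLE U U' hle).hom (jv A j U x) = jv B j' U' (l x) := fun x =>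
    (congrArg (B.presheaf.map (homOfLE hle).op).hom (hu U hU x)).trans
      (rB_jv B j' hle (show Γ(N, g ⁻¹ᵁ U) from
        ((Scheme.Modules.pullbackPushforwardAdjunction g).unit.app E).app U x))
  let kA := RingEquiv.ofBijective (liftAt A j U) (liftAt_bijective hE A hA hU)
  let kB := RingEquiv.ofBijective (liftAt B j' U') (liftAt_bijective hN B hB hU')
  refine ⟨⟨hstr.symm⟩, ⟨PushoutCocone.isColimitAux' _ fun c => ?_⟩⟩
  letI : Algebra Γ(S', U') c.pt := c.inl.hom.toAlgebra
  letI : Algebra Γ(S, U) c.pt := (c.inl.hom.comp (g.appLE U U' hle).hom).toAlgebra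
  have : IsScalarTower Γ(S, U) Γ(S', U') c.pt := IsScalarTower.of_algebraMap_eq' rfl
  have hc : ∀ r, c.inr.hom ((A.str.app (op U)).hom r) = algebraMap Γ(S, U) c.pt r := fun r =>
    (ConcreteCategory.congr_hom c.condition r).symm
  let m : Γ(E, U) →ₗ[Γ(S, U)] c.pt :=
    { toFun := fun x => c.inr.hom (jv A j U x)
      map_add' := fun x y => by
        rw [show jv A j U (x + y) = jv A j U x + jv A j U y from map_add (j.app U).hom x y, map_add]
      map_smul' := fun r x => by
        rw [show jv A j U (r • x) = (A.str.app (op U)).hom r * jv A j U x from Scheme.Modules.Hom.app_smul j r x,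
          map_mul, hc, Algebra.smul_def, RingHom.id_apply] }
  let w : Γ(N, U') →ₗ[Γ(S', U')] c.pt := hl.lift m
  let L : SymAt N U' →+* c.pt :=
    liftHom (E := N) c.inl.hom w.toAddMonoidHom fun r e => (map_smul w r e).trans (Algebra.smul_def r _)
  let d : B.presheaf.obj (op U') ⟶ c.pt := CommRingCat.ofHom (L.comp kB.symm.toRingHom)
  have hd1 : ∀ r, d.hom ((B.str.app (op U')).hom r) = c.inl.hom r := fun r => by
    show L (kB.symm _) = _
    rw [← liftAt_algebraMap B j' U' r]
    erw [kB.symm_apply_apply (algebraMap Γ(S', U') (SymAt N U') r)]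
    exact liftHom_algebraMap _ _ _ r
  have hd2 : ∀ y, d.hom (jv B j' U' y) = w y := fun y => by
    show L (kB.symm _) = _
    rw [← liftAt_ι B j' U' y]
    erw [kB.symm_apply_apply (SymmetricAlgebra.ι Γ(S', U') Γ(N, U') y)]
    exact liftHom_ι _ _ _ y
  refine ⟨d, CommRingCat.hom_ext (RingHom.ext hd1), ?_, fun {d'} h1 h2 => ?_⟩
  · have : (u.appLE U U' hle ≫ d).hom.comp (liftAt A j U) = c.inr.hom.comp (liftAt A j U) := by
      refine symHom_ext (fun r => ?_) fun x => ?_
      · show d.hom ((u.appLE U U' hle).hom (liftAt A j U _)) = c.inr.hom (liftAt A j U _)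
        rw [liftAt_algebraMap, hc]
        exact (congrArg d.hom (ConcreteCategory.congr_hom hstr r)).trans (hd1 _)
      · show d.hom ((u.appLE U U' hle).hom (liftAt A j U _)) = c.inr.hom (liftAt A j U _)
        rw [liftAt_ι, hjv, hd2]
        exact IsBaseChange.lift_eq hl m x
    refine CommRingCat.hom_ext (RingHom.ext fun a => ?_)
    obtain ⟨a', rfl⟩ := (liftAt_bijective hE A hA hU).2 a
    exact RingHom.congr_fun this a'
  · have hw : ∀ y, d'.hom (jv B j' U' y) = w y := by
      let w' : Γ(N, U') →ₗ[Γ(S', U')] c.pt :=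
        { toFun := fun y => d'.hom (jv B j' U' y)
          map_add' := fun x y => by
            rw [show jv B j' U' (x + y) = jv B j' U' x + jv B j' U' y from map_add (j'.app U').hom x y, map_add]
          map_smul' := fun r x => by
            rw [show jv B j' U' (r • x) = (B.str.app (op U')).hom r * jv B j' U' x from
              Scheme.Modules.Hom.app_smul j' r x, map_mul, Algebra.smul_def, RingHom.id_apply]
            exact congrArg (· * _) (ConcreteCategory.congr_hom h1 r) }
      have : w' = w := hl.algHom_ext _ _ fun x => by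
        refine Eq.trans ?_ (IsBaseChange.lift_eq hl m x).symm
        show d'.hom (jv B j' U' (l x)) = c.inr.hom (jv A j U x)
        rw [← hjv]
        exact ConcreteCategory.congr_hom h2 (jv A j U x)
      exact fun y => LinearMap.congr_fun this y
    have : d'.hom.comp (liftAt B j' U') = d.hom.comp (liftAt B j' U') := by
      refine symHom_ext (fun r => ?_) fun y => ?_
      · show d'.hom (liftAt B j' U' _) = d.hom (liftAt B j' U' _)
        rw [liftAt_algebraMap, hd1]
        exact ConcreteCategory.congr_hom h1 r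
      · show d'.hom (liftAt B j' U' _) = d.hom (liftAt B j' U' _)
        rw [liftAt_ι, hd2, hw]
    refine CommRingCat.hom_ext (RingHom.ext fun b => ?_)
    obtain ⟨b', rfl⟩ := (liftAt_bijective hN B hB hU').2 b
    exact RingHom.congr_fun this b'


variable {Y Y' : Scheme.{u}} (ψ : Y' ⟶ Y) {E : Y.Modules} (hE : Coh.IsQCoh E) {𝒮 : RelProj.QCGrAlg Y}
  {j : E ⟶ 𝒮.toModule} (hj : RelProj.IsGrSymAlg E 𝒮 j) {𝒮' : RelProj.QCGrAlg Y'}
  {j' : (Scheme.Modules.pullback ψ).obj E ⟶ 𝒮'.toModule}
  (hj' : RelProj.IsGrSymAlg ((Scheme.Modules.pullback ψ).obj E) 𝒮' j')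

/-- The unit followed by `j'`. -/
def unitInto : E ⟶ (Scheme.Modules.pushforward ψ).obj 𝒮'.toModule :=
  (Scheme.Modules.pullbackPushforwardAdjunction ψ).unit.app E ≫ (Scheme.Modules.pushforward ψ).map j'

/-- The base change morphism of graded symmetric algebras. -/
def bcQ : RelProj.QGrHom ψ 𝒮 𝒮' :=
  symQ ψ hE hj (unitInto ψ (j' := j')) fun U _ U' hU' hle e => by
    let x : Γ((Scheme.Modules.pullback ψ).obj E, ψ ⁻¹ᵁ U) :=
      ((Scheme.Modules.pullbackPushforwardAdjunction ψ).unit.app E).app U e
    exact (rB_jv 𝒮'.toQCAlg j' hle x).symm ▸ hj'.2 U' hU' (((Scheme.Modules.pullback ψ).obj E).presheaf.map (homOfLE hle).op x)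

theorem isQBaseChange_bcQ : RelSpec.IsQBaseChange (bcQ ψ hE hj hj').toQHom :=
  isQBaseChange_of_unit ψ E hE 𝒮.toQCAlg j hj.1 𝒮'.toQCAlg j' hj'.1 _ fun _ hU x =>
    symQ_jv ψ hE hj (unitInto ψ (j' := j')) _ hU x

end Groth.Agent.RelVA16
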