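import Groth.Agent.RelVA16.FrameIso
import Groth.Agent.RelVA16.TwistSect
import Groth.Agent.InvX.Pullback
import Groth.Agent.ProjQX.Core

/-! The inverse image of a twist along the morphism of relative `Proj` of a graded `g`-morphism. -/

set_option autoImplicit false
set_option backward.isDefEq.respectTransparency false
set_option backward.isDefEq.respectTransparency.types false

universe u

open CategoryTheory CategoryTheory.Limits AlgebraicGeometry TopologicalSpace Opposite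
open scoped HomogeneousIdeal

noncomputable section

namespace Groth.Agent.RelVA16

open Groth.Agent Groth.Agent.AModX

theorem pullElt_res {X Z : Scheme.{u}} (h : X ⟶ Z) {M : Z.Modules} {O O' : Z.Opens} (i : O' ≤ O) (e : Γ(M, O)) :
    res _ (h.preimage_mono i) (InvX.pullElt h e) = InvX.pullElt h (res M i e) :=
  (app_res ((Scheme.Modules.pullbackPushforwardAdjunction h).unit.app M) i e).symm

theorem pullElt_smul {X Z : Scheme.{u}} (h : X ⟶ Z) {M : Z.Modules} {O : Z.Opens} (c : Γ(Z, O)) (e : Γ(M, O)) :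
    InvX.pullElt h (c • e) = (h.app O).hom c • InvX.pullElt h e :=
  Scheme.Modules.Hom.app_smul ((Scheme.Modules.pullbackPushforwardAdjunction h).unit.app M) c e

variable {Y Y' P P' : Scheme.{u}} {ψ : Y' ⟶ Y} {𝒮 : RelProj.QCGrAlg Y} {𝒮' : RelProj.QCGrAlg Y'}
  {p : P ⟶ Y}
  {chart : ∀ (U : Y.Opens) (hU : IsAffineOpen U), (((p ⁻¹ᵁ U : P.Opens) : Scheme.{u}) ≅ Proj (𝒮.deg U hU))}
  {p' : P' ⟶ Y'}
  {chart' : ∀ (U' : Y'.Opens) (hU' : IsAffineOpen U'), (((p' ⁻¹ᵁ U' : P'.Opens) : Scheme.{u}) ≅ Proj (𝒮'.deg U' hU'))}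
  (Q : RelProj.QGrHom ψ 𝒮 𝒮')
  (hirr : ∀ (U : Y.Opens) (hU : IsAffineOpen U) (U' : Y'.Opens) (hU' : IsAffineOpen U') (hle : U' ≤ ψ ⁻¹ᵁ U),
    (𝒮'.deg U' hU')₊ ≤ ((𝒮.deg U hU)₊).map (Q.gradedAt U hU U' hU' hle))
  (h : P' ⟶ P)
  (hh : ∀ (U : Y.Opens) (hU : IsAffineOpen U) (U' : Y'.Opens) (hU' : IsAffineOpen U') (hle : U' ≤ ψ ⁻¹ᵁ U),
    RelProj.emb p' chart' U' hU' ≫ h =
      Proj.map (Q.gradedAt U hU U' hU' hle) (hirr U hU U' hU' hle) ≫ RelProj.emb p chart U hU)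

theorem sect_congr {U : Y.Opens} (hU : IsAffineOpen U) {n : ℤ} {L : P.Modules}
    {lam : ∀ (U : Y.Opens) (hU : IsAffineOpen U),
      L ⟶ (Scheme.Modules.pushforward (RelProj.emb p chart U hU)).obj (GrTwist.twist (𝒮.deg U hU) n)}
    (hL : RelProj.IsRelTwist 𝒮 p chart n L lam) {f g : 𝒮.presheaf.obj (op U)} (hfg : f = g)
    (hf : f ∈ 𝒮.deg U hU 1) (hg : g ∈ 𝒮.deg U hU 1) {V : P.Opens} (hV : V ≤ dO p chart hU f)
    (hV' : V ≤ dO p chart hU g) : res L hV (sect hL hU hf) = res L hV' (sect hL hU hg) := by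
  subst hfg; rfl

include hh in
lemma preimage_dO_inf_le {U : Y.Opens} (hU : IsAffineOpen U) {U' : Y'.Opens} (hU' : IsAffineOpen U')
    (hle : U' ≤ ψ ⁻¹ᵁ U) (f : 𝒮.presheaf.obj (op U)) :
    h ⁻¹ᵁ dO p chart hU f ⊓ p' ⁻¹ᵁ U' ≤ dO p' chart' hU' (Q.gradedAt U hU U' hU' hle f) := by
  rintro x ⟨hx, hx'⟩
  obtain ⟨y, rfl⟩ : x ∈ (RelProj.emb p' chart' U' hU').opensRange := by
    rw [RelTildeX.opensRange_emb]; exact hx'
  have h1 : Proj.map (Q.gradedAt U hU U' hU' hle) (hirr U hU U' hU' hle) y ∈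
      RelProj.emb p chart U hU ⁻¹ᵁ dO p chart hU f := by
    show RelProj.emb p chart U hU (Proj.map (Q.gradedAt U hU U' hU' hle) (hirr U hU U' hU' hle) y) ∈ dO p chart hU f
    rw [← Scheme.Hom.comp_apply, ← hh U hU U' hU' hle, Scheme.Hom.comp_apply]
    exact hx
  rw [preimage_dO] at h1
  exact emb_mem_dO hU' h1

section

variable {n : ℤ} {L : P.Modules}
  {lam : ∀ (U : Y.Opens) (hU : IsAffineOpen U),
    L ⟶ (Scheme.Modules.pushforward (RelProj.emb p chart U hU)).obj (GrTwist.twist (𝒮.deg U hU) n)}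
  (hL : RelProj.IsRelTwist 𝒮 p chart n L lam) {L' : P'.Modules}
  {lam' : ∀ (U' : Y'.Opens) (hU' : IsAffineOpen U'),
    L' ⟶ (Scheme.Modules.pushforward (RelProj.emb p' chart' U' hU')).obj (GrTwist.twist (𝒮'.deg U' hU') n)}
  (hL' : RelProj.IsRelTwist 𝒮' p' chart' n L' lam')

include hL in
theorem pull_sect_basic (hP : RelProj.IsRelProj 𝒮 p chart) {U D : Y.Opens} (hU : IsAffineOpen U)
    (hD : IsAffineOpen D) (hb : RelTildeX.Exists.IsBasic U D) {f : 𝒮.presheaf.obj (op U)}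
    (hf : f ∈ 𝒮.deg U hU 1) {K : P.Opens} (hK : K ≤ dO p chart hU f)
    (hK' : K ≤ dO p chart hD (𝒮.res hU hD hb.le f)) {O V : P'.Opens} (hO : O ≤ h ⁻¹ᵁ dO p chart hU f)
    (hVO : V ≤ O) (hV : V ≤ h ⁻¹ᵁ K) :
    res _ hVO (res _ hO (InvX.pullElt h (sect hL hU hf))) =
      res _ hV (InvX.pullElt h (res L hK' (sect hL hD (𝒮.map_mem hU hD hb.le hf)))) := by
  rw [res_res, ← sect_basic hL hP hU hD hb hf hK hK', ← pullElt_res h hK, res_res]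

include hh in
theorem pair_smul {D : Y.Opens} (hD : IsAffineOpen D) {D' : Y'.Opens} (hD' : IsAffineOpen D')
    (hr : D' ≤ ψ ⁻¹ᵁ D) {f₁ f₂ : 𝒮.presheaf.obj (op D)} (hf₁ : f₁ ∈ 𝒮.deg D hD 1) (hf₂ : f₂ ∈ 𝒮.deg D hD 1)
    {K : P.Opens} (hK₁ : K ≤ dO p chart hD f₁) (hK₂ : K ≤ dO p chart hD f₂) (c : Γ(P, K))
    (hc : res L hK₂ (sect hL hD hf₂) = c • res L hK₁ (sect hL hD hf₁)) {V : P'.Opens} (hVh : V ≤ h ⁻¹ᵁ K)
    (hVD : V ≤ p' ⁻¹ᵁ D') (hU₁ : V ≤ dO p' chart' hD' (Q.gradedAt D hD D' hD' hr f₁))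
    (hU₂ : V ≤ dO p' chart' hD' (Q.gradedAt D hD D' hD' hr f₂)) :
    res L' hU₂ (sect hL' hD' ((Q.gradedAt D hD D' hD' hr).map_mem hf₂)) =
      resR hVh ((h.app K).hom c) • res L' hU₁ (sect hL' hD' ((Q.gradedAt D hD D' hD' hr).map_mem hf₁)) := by
  let φ := Q.gradedAt D hD D' hD' hr
  refine eq_of_val hL' hD' hVD _ _ fun y => ?_
  rw [val_smul (lam := lam') hD', val_sect hL' hD' _ hU₂ y, val_sect hL' hD' _ hU₁ y]
  let em := RelProj.emb p chart D hD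
  let em' := RelProj.emb p' chart' D' hD'
  have hmy : Proj.map φ (hirr D hD D' hD' hr) y.1 ∈ em ⁻¹ᵁ K := by
    show em (Proj.map φ (hirr D hD D' hD' hr) y.1) ∈ K
    rw [← Scheme.Hom.comp_apply, ← hh D hD D' hD' hr, Scheme.Hom.comp_apply]
    exact hVh y.2
  have hcv := congrArg (fun s => GrTwist.val (V := em ⁻¹ᵁ K) ((lam D hD).app K s) ⟨_, hmy⟩) hc
  simp only [val_smul (lam := lam) hD] at hcv
  rw [val_sect hL hD hf₂, val_sect hL hD hf₁] at hcv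
  have h1 : em' ⁻¹ᵁ V ≤ (em' ≫ h) ⁻¹ᵁ K := em'.preimage_mono hVh
  have h3 : (em'.app V).hom (resR hVh ((h.app K).hom c)) = ((em' ≫ h).appLE K (em' ⁻¹ᵁ V) h1).hom c := by
    rw [← Scheme.Hom.appLE_comp_appLE em' h K V (em' ⁻¹ᵁ V) hVh le_rfl, ← Scheme.Hom.app_eq_appLE]
    rfl
  have heq : ∀ (k : Proj (𝒮'.deg D' hD') ⟶ P) (hk : em' ≫ h = k) (h2 : em' ⁻¹ᵁ V ≤ k ⁻¹ᵁ K),
      (em' ≫ h).appLE K _ h1 = k.appLE K _ h2 := by
    rintro k rfl h2; rfl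
  have key : (((em'.app V).hom (resR hVh ((h.app K).hom c))).1 y).val =
      GrTwist.locMap φ (hirr D hD D' hD' hr) y.1 ((((em.app K).hom c).1 ⟨_, hmy⟩).val) := by
    let m := Proj.map φ (hirr D hD D' hD' hr)
    have h4 : em' ⁻¹ᵁ V ≤ m ⁻¹ᵁ (em ⁻¹ᵁ K) := fun z hz => by
      show em (m z) ∈ K
      rw [← Scheme.Hom.comp_apply, ← hh D hD D' hD' hr, Scheme.Hom.comp_apply]
      exact hVh hz
    rw [h3, heq (m ≫ em) (hh D hD D' hD' hr) h4,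
      ← Scheme.Hom.appLE_comp_appLE m em K (em ⁻¹ᵁ K) (em' ⁻¹ᵁ V) le_rfl h4, ← Scheme.Hom.app_eq_appLE,
      CommRingCat.comp_apply]
    have hv : (((m.appLE (em ⁻¹ᵁ K) (em' ⁻¹ᵁ V) h4).hom ((em.app K).hom c)).1 y) =
        (Proj.comapStructureSheaf φ (hirr D hD D' hD' hr) (em ⁻¹ᵁ K) (m ⁻¹ᵁ (em ⁻¹ᵁ K)) Set.Subset.rfl
          ((em.app K).hom c)).1 ⟨y.1, h4 y.2⟩ := rfl
    refine (congrArg HomogeneousLocalization.val hv).trans ?_
    rw [GrTwist.comapStructureSheaf_apply, HomogeneousLocalization.val_localRingHom]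
    rfl
  rw [key]
  have h2 := congrArg (GrTwist.locMap φ (hirr D hD D' hD' hr) y.1) hcv
  rw [map_mul] at h2
  exact (locMap_frVal φ (hirr D hD D' hD' hr) n y.1 f₂ (notMem_of_mem hD hK₂ _ hmy)).symm.trans
    (h2.trans (congrArg _ (locMap_frVal φ (hirr D hD D' hD' hr) n y.1 f₁ (notMem_of_mem hD hK₁ _ hmy))))

include hh in
theorem compat (hP : RelProj.IsRelProj 𝒮 p chart) (hP' : RelProj.IsRelProj 𝒮' p' chart')
    (hcomm : h ≫ p = p' ≫ ψ) {A B : Y.Opens} (hA : IsAffineOpen A) (hB : IsAffineOpen B) {A' B' : Y'.Opens}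
    (hA' : IsAffineOpen A') (hB' : IsAffineOpen B') (hla : A' ≤ ψ ⁻¹ᵁ A) (hlb : B' ≤ ψ ⁻¹ᵁ B)
    {fa : 𝒮.presheaf.obj (op A)} (hfa : fa ∈ 𝒮.deg A hA 1) {fb : 𝒮.presheaf.obj (op B)}
    (hfb : fb ∈ 𝒮.deg B hB 1) (hg₁ : Q.gradedAt A hA A' hA' hla fa ∈ 𝒮'.deg A' hA' 1)
    (hg₂ : Q.gradedAt B hB B' hB' hlb fb ∈ 𝒮'.deg B' hB' 1)
    (hl₁ : h ⁻¹ᵁ dO p chart hA fa ⊓ p' ⁻¹ᵁ A' ≤ dO p' chart' hA' (Q.gradedAt A hA A' hA' hla fa))
    (hl₂ : h ⁻¹ᵁ dO p chart hB fb ⊓ p' ⁻¹ᵁ B' ≤ dO p' chart' hB' (Q.gradedAt B hB B' hB' hlb fb))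
    (W : P'.Opens) (ha : W ≤ h ⁻¹ᵁ dO p chart hA fa ⊓ p' ⁻¹ᵁ A') (hb : W ≤ h ⁻¹ᵁ dO p chart hB fb ⊓ p' ⁻¹ᵁ B')
    (g : Γ(P', W))
    (hg : res _ hb (res _ inf_le_left (InvX.pullElt h (sect hL hB hfb))) =
      g • res _ ha (res _ inf_le_left (InvX.pullElt h (sect hL hA hfa)))) :
    res L' hb (res L' hl₂ (sect hL' hB' hg₂)) = g • res L' ha (res L' hl₁ (sect hL' hA' hg₁)) := by
  refine AModX.eq_of_locally _ _ fun x hx => ?_
  obtain ⟨D, hD, hbU, hbV, hxD⟩ := RelTildeX.Exists.exists_common hA hB (x := p (h x))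
    ⟨dO_le hA _ (ha hx).1, dO_le hB _ (hb hx).1⟩
  obtain ⟨D₀, hD₀, hb1, hb2, hxD₀⟩ := RelTildeX.Exists.exists_common hA' hB' (x := p' x)
    ⟨(ha hx).2, (hb hx).2⟩
  obtain ⟨r, hr, hxr⟩ := hD₀.exists_basicOpen_le (V := ψ ⁻¹ᵁ D) ⟨p' x, by
    show ψ (p' x) ∈ D
    rw [← Scheme.Hom.comp_apply, ← hcomm]
    exact hxD⟩ hxD₀
  have hB1 := hb1.trans hA' (D := D₀) ⟨r, rfl⟩
  have hB2 := hb2.trans hB' (D := D₀) ⟨r, rfl⟩
  let D' := Y'.basicOpen r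
  have hD' : IsAffineOpen D' := hD₀.basicOpen r
  let f₁ := 𝒮.res hA hD hbU.le fa
  let f₂ := 𝒮.res hB hD hbV.le fb
  have hf₁ : f₁ ∈ 𝒮.deg D hD 1 := 𝒮.map_mem hA hD hbU.le hfa
  have hf₂ : f₂ ∈ 𝒮.deg D hD 1 := 𝒮.map_mem hB hD hbV.le hfb
  let φ := Q.gradedAt D hD D' hD' hr
  let K : P.Opens := (dO p chart hA fa ⊓ dO p chart hD f₁) ⊓ (dO p chart hB fb ⊓ dO p chart hD f₂)
  let V : P'.Opens := W ⊓ (h ⁻¹ᵁ K ⊓ p' ⁻¹ᵁ D')
  have down : ∀ {U : Y.Opens} (hU : IsAffineOpen U) (hb : RelTildeX.Exists.IsBasic U D)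
      (f : 𝒮.presheaf.obj (op U)), h x ∈ dO p chart hU f → h x ∈ dO p chart hD (𝒮.res hU hD hb.le f) := by
    intro U hU hb f hfx
    obtain ⟨y, hy⟩ : h x ∈ (RelProj.emb p chart D hD).opensRange := by rw [RelTildeX.opensRange_emb]; exact hxD
    have h1 : RelTildeX.Exists.pt hU hD hb y ∈ RelProj.emb p chart U hU ⁻¹ᵁ dO p chart hU f := by
      show RelProj.emb p chart U hU _ ∈ dO p chart hU f
      rw [RelTildeX.Exists.emb_pt p chart hP hU hD hb y, hy]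
      exact hfx
    rw [preimage_dO] at h1
    rw [← hy]
    exact emb_mem_dO hD h1
  refine ⟨V, inf_le_left, ⟨hx, ⟨⟨(ha hx).1, down _ hbU _ (ha hx).1⟩, ⟨(hb hx).1, down _ hbV _ (hb hx).1⟩⟩, hxr⟩, ?_⟩
  have hVh : V ≤ h ⁻¹ᵁ K := inf_le_right.trans inf_le_left
  have hV₁ : V ≤ h ⁻¹ᵁ dO p chart hD f₁ := hVh.trans (h.preimage_mono (inf_le_left.trans inf_le_right))
  have hV₂ : V ≤ h ⁻¹ᵁ dO p chart hD f₂ := hVh.trans (h.preimage_mono (inf_le_right.trans inf_le_right))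
  have hVD : V ≤ p' ⁻¹ᵁ D' := inf_le_right.trans inf_le_right
  have hU₁ : V ≤ dO p' chart' hD' (φ f₁) := (le_inf hV₁ hVD).trans (preimage_dO_inf_le Q hirr h hh hD hD' hr f₁)
  have hU₂ : V ≤ dO p' chart' hD' (φ f₂) := (le_inf hV₂ hVD).trans (preimage_dO_inf_le Q hirr h hh hD hD' hr f₂)
  obtain ⟨c, hc⟩ := (isFrame_sect hL hD hf₁).exists_coord (V := K) (inf_le_left.trans inf_le_right)
    (res L (inf_le_right.trans inf_le_right) (sect hL hD hf₂))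
  have hea : res _ ((inf_le_left : V ≤ W).trans ha) (res ((Scheme.Modules.pullback h).obj L) inf_le_left (InvX.pullElt h (sect hL hA hfa))) =
      res _ hVh (InvX.pullElt h (res L ((inf_le_left.trans inf_le_right : K ≤ dO p chart hD f₁)) (sect hL hD hf₁))) :=
    pull_sect_basic h hL hP hA hD hbU hfa (inf_le_left.trans inf_le_left) (inf_le_left.trans inf_le_right)
      inf_le_left _ hVh
  have heb : res _ ((inf_le_left : V ≤ W).trans hb) (res ((Scheme.Modules.pullback h).obj L) inf_le_left (InvX.pullElt h (sect hL hB hfb))) =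
      res _ hVh (InvX.pullElt h (res L ((inf_le_right.trans inf_le_right : K ≤ dO p chart hD f₂)) (sect hL hD hf₂))) :=
    pull_sect_basic h hL hP hB hD hbV hfb (inf_le_right.trans inf_le_left) (inf_le_right.trans inf_le_right)
      inf_le_left _ hVh
  have hgV : resR (inf_le_left : V ≤ W) g = resR hVh ((h.app K).hom c) := by
    refine ((InvX.isFrame_pullElt h (isFrame_sect hL hA hfa)).res inf_le_left).coord_unique ((inf_le_left : V ≤ W).trans ha) ?_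
    have h1 : res _ ((inf_le_left : V ≤ W).trans hb) (res ((Scheme.Modules.pullback h).obj L) inf_le_left (InvX.pullElt h (sect hL hB hfb))) =
        resR (inf_le_left : V ≤ W) g • res _ ((inf_le_left : V ≤ W).trans ha) (res ((Scheme.Modules.pullback h).obj L) inf_le_left (InvX.pullElt h (sect hL hA hfa))) := by
      refine (res_res hb (inf_le_left : V ≤ W) (res ((Scheme.Modules.pullback h).obj L) inf_le_left (InvX.pullElt h (sect hL hB hfb)))).symm.trans ((congrArg (res _ (inf_le_left : V ≤ W)) hg).trans ?_)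
      rw [res_smul]
      exact congrArg (resR (inf_le_left : V ≤ W) g • ·) (res_res ha (inf_le_left : V ≤ W) (res ((Scheme.Modules.pullback h).obj L) inf_le_left (InvX.pullElt h (sect hL hA hfa))))
    rw [← h1, hea, heb, hc, pullElt_smul, res_smul]
  have hta : res L' ((inf_le_left : V ≤ W).trans ha) (res L' hl₁ (sect hL' hA' hg₁)) = res L' hU₁ (sect hL' hD' (φ.map_mem hf₁)) := by
    show res L' _ (res L' _ _) = _
    rw [res_res]
    have h1 := sect_basic hL' hP' hA' hD' hB1 hg₁ (((inf_le_left : V ≤ W).trans ha).trans hl₁)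
      (by rw [← ProjQX.comm_res Q hA hD hA' hD' hbU.le hB1.le hla hr]; exact hU₁)
    exact h1.trans (sect_congr hD' hL' (ProjQX.comm_res Q hA hD hA' hD' hbU.le hB1.le hla hr _).symm _ _ _ _)
  have htb : res L' ((inf_le_left : V ≤ W).trans hb) (res L' hl₂ (sect hL' hB' hg₂)) = res L' hU₂ (sect hL' hD' (φ.map_mem hf₂)) := by
    show res L' _ (res L' _ _) = _
    rw [res_res]
    have h1 := sect_basic hL' hP' hB' hD' hB2 hg₂ (((inf_le_left : V ≤ W).trans hb).trans hl₂)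
      (by rw [← ProjQX.comm_res Q hB hD hB' hD' hbV.le hB2.le hlb hr]; exact hU₂)
    exact h1.trans (sect_congr hD' hL' (ProjQX.comm_res Q hB hD hB' hD' hbV.le hB2.le hlb hr _).symm _ _ _ _)
  refine (res_res hb (inf_le_left : V ≤ W) _).trans (htb.trans ?_)
  rw [res_smul, hgV]
  refine Eq.trans ?_ (congrArg (resR hVh ((h.app K).hom c) • ·)
    (hta.symm.trans (res_res ha (inf_le_left : V ≤ W) _).symm))
  exact pair_smul Q hirr h hh hL hL' hD hD' hr hf₁ hf₂ (inf_le_left.trans inf_le_right)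
    (inf_le_right.trans inf_le_right) c hc hVh hVD hU₁ hU₂

end

include hh in
theorem nonempty_pullback_twist_iso (hP : RelProj.IsRelProj 𝒮 p chart) (hP' : RelProj.IsRelProj 𝒮' p' chart')
    (hgen : 𝒮.IsGenDegOne) (hcomm : h ≫ p = p' ≫ ψ) {n : ℤ} {L : P.Modules}
    {lam : ∀ (U : Y.Opens) (hU : IsAffineOpen U),
      L ⟶ (Scheme.Modules.pushforward (RelProj.emb p chart U hU)).obj (GrTwist.twist (𝒮.deg U hU) n)}
    (hL : RelProj.IsRelTwist 𝒮 p chart n L lam) {L' : P'.Modules}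
    {lam' : ∀ (U' : Y'.Opens) (hU' : IsAffineOpen U'),
      L' ⟶ (Scheme.Modules.pushforward (RelProj.emb p' chart' U' hU')).obj (GrTwist.twist (𝒮'.deg U' hU') n)}
    (hL' : RelProj.IsRelTwist 𝒮' p' chart' n L' lam') :
    Nonempty ((Scheme.Modules.pullback h).obj L ≅ L') := by
  let ι := Σ U : Y.affineOpens, Σ _ : {U' : Y'.affineOpens // U'.1 ≤ ψ ⁻¹ᵁ U.1},
    {f : 𝒮.presheaf.obj (op U.1) // f ∈ 𝒮.deg U.1 U.2 1}
  let O : ι → P'.Opens := fun a => h ⁻¹ᵁ dO p chart a.1.2 a.2.2.1 ⊓ p' ⁻¹ᵁ a.2.1.1.1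
  have hf' : ∀ a : ι, Q.gradedAt a.1.1 a.1.2 a.2.1.1.1 a.2.1.1.2 a.2.1.2 a.2.2.1 ∈
      𝒮'.deg a.2.1.1.1 a.2.1.1.2 1 :=
    fun a => (Q.gradedAt a.1.1 a.1.2 a.2.1.1.1 a.2.1.1.2 a.2.1.2).map_mem a.2.2.2
  have hle' := fun a : ι => preimage_dO_inf_le Q hirr h hh a.1.2 a.2.1.1.2 a.2.1.2 a.2.2.1
  let e : ∀ a, Γ((Scheme.Modules.pullback h).obj L, O a) := fun a =>
    res _ inf_le_left (InvX.pullElt h (sect hL a.1.2 a.2.2.2))
  let t : ∀ a, Γ(L', O a) := fun a => res L' (hle' a) (sect hL' a.2.1.1.2 (hf' a))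
  have hcov : ∀ x, ∃ a, x ∈ O a := fun x => by
    obtain ⟨_, ⟨U, hU, rfl⟩, hxU, -⟩ := Y.isBasis_affineOpens.exists_subset_of_mem_open
      (Set.mem_univ (p (h x))) isOpen_univ
    obtain ⟨z, hz⟩ : h x ∈ (RelProj.emb p chart U hU).opensRange := by rw [RelTildeX.opensRange_emb]; exact hxU
    obtain ⟨f, hf, hfz⟩ : ∃ f ∈ 𝒮.deg U hU 1, f ∉ (z : ProjectiveSpectrum (𝒮.deg U hU)).asHomogeneousIdeal := by
      by_contra! hall
      exact (z : ProjectiveSpectrum (𝒮.deg U hU)).not_irrelevant_le (show ((𝒮.deg U hU)₊).toIdeal ≤ _ from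
        RelTildeX.irrelevant_eq_span_deg_one hgen U hU ▸ Ideal.span_le.mpr hall)
    have hψ : p' x ∈ ψ ⁻¹ᵁ U := by
      show ψ (p' x) ∈ U
      rw [← Scheme.Hom.comp_apply, ← hcomm]
      exact hxU
    obtain ⟨U', hU', hxU', hle⟩ := exists_isAffineOpen_mem_and_subset (X := Y') (x := p' x) (U := ψ ⁻¹ᵁ U) hψ
    refine ⟨⟨⟨U, hU⟩, ⟨⟨U', hU'⟩, hle⟩, ⟨f, hf⟩⟩, ?_, hxU'⟩
    show h x ∈ dO p chart hU f
    rw [← hz]
    exact emb_mem_dO hU hfz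
  have he : ∀ a, InvX.IsFrame (e a) := fun a => (InvX.isFrame_pullElt h (isFrame_sect hL a.1.2 a.2.2.2)).res _
  have hn : ∀ a, InvX.IsFrame (t a) := fun a => (isFrame_sect hL' a.2.1.1.2 (hf' a)).res _
  obtain ⟨φ, -⟩ := exists_iso_of_frames O hcov e he t hn fun a b W ha hb g hg =>
    compat Q hirr h hh hL hL' hP hP' hcomm a.1.2 b.1.2 a.2.1.1.2 b.2.1.1.2 a.2.1.2 b.2.1.2 a.2.2.2 b.2.2.2
      (hf' a) (hf' b) (hle' a) (hle' b) W ha hb g hg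
  exact ⟨φ⟩

end Groth.Agent.RelVA16
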