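import Groth.Agent.RelVA16.QMap
import Groth.Agent.RelVA16.SymBC
import Groth.Agent.RelVA16.TwistPull
import Groth.Agent.H28.PBSym
import Groth.Agent.RelTildeX.ExistsTwist
import Groth.Agent.SymAlgX.Gen
import Groth.Agent.S8258

/-! Projective bundles with their `O(1)`: existence and base change. -/

set_option autoImplicit false
set_option backward.isDefEq.respectTransparency false
set_option backward.isDefEq.respectTransparency.types false

universe u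

open CategoryTheory CategoryTheory.Limits AlgebraicGeometry TopologicalSpace Opposite
open scoped HomogeneousIdeal

noncomputable section

namespace Groth.Agent.RelVA16

/-- A projective bundle `P(E)` with its fundamental sheaf. -/
structure PB (Y : Scheme.{u}) (E : Y.Modules) : Type (u + 1) where
  hE : Coh.IsQCoh E
  𝒮 : RelProj.QCGrAlg Y
  j : E ⟶ 𝒮.toModule
  hj : RelProj.IsGrSymAlg E 𝒮 j
  P : Scheme.{u}
  p : P ⟶ Y
  chart : ∀ (U : Y.Opens) (hU : IsAffineOpen U), (((p ⁻¹ᵁ U : P.Opens) : Scheme.{u}) ≅ Proj (𝒮.deg U hU))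
  hP : RelProj.IsRelProj 𝒮 p chart
  O1 : P.Modules
  lam : ∀ (U : Y.Opens) (hU : IsAffineOpen U),
    O1 ⟶ (Scheme.Modules.pushforward (RelProj.emb p chart U hU)).obj (GrTwist.twist (𝒮.deg U hU) 1)
  hO1 : RelProj.IsRelTwist 𝒮 p chart 1 O1 lam

theorem PB.exists_of_isQCoh {Y : Scheme.{u}} {E : Y.Modules} (hE : Coh.IsQCoh E) : Nonempty (PB Y E) := by
  obtain ⟨P, p, chart, hP⟩ := S8258.result (H28.PBSym.grSymAlg hE)
  obtain ⟨O1, lam, hO1⟩ := RelTildeX.Exists.exists_isRelTwist (H28.PBSym.grSymAlg hE) p chart hP 1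
  exact ⟨⟨hE, _, _, H28.PBSym.isGrSymAlg hE, P, p, chart, hP, O1, lam, hO1⟩⟩

theorem PB.gen {Y : Scheme.{u}} {E : Y.Modules} (B : PB Y E) : B.𝒮.IsGenDegOne :=
  SymAlgX.isGenDegOne B.hE B.hj

/-- An immersion into a projective bundle witnesses very ampleness. -/
theorem PB.isRelVeryAmple {Y X : Scheme.{u}} {E : Y.Modules} (B : PB Y E) {f : X ⟶ Y} (L : X.Modules)
    (i : X ⟶ B.P) [IsImmersion i] (hi : i ≫ B.p = f) (e : L ≅ (Scheme.Modules.pullback i).obj B.O1) :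
    RelProj.IsRelVeryAmple f L :=
  ⟨E, B.hE, B.𝒮, B.j, B.hj, B.P, B.p, B.chart, B.hP, B.O1, B.lam, B.hO1, i, inferInstance, hi, ⟨e⟩⟩

theorem exists_pb_of_isRelVeryAmple {Y X : Scheme.{u}} {f : X ⟶ Y} {L : X.Modules}
    (h : RelProj.IsRelVeryAmple f L) :
    ∃ (E : Y.Modules) (B : PB Y E) (i : X ⟶ B.P),
      IsImmersion i ∧ i ≫ B.p = f ∧ Nonempty (L ≅ (Scheme.Modules.pullback i).obj B.O1) := by
  obtain ⟨E, hE, 𝒮, j, hj, P, p, chart, hP, O1, lam, hO1, i, hi, hf, he⟩ := h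
  exact ⟨E, ⟨hE, 𝒮, j, hj, P, p, chart, hP, O1, lam, hO1⟩, i, hi, hf, he⟩

/-- `P(g^*E) = P(E) ×_Y Y'`, compatibly with `O(1)`. -/
theorem PB.exists_baseChange {Y Y' : Scheme.{u}} (g : Y' ⟶ Y) {E : Y.Modules} (B : PB Y E)
    (B' : PB Y' ((Scheme.Modules.pullback g).obj E)) :
    ∃ h : B'.P ⟶ B.P, IsPullback h B'.p B.p g ∧ Nonempty ((Scheme.Modules.pullback h).obj B.O1 ≅ B'.O1) := by
  let Q := bcQ g B.hE B.hj B'.hj
  have hQ : RelSpec.IsQBaseChange Q.toQHom := isQBaseChange_bcQ g B.hE B.hj B'.hj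
  obtain ⟨⟨h, hh⟩, hpb⟩ := S12141.result g B.𝒮 B'.𝒮 Q hQ B.p B.chart B.hP B'.p B'.chart B'.hP
  exact ⟨h, hpb h hh, nonempty_pullback_twist_iso Q (irr_of_isQBaseChange Q hQ) h
    (fun U hU U' hU' hle => map_of_isProjQMap Q hh U hU U' hU' hle _) B.hP B'.hP B.gen (hpb h hh).w B.hO1 B'.hO1⟩

theorem isRelVeryAmple_baseChange {X Y X' Y' : Scheme.{u}} {f : X ⟶ Y} {g : Y' ⟶ Y} {g' : X' ⟶ X}
    {f' : X' ⟶ Y'} (hsq : IsPullback g' f' f g) {L : X.Modules} (hva : RelProj.IsRelVeryAmple f L) :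
    RelProj.IsRelVeryAmple f' ((Scheme.Modules.pullback g').obj L) := by
  obtain ⟨E, B, i, hi, hf, ⟨e⟩⟩ := exists_pb_of_isRelVeryAmple hva
  obtain ⟨B'⟩ := PB.exists_of_isQCoh (QCoh.isQCoh_pullback g B.hE)
  obtain ⟨h, hpb, ⟨eO⟩⟩ := B.exists_baseChange g B'
  let i' : X' ⟶ B'.P := hpb.lift (g' ≫ i) f' (by rw [Category.assoc, hf]; exact hsq.w)
  have h1 : i' ≫ h = g' ≫ i := hpb.lift_fst _ _ _
  have h2 : i' ≫ B'.p = f' := hpb.lift_snd _ _ _
  have hs : IsPullback g' (i' ≫ B'.p) (i ≫ B.p) g := by rw [h2, hf]; exact hsq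
  have : IsImmersion i' :=
    MorphismProperty.of_isPullback (P := @IsImmersion) (IsPullback.of_bot hs h1.symm hpb) hi
  refine B'.isRelVeryAmple _ i' h2 ?_
  exact (Scheme.Modules.pullback g').mapIso e ≪≫ (Scheme.Modules.pullbackComp g' i).app B.O1 ≪≫
    (Scheme.Modules.pullbackCongr h1.symm).app B.O1 ≪≫ ((Scheme.Modules.pullbackComp i' h).app B.O1).symm ≪≫
    (Scheme.Modules.pullback i').mapIso eO

end Groth.Agent.RelVA16

namespace Groth.Agent.RelVA16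

theorem isRelVeryAmple_of_comp {X Y Z : Scheme.{u}} (f : X ⟶ Y) (g : Y ⟶ Z) {L : X.Modules}
    (hva : RelProj.IsRelVeryAmple (f ≫ g) L) : RelProj.IsRelVeryAmple f L := by
  obtain ⟨E, B, i, hi, hf, ⟨e⟩⟩ := exists_pb_of_isRelVeryAmple hva
  obtain ⟨B'⟩ := PB.exists_of_isQCoh (QCoh.isQCoh_pullback g B.hE)
  obtain ⟨h, hpb, ⟨eO⟩⟩ := B.exists_baseChange g B'
  let i' : X ⟶ B'.P := hpb.lift i f hf
  have h1 : i' ≫ h = i := hpb.lift_fst _ _ _
  have : IsImmersion (i' ≫ h) := by rw [h1]; exact hi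
  have : IsImmersion i' := IsImmersion.of_comp i' h
  refine B'.isRelVeryAmple _ i' (hpb.lift_snd _ _ _) ?_
  exact e ≪≫ (Scheme.Modules.pullbackCongr h1.symm).app B.O1 ≪≫
    ((Scheme.Modules.pullbackComp i' h).app B.O1).symm ≪≫ (Scheme.Modules.pullback i').mapIso eO

end Groth.Agent.RelVA16
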