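import Groth.Agent.RelVA16.Bundle
import Groth.Agent.RelVA16.Pairs
import Groth.Agent.QCoh.AlgGen
import Groth.Agent.S8292

/-! A relative `Proj` generated in degree one as a closed subscheme of a projective bundle. -/

set_option autoImplicit false
set_option backward.isDefEq.respectTransparency false
set_option backward.isDefEq.respectTransparency.types false

universe u

open CategoryTheory CategoryTheory.Limits AlgebraicGeometry TopologicalSpace Opposite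
open scoped HomogeneousIdeal

noncomputable section

namespace Groth.Agent.RelVA16

open Groth.Agent Groth.Agent.AModX Groth.Agent.SymAlgX

variable {Y : Scheme.{u}} (𝒮 : RelProj.QCGrAlg Y)

/-- The projection to degree one, on affine opens. -/
def projOne (U : Y.Opens) (hU : IsAffineOpen U) : 𝒮.presheaf.obj (op U) →+ 𝒮.presheaf.obj (op U) :=
  AddMonoidHom.mk' (fun b => (DirectSum.decompose (𝒮.deg U hU) b 1 : 𝒮.presheaf.obj (op U))) fun a b => by
    simp only [DirectSum.decompose_add, DirectSum.add_apply, AddSubgroup.coe_add]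

theorem res_projOne {U V : Y.Opens} (hU : IsAffineOpen U) (hV : IsAffineOpen V) (i : V ≤ U)
    (b : 𝒮.presheaf.obj (op U)) :
    (𝒮.presheaf.map (homOfLE i).op).hom (projOne 𝒮 U hU b) =
      projOne 𝒮 V hV ((𝒮.presheaf.map (homOfLE i).op).hom b) :=
  by have := (𝒮.res hU hV i).map_directSumDecompose (x := b) (i := 1); exact this

theorem exists_projOne : ∃ u : 𝒮.toModule ⟶ 𝒮.toModule,
    ∀ (U : Y.Opens) (hU : IsAffineOpen U) (b : 𝒮.presheaf.obj (op U)),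
      (u.app U b : 𝒮.presheaf.obj (op U)) = projOne 𝒮 U hU b := by
  let M := 𝒮.toModule
  let Msh : TopCat.Sheaf AddCommGrpCat.{u} Y.carrier := ⟨M.presheaf, M.isSheaf⟩
  let α : (Scheme.AffineZariskiSite.toOpensFunctor Y).op ⋙ M.presheaf ⟶
      (Scheme.AffineZariskiSite.toOpensFunctor Y).op ⋙ M.presheaf :=
    { app := fun U => AddCommGrpCat.ofHom
        (show Γ(M, U.unop.1) →+ Γ(M, U.unop.1) from projOne 𝒮 U.unop.1 U.unop.2)
      naturality := fun U V i => by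
        ext b
        exact (res_projOne 𝒮 U.unop.2 V.unop.2 (Scheme.AffineZariskiSite.toOpens_mono (leOfHom i.unop)) b).symm }
  let eqv := Functor.IsCoverDense.restrictHomEquivHom (G := Scheme.AffineZariskiSite.toOpensFunctor Y)
    (K := Opens.grothendieckTopology Y) (ℱ := M.presheaf) (ℱ' := Msh)
  let β : M.presheaf ⟶ M.presheaf := eqv α
  have happ : ∀ (U : Y.Opens) (hU : IsAffineOpen U) (b : Γ(M, U)), β.app (op U) b = projOne 𝒮 U hU b :=
    fun U hU b => ConcreteCategory.congr_hom (NatTrans.congr_app (eqv.symm_apply_apply α) (op ⟨U, hU⟩)) b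
  refine ⟨⟨PresheafOfModules.homMk β fun O (r : Γ(Y, O.unop)) (e : Γ(M, O.unop)) => ?_⟩, happ⟩
  refine AModX.eq_of_locally (M := M) _ _ fun x hx => ?_
  obtain ⟨_, ⟨U, hU, rfl⟩, hxU, hUO⟩ := Y.isBasis_affineOpens.exists_subset_of_mem_open hx O.unop.2
  refine ⟨U, hUO, hxU, ?_⟩
  have hn : ∀ z : Γ(M, O.unop), res M hUO (β.app O z) = β.app (op U) (res M hUO z) := fun z =>
    (ConcreteCategory.congr_hom (β.naturality (homOfLE hUO).op) z).symm
  show res M hUO (β.app O (r • e)) = res M hUO (r • (show Γ(M, O.unop) from β.app O e))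
  rw [hn, res_smul, res_smul, hn, happ U hU, happ U hU]
  exact DirectSum.coe_decompose_mul_of_left_mem_zero (𝒮.deg U hU)
    (a := (𝒮.str.app (op U)).hom (resR hUO r)) (b := (show 𝒮.presheaf.obj (op U) from res M hUO e)) (j := 1)
    (𝒮.str_mem U hU _)

theorem exists_closedImmersion_pb {P : Scheme.{u}} {p : P ⟶ Y}
    {chart : ∀ (U : Y.Opens) (hU : IsAffineOpen U), (((p ⁻¹ᵁ U : P.Opens) : Scheme.{u}) ≅ Proj (𝒮.deg U hU))}
    (hgen : 𝒮.IsGenDegOne) (hP : RelProj.IsRelProj 𝒮 p chart) {O1 : P.Modules}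
    {lam : ∀ (U : Y.Opens) (hU : IsAffineOpen U),
      O1 ⟶ (Scheme.Modules.pushforward (RelProj.emb p chart U hU)).obj (GrTwist.twist (𝒮.deg U hU) 1)}
    (hO1 : RelProj.IsRelTwist 𝒮 p chart 1 O1 lam) {M : Y.Modules} (hM : Coh.IsQCoh M) (u : M ⟶ 𝒮.toModule)
    (hu1 : ∀ (U : Y.Opens) (hU : IsAffineOpen U) (x : Γ(M, U)), (u.app U) x ∈ 𝒮.deg U hU 1)
    (husurj : ∀ (U : Y.Opens) (hU : IsAffineOpen U) (s : 𝒮.presheaf.obj (op U)), s ∈ 𝒮.deg U hU 1 →
      ∃ x : Γ(M, U), (u.app U) x = s) (B : PB Y M) :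
    ∃ ι : P ⟶ B.P, IsClosedImmersion ι ∧ ι ≫ B.p = p ∧
      Nonempty ((Scheme.Modules.pullback ι).obj B.O1 ≅ O1) := by
  obtain ⟨φ, hφu, -⟩ := B.hj.1 𝒮.toQCAlg u
  have hjv : ∀ (U : Y.Opens) (e : Γ(M, U)), (φ.hom.app (op U)).hom (jv B.𝒮.toQCAlg B.j U e) = u.app U e :=
    fun U e => congrArg (fun χ : M ⟶ 𝒮.toModule => χ.app U e) hφu
  have hφ : RelProj.IsGradedHom φ := fun U hU d x hx => by
    refine map_mem_of_gen (𝒜 := B.𝒮.deg U hU) (ℬ := 𝒮.deg U hU) _ _ (genAt_eq_top hM B.hj.1 hU) ?_ hx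
    rintro z (⟨a, rfl⟩ | ⟨e, rfl⟩)
    · refine ⟨0, B.𝒮.str_mem U hU a, ?_⟩
      rw [show (φ.hom.app (op U)).hom ((B.𝒮.str.app (op U)).hom a) = (𝒮.str.app (op U)).hom a from
        ConcreteCategory.congr_hom (NatTrans.congr_app φ.comm (op U)) a]
      exact 𝒮.str_mem U hU a
    · exact ⟨1, B.hj.2 U hU e, (hjv U e).symm ▸ hu1 U hU e⟩
  have hs : ∀ (U : Y.Opens) (hU : IsAffineOpen U), (𝒮.deg U hU)₊ ≤
      ((B.𝒮.deg U hU)₊).map (RelProj.gradedHomAt φ hφ U hU) := fun U hU => by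
    show ((𝒮.deg U hU)₊).toIdeal ≤ _
    rw [RelTildeX.irrelevant_eq_span_deg_one hgen U hU, Ideal.span_le]
    intro s hs
    obtain ⟨x, hx⟩ := husurj U hU s hs
    rw [← hx, ← hjv U x]
    exact Ideal.mem_map_of_mem _ (HomogeneousIdeal.mem_irrelevant_of_mem (B.𝒮.deg U hU) Nat.one_pos (B.hj.2 U hU x))
  obtain ⟨ι, hι, -⟩ := Proj16.existsUnique_isRelProjMap φ hφ hs B.hP hP
  exact ⟨ι, S8292.result 𝒮 B.𝒮 hgen M hM u hu1 husurj B.j B.hj φ hφ hφu hs B.p p B.chart chart B.hP hP ι hι,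
    Proj16.relProjMap_comp B.hP hP hι,
    nonempty_pullback_twist_iso (RelProj.QGrHom.ofHom φ hφ) (irr_ofHom hs) ι (emb_ofHom hs B.hP hι) B.hP hP B.gen
      (by rw [Proj16.relProjMap_comp B.hP hP hι, Category.comp_id]) B.hO1 hO1⟩

theorem exists_closedImmersion_pb' {P : Scheme.{u}} {p : P ⟶ Y}
    {chart : ∀ (U : Y.Opens) (hU : IsAffineOpen U), (((p ⁻¹ᵁ U : P.Opens) : Scheme.{u}) ≅ Proj (𝒮.deg U hU))}
    (hgen : 𝒮.IsGenDegOne) (hP : RelProj.IsRelProj 𝒮 p chart) {O1 : P.Modules}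
    {lam : ∀ (U : Y.Opens) (hU : IsAffineOpen U),
      O1 ⟶ (Scheme.Modules.pushforward (RelProj.emb p chart U hU)).obj (GrTwist.twist (𝒮.deg U hU) 1)}
    (hO1 : RelProj.IsRelTwist 𝒮 p chart 1 O1 lam) :
    ∃ (B : PB Y 𝒮.toModule) (ι : P ⟶ B.P), IsClosedImmersion ι ∧ ι ≫ B.p = p ∧
      Nonempty ((Scheme.Modules.pullback ι).obj B.O1 ≅ O1) := by
  obtain ⟨B⟩ := PB.exists_of_isQCoh (QCoh.isQCoh_toModule 𝒮.toQCAlg)
  obtain ⟨u, hu⟩ := exists_projOne 𝒮
  exact ⟨B, exists_closedImmersion_pb 𝒮 hgen hP hO1 (QCoh.isQCoh_toModule 𝒮.toQCAlg) u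
    (fun U hU x => by rw [hu U hU]; exact SetLike.coe_mem _)
    (fun U hU s hs => ⟨s, (hu U hU s).trans (DirectSum.decompose_of_mem_same (𝒮.deg U hU) hs)⟩) B⟩

end Groth.Agent.RelVA16
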