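import Groth.Agent.RelVA16.ImgAlg
import Groth.Agent.RelVA16.DegOne
import Groth.Agent.ProjQX.Points

/-! The closed image of a morphism into a projective bundle is a relative `Proj`. -/

set_option autoImplicit false
set_option backward.isDefEq.respectTransparency false
set_option backward.isDefEq.respectTransparency.types false

universe u

open CategoryTheory CategoryTheory.Limits AlgebraicGeometry TopologicalSpace Opposite
open scoped HomogeneousIdeal

noncomputable section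

namespace Groth.Agent.RelVA16

open Groth.Agent Groth.Agent.AModX Groth.Agent.SymAlgX

theorem appLE_top_SpecMap_fromSpec {P : Scheme.{u}} {R : CommRingCat.{u}} {D : P.Opens} (hD : IsAffineOpen D)
    (φ : Γ(P, D) ⟶ R) (e : ⊤ ≤ (Spec.map φ ≫ hD.fromSpec) ⁻¹ᵁ D) :
    (Spec.map φ ≫ hD.fromSpec).appLE D ⊤ e = φ ≫ (Scheme.ΓSpecIso R).inv := by
  rw [Scheme.Hom.comp_appLE, IsAffineOpen.fromSpec_app_self, Category.assoc, Scheme.Hom.map_appLE,
    Scheme.ΓSpecIso_inv_naturality φ]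
  congr 1

/-- The degree-one part of a graded symmetric algebra. -/
theorem PB.exists_jv_eq {Y : Scheme.{u}} {E : Y.Modules} (B : PB Y E) {U : Y.Opens} (hU : IsAffineOpen U)
    {x : B.𝒮.presheaf.obj (op U)} (hx : x ∈ B.𝒮.deg U hU 1) : ∃ e : Γ(E, U), jv B.𝒮.toQCAlg B.j U e = x := by
  suffices key : ∀ y : B.𝒮.presheaf.obj (op U),
      (∃ r, (B.𝒮.str.app (op U)).hom r = (DirectSum.decompose (B.𝒮.deg U hU) y 0 : B.𝒮.presheaf.obj (op U))) ∧
        ∃ e, jv B.𝒮.toQCAlg B.j U e = (DirectSum.decompose (B.𝒮.deg U hU) y 1 : B.𝒮.presheaf.obj (op U)) by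
    obtain ⟨e, he⟩ := (key x).2
    exact ⟨e, he.trans (DirectSum.decompose_of_mem_same _ hx)⟩
  intro y
  have hz : ∀ e : Γ(E, U), jv B.𝒮.toQCAlg B.j U e = (B.j.app U).hom e := fun _ => rfl
  have hy : y ∈ genAt B.𝒮.toQCAlg B.j U := by rw [genAt_eq_top B.hE B.hj.1 hU]; trivial
  induction hy using Subring.closure_induction with
  | mem z hz' =>
    rcases hz' with ⟨a, rfl⟩ | ⟨e, rfl⟩
    · exact ⟨⟨a, (DirectSum.decompose_of_mem_same _ (B.𝒮.str_mem U hU a)).symm⟩, 0, by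
        rw [DirectSum.decompose_of_mem_ne _ (B.𝒮.str_mem U hU a) (by omega : (0 : ℕ) ≠ 1)]
        exact map_zero (B.j.app U).hom⟩
    · exact ⟨⟨0, by rw [map_zero, DirectSum.decompose_of_mem_ne _ (B.jv_mem1 hU e) (by omega : (1 : ℕ) ≠ 0)]⟩,
        e, (DirectSum.decompose_of_mem_same _ (B.jv_mem1 hU e)).symm⟩
  | zero => exact ⟨⟨0, by simp⟩, 0, by rw [DirectSum.decompose_zero]; exact map_zero (B.j.app U).hom⟩
  | one => exact ⟨⟨1, by rw [map_one, DirectSum.decompose_of_mem_same _ SetLike.GradedOne.one_mem]⟩, 0, by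
      rw [DirectSum.decompose_of_mem_ne _ SetLike.GradedOne.one_mem (by omega : (0 : ℕ) ≠ 1)]
      exact map_zero (B.j.app U).hom⟩
  | add a b _ _ ha hb =>
    obtain ⟨⟨r, hr⟩, e, he⟩ := ha
    obtain ⟨⟨r', hr'⟩, e', he'⟩ := hb
    refine ⟨⟨r + r', ?_⟩, e + e', ?_⟩
    · rw [map_add, hr, hr', DirectSum.decompose_add, DirectSum.add_apply, AddSubgroup.coe_add]
    · rw [DirectSum.decompose_add, DirectSum.add_apply, AddSubgroup.coe_add, ← he, ← he']
      exact map_add (B.j.app U).hom e e'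
  | neg a _ ha =>
    obtain ⟨⟨r, hr⟩, e, he⟩ := ha
    refine ⟨⟨-r, ?_⟩, -e, ?_⟩
    · rw [map_neg, hr, DirectSum.decompose_neg, DFinsupp.neg_apply, AddSubgroup.coe_neg]
    · rw [DirectSum.decompose_neg, DFinsupp.neg_apply, AddSubgroup.coe_neg, ← he]
      exact map_neg (B.j.app U).hom e
  | mul a b _ _ ha hb =>
    obtain ⟨⟨r, hr⟩, e, he⟩ := ha
    obtain ⟨⟨r', hr'⟩, e', he'⟩ := hb
    refine ⟨⟨r * r', ?_⟩, r • e' + r' • e, ?_⟩
    · rw [map_mul, hr, hr', DirectSum.decompose_mul, DirectSum.coe_mul_apply_eq_sum_antidiagonal]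
      simp
    · rw [DirectSum.decompose_mul, DirectSum.coe_mul_apply_eq_sum_antidiagonal,
        show (Finset.HasAntidiagonal.antidiagonal 1 : Finset (ℕ × ℕ)) = {(0, 1), (1, 0)} by decide,
        Finset.sum_insert (by decide), Finset.sum_singleton]
      simp only [← hr, ← hr', ← he, ← he']
      rw [mul_comm (jv B.𝒮.toQCAlg B.j U e)]
      show (B.j.app U).hom (r • e' + r' • e) = _
      rw [map_add]
      exact congr_arg₂ (· + ·) (Scheme.Modules.Hom.app_smul B.j r e') (Scheme.Modules.Hom.app_smul B.j r' e)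

variable {X Y : Scheme.{u}} {q : X ⟶ Y} [QuasiCompact q] [QuasiSeparated q]
  {L : X.Modules} (hL : PicF.IsInvertible L) (hLq : Coh.IsQCoh L)
  {𝒮L : RelProj.QCGrAlg X} {jL : L ⟶ 𝒮L.toModule} (hjL : RelProj.IsGrSymAlg L 𝒮L jL)
  {E : Y.Modules} (B : PB Y E) (hft : CohB1.IsFT E) {θ : E ⟶ (Scheme.Modules.pushforward q).obj L}
  {u : RelProj.QGrHom q B.𝒮 𝒮L}
  (hu : ∀ (U : Y.Opens) (x : Γ(E, U)), (u.app U).hom ((B.j.app U) x) = (jL.app (q ⁻¹ᵁ U)) ((θ.app U) x))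
  {r : X ⟶ B.P}

include hjL in
omit [QuasiCompact q] [QuasiSeparated q] in
theorem exists_eps (hLq : Coh.IsQCoh L) {V : X.Opens} (hV : IsAffineOpen V) {s : Γ(L, V)} (hs : InvX.IsFrame s) :
    ∃ ε : 𝒮L.presheaf.obj (op V) →+* Γ(X, V),
      (∀ t, ε ((𝒮L.str.app (op V)).hom t) = t) ∧ ε (jv 𝒮L.toQCAlg jL V s) = 1 := by
  let k := RingEquiv.ofBijective _ (S12143.evT_bijective hLq hjL.1 hV s (isFrame_bijective hs))
  refine ⟨(Polynomial.evalRingHom 1).comp k.symm.toRingHom, fun t => ?_, ?_⟩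
  · show (k.symm _).eval 1 = t
    rw [show k.symm ((𝒮L.str.app (op V)).hom t) = Polynomial.C t from
      k.symm_apply_eq.2 (Polynomial.eval₂_C _ _).symm, Polynomial.eval_C]
  · show (k.symm _).eval 1 = 1
    rw [show k.symm (jv 𝒮L.toQCAlg jL V s) = Polynomial.X from
      k.symm_apply_eq.2 (Polynomial.eval₂_X _ _).symm, Polynomial.eval_X]

include hLq hjL hu in
omit [QuasiCompact q] [QuasiSeparated q] in
theorem eps_u (hr : IsMapOf B θ r) {U : Y.Opens} (hU : IsAffineOpen U) (e : Γ(E, U)) {V : X.Opens}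
    (hV : IsAffineOpen V) (hVW : V ≤ r ⁻¹ᵁ B.D hU e) (hVU : V ≤ q ⁻¹ᵁ U) {k : ℕ}
    {b : B.𝒮.presheaf.obj (op U)} (hb : b ∈ B.𝒮.deg U hU k) :
    u.gradedAt U hU V hV hVU b = (𝒮L.str.app (op V)).hom ((r.appLE (B.D hU e) V hVW).hom (B.deh hU e b)) *
      jv 𝒮L.toQCAlg jL V (thv θ hVU e) ^ k := by
  let g := u.gradedAt U hU V hV hVU
  have hs := hr.frame U hU e V hVU hVW
  obtain ⟨ε, hεs, hεj⟩ := exists_eps hjL hLq hV hs
  obtain ⟨c, hc⟩ := S12143.mem_deg_eq hLq hjL hV _ (isFrame_bijective hs) (g.map_mem hb)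
  replace hc : g b = (𝒮L.str.app (op V)).hom c * jv 𝒮L.toQCAlg jL V (thv θ hVU e) ^ k := hc
  have key : ε.comp (u.gradedAt U hU V hV hVU : B.𝒮.presheaf.obj (op U) →+* 𝒮L.presheaf.obj (op V)) =
      (r.appLE (B.D hU e) V hVW).hom.comp (B.deh hU e) := by
    refine symAlg_hom_ext B.hE B.hj hU (fun c => ?_) fun a => ?_
    · show ε (g ((B.𝒮.str.app (op U)).hom c)) = (r.appLE _ V hVW).hom (B.deh hU e _)
      rw [B.deh_str, show g ((B.𝒮.str.app (op U)).hom c) = (𝒮L.str.app (op V)).hom ((q.appLE U V hVU).hom c) from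
        ConcreteCategory.congr_hom (u.toQHom.str_appLE U V hVU) c, hεs]
      show _ = (B.p.appLE U _ _ ≫ r.appLE _ V hVW).hom c
      rw [Scheme.Hom.appLE_comp_appLE]
      have := hr.comp
      simp only [this]
    · show ε (g (jv B.𝒮.toQCAlg B.j U a)) = (r.appLE _ V hVW).hom (B.deh hU e _)
      rw [B.deh_jv, gradedAt_jv hU hu hV hVU a, hr.coord U hU a e V hVU hVW, jv_smul, map_mul, hεs, hεj, mul_one]
  have h2 := RingHom.congr_fun key b
  change ε (g b) = (r.appLE _ V hVW).hom (B.deh hU e b) at h2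
  rw [hc, map_mul, map_pow, hεs, hεj, one_pow, mul_one] at h2
  rw [← h2]
  exact hc

include hL hLq hjL hu in
omit [QuasiSeparated q] in
theorem app_deh_eq_zero_iff (hr : IsMapOf B θ r) {U : Y.Opens} (hU : IsAffineOpen U) (e : Γ(E, U)) {k : ℕ}
    {b : B.𝒮.presheaf.obj (op U)} (hb : b ∈ B.𝒮.deg U hU k) :
    (r.app (B.D hU e)).hom (B.deh hU e b) = 0 ↔
      ∃ m : ℕ, (u.app U).hom (jv B.𝒮.toQCAlg B.j U e ^ m * b) = 0 := by
  let W := r ⁻¹ᵁ B.D hU e
  have hWU : W ≤ q ⁻¹ᵁ U := fun y hy => by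
    show q y ∈ U
    rw [← hr.comp, Scheme.Hom.comp_apply]
    exact B.D_le hU _ hy
  constructor
  · intro h0
    have hcpt : IsCompact ((q ⁻¹ᵁ U : X.Opens) : Set X) := QuasiCompact.isCompact_preimage (f := q) _ U.2 hU.isCompact
    choose D hD hxD hDU s hs using fun (x : (q ⁻¹ᵁ U : X.Opens)) => exists_affine_frame hL (V := q ⁻¹ᵁ U) x.2
    obtain ⟨K, hK⟩ := hcpt.elim_finite_subcover (fun x => (D x : Set X)) (fun x => (D x).2)
      fun x hx => Set.mem_iUnion.2 ⟨⟨x, hx⟩, hxD _⟩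
    have hloc : ∀ x, ∃ m : ℕ, ∀ m', m ≤ m' →
        u.gradedAt U hU (D x) (hD x) (hDU x) (jv B.𝒮.toQCAlg B.j U e ^ m' * b) = 0 := fun x => by
      let g := u.gradedAt U hU (D x) (hD x) (hDU x)
      have hbij := isFrame_bijective (hs x)
      obtain ⟨a, ha⟩ := hbij.2 (thv θ (hDU x) e)
      obtain ⟨c, hc⟩ := S12143.mem_deg_eq hLq hjL (hD x) _ hbij (g.map_mem hb)
      replace hc : g b = (𝒮L.str.app (op (D x))).hom c * jv 𝒮L.toQCAlg jL (D x) (s x) ^ k := hc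
      have hbo : X.basicOpen a ≤ W := by
        refine (hr.mem U hU e _ ((X.basicOpen_le a).trans (hDU x)) ?_)
        rw [show thv θ ((X.basicOpen_le a).trans (hDU x)) e = res L (X.basicOpen_le a) (thv θ (hDU x) e) from
          (thv_res θ _ _ e).symm, ← ha, res_smul]
        exact ((hs x).res _).isUnit_smul (isUnit_resR _ a le_rfl)
      have hc0 : resR (X.basicOpen_le a) c = 0 := by
        have hba := (hD x).basicOpen a
        have h1 := eps_u hLq hjL B hu hr hU e hba hbo ((X.basicOpen_le a).trans (hDU x)) hb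
        have h2 : (r.appLE (B.D hU e) (X.basicOpen a) hbo).hom (B.deh hU e b) = 0 := by
          show (r.app _ ≫ X.presheaf.map _).hom _ = 0
          rw [CommRingCat.comp_apply, h0, map_zero]
        rw [h2, map_zero, zero_mul] at h1
        obtain ⟨ε, hεs, hεj⟩ := exists_eps hjL hLq hba ((hs x).res (X.basicOpen_le a))
        have h3 : QCoh.rB 𝒮L.toQCAlg (X.basicOpen_le a) (g b) = 0 := by
          refine Eq.trans ?_ h1
          show (u.appLE U (D x) _ ≫ 𝒮L.presheaf.map _).hom b = (u.appLE U (X.basicOpen a) _).hom b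
          rw [u.toQHom.appLE_map]
        rw [hc, map_mul, map_pow, QCoh.rB_str, rB_jv] at h3
        have h4 := congrArg ε h3
        rw [map_mul, map_pow, hεs, map_zero] at h4
        change resR _ c * ε (jv 𝒮L.toQCAlg jL _ (res L _ (s x))) ^ k = 0 at h4
        rwa [hεj, one_pow, mul_one] at h4
      obtain ⟨m, hm⟩ := exists_pow_mul_eq_zero_of_res_basicOpen_eq_zero_of_isAffineOpen X (hD x) c a hc0
      refine ⟨m, fun m' hm' => ?_⟩
      show g _ = 0
      rw [map_mul, map_pow, gradedAt_jv hU hu (hD x) (hDU x) e, ← ha, jv_smul, mul_pow, hc,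
        mul_mul_mul_comm, ← map_pow, ← map_mul, ← Nat.sub_add_cancel hm', pow_add a, mul_assoc (a ^ (m' - m)), hm,
        mul_zero, map_zero, zero_mul]
    choose m hm using hloc
    refine ⟨K.sup m, AModX.eq_of_locally (M := 𝒮L.toModule)
      (show Γ(𝒮L.toModule, q ⁻¹ᵁ U) from (u.app U).hom (jv B.𝒮.toQCAlg B.j U e ^ K.sup m * b))
      (0 : Γ(𝒮L.toModule, q ⁻¹ᵁ U)) fun y hy => ?_⟩
    obtain ⟨x, hx, hyx⟩ := Set.mem_iUnion₂.1 (hK hy)
    refine ⟨D x, hDU x, hyx, ?_⟩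
    rw [map_zero]
    exact hm x _ (Finset.le_sup hx)
  · rintro ⟨m, hm⟩
    refine TopCat.Sheaf.eq_of_locally_eq' X.sheaf (fun V : {V : X.affineOpens // V.1 ≤ W} => V.1.1) W
      (fun V => homOfLE V.2) (fun x hx => ?_) _ _ fun V => ?_
    · obtain ⟨V, hV, hxV, hVW⟩ := exists_isAffineOpen_mem_and_subset (X := X) (x := x) (U := W) hx
      exact Opens.mem_iSup.2 ⟨⟨⟨V, hV⟩, hVW⟩, hxV⟩
    · rw [map_zero]
      show (r.appLE (B.D hU e) V.1.1 V.2).hom (B.deh hU e b) = 0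
      let g := u.gradedAt U hU V.1.1 V.1.2 (V.2.trans hWU)
      have h1 := eps_u hLq hjL B hu hr hU e V.1.2 V.2 (V.2.trans hWU)
        (k := m + k) (b := jv B.𝒮.toQCAlg B.j U e ^ m * b)
        (SetLike.mul_mem_graded (by simpa using SetLike.pow_mem_graded m (B.jv_mem1 hU e)) hb)
      have h0 : g (jv B.𝒮.toQCAlg B.j U e ^ m * b) = 0 := by
        show (𝒮L.presheaf.map (homOfLE (V.2.trans hWU)).op).hom ((u.app U).hom _) = 0
        rw [hm, map_zero]
      obtain ⟨ε, hεs, hεj⟩ := exists_eps hjL hLq V.1.2 (hr.frame U hU e V.1.1 (V.2.trans hWU) V.2)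
      have h2 := congrArg ε (h0.symm.trans h1)
      rw [map_zero, map_mul, map_pow, hεs, hεj, one_pow, mul_one, map_mul, map_pow, B.deh_jv, B.ratio_self, one_pow,
        one_mul] at h2
      exact h2.symm

include hL hLq hjL hft hu in
/-- The closed image of `r` is the relative `Proj` of the image algebra. -/
theorem exists_closedImage [QuasiCompact r] (hr : IsMapOf B θ r) :
    ∃ (𝒮 : RelProj.QCGrAlg Y) (P : Scheme.{u}) (p : P ⟶ Y)
      (chart : ∀ (U : Y.Opens) (hU : IsAffineOpen U), ((p ⁻¹ᵁ U : P.Opens) : Scheme.{u}) ≅ Proj (𝒮.deg U hU))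
      (O1 : P.Modules)
      (lam : ∀ (U : Y.Opens) (hU : IsAffineOpen U),
        O1 ⟶ (Scheme.Modules.pushforward (RelProj.emb p chart U hU)).obj (GrTwist.twist (𝒮.deg U hU) 1))
      (ι : P ⟶ B.P),
      𝒮.IsGenDegOne ∧ 𝒮.IsFTDeg 1 ∧ RelProj.IsRelProj 𝒮 p chart ∧ RelProj.IsRelTwist 𝒮 p chart 1 O1 lam ∧
        IsClosedImmersion ι ∧ ι ≫ B.p = p ∧ Nonempty ((Scheme.Modules.pullback ι).obj B.O1 ≅ O1) ∧ ι.ker = r.ker := by
  let 𝒮 := imgGr B.hE B.hj u hft
  let φ := imgMap B.hE B.hj u hft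
  have hφ : RelProj.IsGradedHom φ := isGradedHom_imgMap B.hE B.hj u hft
  have hsurj : ∀ (U : Y.Opens), IsAffineOpen U → Function.Surjective (φ.hom.app (op U)).hom :=
    fun U hU => imgHom_surjective B.hE B.hj u hft hU
  obtain ⟨P, p, chart, hP⟩ := S8258.result 𝒮
  obtain ⟨O1, lam, hO1⟩ := RelTildeX.Exists.exists_isRelTwist 𝒮 p chart hP 1
  have hs : ∀ (U : Y.Opens) (hU : IsAffineOpen U),
      (𝒮.deg U hU)₊ ≤ ((B.𝒮.deg U hU)₊).map (RelProj.gradedHomAt φ hφ U hU) := fun U hU => by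
    intro x hx
    obtain ⟨a, rfl⟩ := hsurj U hU x
    let g := RelProj.gradedHomAt φ hφ U hU
    have ha : (g (DirectSum.decompose (B.𝒮.deg U hU) a 0 : B.𝒮.presheaf.obj (op U))) = 0 := by
      rw [g.map_directSumDecompose (x := a) (i := 0)]
      exact hx
    have e : (φ.hom.app (op U)).hom a = g (a - (DirectSum.decompose (B.𝒮.deg U hU) a 0 : B.𝒮.presheaf.obj (op U))) := by
      rw [map_sub, ha, sub_zero]
      rfl
    rw [e]
    refine Ideal.mem_map_of_mem _ ?_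
    show ((DirectSum.decompose (B.𝒮.deg U hU) (a - _)) 0 : B.𝒮.presheaf.obj (op U)) = 0
    rw [DirectSum.decompose_sub, DirectSum.sub_apply, AddSubgroup.coe_sub, DirectSum.decompose_coe,
      DirectSum.of_eq_same, sub_self]
  obtain ⟨ι, hι, -⟩ := Proj16.existsUnique_isRelProjMap φ hφ hs B.hP hP
  have hcl : IsClosedImmersion ι :=
    Proj16.relProjMap_of_affineOpens B.hP hP hι @IsClosedImmersion fun U hU =>
      Proj16.isClosedImmersion_map _ _ (hsurj U hU)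
  have hιp : ι ≫ B.p = p := Proj16.relProjMap_comp B.hP hP hι
  refine ⟨𝒮, P, p, chart, O1, lam, ι, fun U hU => ?_, fun U hU => ?_, hP, hO1, hcl, hιp,
    nonempty_pullback_twist_iso (RelProj.QGrHom.ofHom φ hφ) (irr_ofHom hs) ι (emb_ofHom hs B.hP hι) B.hP hP B.gen
      (by rw [hιp, Category.comp_id]) B.hO1 hO1, ?_⟩
  · refine eq_top_iff.2 fun x _ => ?_
    obtain ⟨a, rfl⟩ := hsurj U hU x
    have ha : a ∈ Subring.closure ((B.𝒮.deg U hU 0 : Set (B.𝒮.presheaf.obj (op U))) ∪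
        (B.𝒮.deg U hU 1 : Set (B.𝒮.presheaf.obj (op U)))) := by
      rw [B.gen U hU]; trivial
    have h1 : (φ.hom.app (op U)).hom a ∈ Subring.map (φ.hom.app (op U)).hom
        (Subring.closure ((B.𝒮.deg U hU 0 : Set (B.𝒮.presheaf.obj (op U))) ∪
          (B.𝒮.deg U hU 1 : Set (B.𝒮.presheaf.obj (op U))))) := ⟨a, ha, rfl⟩
    rw [RingHom.map_closure, Set.image_union] at h1
    exact h1
  · classical
    obtain ⟨T, hT⟩ := ((QCoh.isFT_iff B.hE).1 hft ⟨U, hU⟩).fg_top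
    let w : Γ(E, U) → 𝒮.presheaf.obj (op U) := fun t => (φ.hom.app (op U)).hom (jv B.𝒮.toQCAlg B.j U t)
    refine ⟨T.image w, ?_, ?_⟩
    · intro y hy
      obtain ⟨t, -, rfl⟩ := Finset.mem_image.1 (Finset.mem_coe.1 hy)
      exact ⟨_, B.jv_mem1 hU t, rfl⟩
    · rintro _ ⟨a, ha, rfl⟩
      obtain ⟨x, rfl⟩ := B.exists_jv_eq hU ha
      let wl : Γ(E, U) →+ 𝒮.presheaf.obj (op U) :=
        (φ.hom.app (op U)).hom.toAddMonoidHom.comp (B.j.app U).hom
      have hx : x ∈ Submodule.span Γ(Y, U) (T : Set Γ(E, U)) := hT ▸ Submodule.mem_top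
      obtain ⟨c, -, rfl⟩ := Submodule.mem_span_finset.1 hx
      let c' : 𝒮.presheaf.obj (op U) → Γ(Y, U) := fun y => ∑ t ∈ T.filter (fun t => w t = y), c t
      refine ⟨c', ?_⟩
      show wl (∑ t ∈ T, c t • t) = _
      rw [map_sum, ← Finset.sum_fiberwise_of_maps_to (s := T) (t := T.image w) (g := w)
        (fun t ht => Finset.mem_image_of_mem w ht)]
      refine Finset.sum_congr rfl fun y _ => ?_
      rw [map_sum, Finset.sum_mul]
      refine Finset.sum_congr rfl fun t ht => ?_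
      show (φ.hom.app (op U)).hom ((B.j.app U).hom (c t • t)) = _
      rw [show (B.j.app U).hom (c t • t) = (B.𝒮.str.app (op U)).hom (c t) * jv B.𝒮.toQCAlg B.j U t from
        Scheme.Modules.Hom.app_smul B.j _ _, map_mul, ← (Finset.mem_filter.1 ht).2]
      exact congrArg (· * w t) (ConcreteCategory.congr_hom (NatTrans.congr_app φ.comm (op U)) (c t))
  let κ := Σ' U : Y.affineOpens, Γ(E, U.1)
  refine Scheme.IdealSheafData.ext_of_iSup_eq_top
    (fun a : κ => ⟨B.D a.1.2 a.2, B.isAffineOpen_D a.1.2 a.2⟩) ?_ fun a => ?_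
  · refine eq_top_iff.2 fun x _ => ?_
    obtain ⟨_, ⟨U, hU, rfl⟩, hxU, -⟩ := Y.isBasis_affineOpens.exists_subset_of_mem_open
      (Set.mem_univ (B.p x)) isOpen_univ
    obtain ⟨e, he⟩ := B.exists_mem_D hU hxU
    exact Opens.mem_iSup.2 ⟨⟨⟨U, hU⟩, e⟩, he⟩
  obtain ⟨⟨U, hU⟩, e⟩ := a
  rw [Scheme.Hom.ker_apply, Scheme.Hom.ker_apply]
  refine Ideal.ext fun c => ?_
  rw [RingHom.mem_ker, RingHom.mem_ker]
  obtain ⟨z, rfl⟩ := (B.aw_bijective hU e).2 c
  obtain ⟨k, b, hb, rfl⟩ := HomogeneousLocalization.Away.mk_surjective (B.𝒮.deg U hU) (B.jv_mem1 hU e) z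
  have hb' : b ∈ B.𝒮.deg U hU k := by simpa using hb
  have hmk := B.aw_mk hU e k b hb
  rw [hmk]
  refine Iff.trans ?_ (app_deh_eq_zero_iff hL hLq hjL B hu hr hU e hb').symm
  let g := RelProj.gradedHomAt φ hφ U hU
  let f := jv B.𝒮.toQCAlg B.j U e
  let A := CommRingCat.of (HomogeneousLocalization.Away (𝒮.deg U hU) (g f))
  let j : Spec A ⟶ P := Proj.awayι (𝒮.deg U hU) (g f) (g.map_mem (B.jv_mem1 hU e)) one_pos ≫
    RelProj.emb p chart U hU
  have hemb : RelProj.emb p chart U hU ≫ ι = Proj.map g (hs U hU) ≫ RelProj.emb B.p B.chart U hU := by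
    unfold RelProj.emb
    rw [Category.assoc, hι U hU, Iso.inv_hom_id_assoc]
  let ψ := B.kap hU e ≫ CommRingCat.ofHom (HomogeneousLocalization.Away.map g f)
  have hj : j ≫ ι = Spec.map ψ ≫ (B.isAffineOpen_D hU e).fromSpec := by
    simp only [j, ψ, Category.assoc, hemb]
    rw [Proj.awayι_comp_map_assoc g (hs U hU) one_pos f (B.jv_mem1 hU e), B.awayι_emb hU e,
      ← Spec.map_comp_assoc]
  have hle : (⊤ : (Spec A).Opens) ≤ (j ≫ ι) ⁻¹ᵁ B.D hU e := fun y _ => by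
    show (j ≫ ι) y ∈ B.D hU e
    rw [hj, Scheme.Hom.comp_apply]
    exact (B.isAffineOpen_D hU e).opensRange_fromSpec.le ⟨_, rfl⟩
  have hrange : ι ⁻¹ᵁ B.D hU e ≤ j.opensRange := by
    intro y hy
    have hyU : p y ∈ U := by
      rw [← hιp, Scheme.Hom.comp_apply]
      exact B.D_le hU e hy
    obtain ⟨z, rfl⟩ : y ∈ (RelProj.emb p chart U hU).opensRange := by rw [RelTildeX.opensRange_emb]; exact hyU
    obtain ⟨z', hz', hzz⟩ := hy
    have e1 : z' = Proj.map g (hs U hU) z := (RelProj.emb B.p B.chart U hU).isOpenEmbedding.injective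
      (hzz.trans (congrArg (fun χ : Proj (𝒮.deg U hU) ⟶ B.P => χ z) hemb))
    obtain ⟨w, hw⟩ : z ∈ (Proj.awayι (𝒮.deg U hU) (g f) (g.map_mem (B.jv_mem1 hU e)) one_pos).opensRange := by
      rw [Proj.opensRange_awayι]
      subst e1
      exact hz'
    exact ⟨w, by show RelProj.emb p chart U hU (Proj.awayι _ _ _ _ w) = _; rw [hw]⟩
  have h1 : (ι.app (B.D hU e)).hom (B.deh hU e b) = 0 ↔ ((j ≫ ι).appLE (B.D hU e) ⊤ hle).hom (B.deh hU e b) = 0 := by
    have := Scheme.Hom.isIso_app j (ι ⁻¹ᵁ B.D hU e) hrange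
    rw [Scheme.Hom.comp_appLE, CommRingCat.comp_apply]
    rw [Scheme.Hom.appLE, CommRingCat.comp_apply]
    have htop : j ⁻¹ᵁ (ι ⁻¹ᵁ B.D hU e) = ⊤ := top_le_iff.1 hle
    have hb1 := ConcreteCategory.bijective_of_isIso (j.app (ι ⁻¹ᵁ B.D hU e))
    have hb2 := ConcreteCategory.bijective_of_isIso ((Spec A).presheaf.map (eqToHom htop.symm).op)
    refine ⟨fun h => by rw [h, map_zero, map_zero], fun h => ?_⟩
    exact (map_eq_zero_iff _ hb1.1).1 ((map_eq_zero_iff _ hb2.1).1 h)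
  rw [h1]
  have h2 : (j ≫ ι).appLE (B.D hU e) ⊤ hle = ψ ≫ (Scheme.ΓSpecIso A).inv := by
    have key : ∀ (m : Spec A ⟶ B.P) (_ : j ≫ ι = m) (hm : ⊤ ≤ m ⁻¹ᵁ B.D hU e),
        (j ≫ ι).appLE (B.D hU e) ⊤ hle = m.appLE (B.D hU e) ⊤ hm := by
      rintro _ rfl hm
      rfl
    exact (key _ hj (by rw [← hj]; exact hle)).trans (appLE_top_SpecMap_fromSpec (B.isAffineOpen_D hU e) ψ _)
  rw [h2, CommRingCat.comp_apply,
    map_eq_zero_iff _ (ConcreteCategory.bijective_of_isIso (Scheme.ΓSpecIso A).inv).1]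
  show HomogeneousLocalization.Away.map g f (B.kap hU e (B.deh hU e b)) = 0 ↔ _
  rw [← hmk, B.kap_aw, HomogeneousLocalization.ext_iff_val, HomogeneousLocalization.val_zero]
  erw [HomogeneousLocalization.Away.map_mk, HomogeneousLocalization.Away.val_mk]
  rw [Localization.mk_eq_mk', IsLocalization.mk'_eq_zero_iff]
  constructor
  · rintro ⟨⟨_, m, rfl⟩, hm⟩
    refine ⟨m, (imgHom_eq_zero B.hE B.hj u hft _).1 ?_⟩
    show g (f ^ m * b) = 0
    rw [map_mul, map_pow]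
    exact hm
  · rintro ⟨m, hm⟩
    refine ⟨⟨_, m, rfl⟩, ?_⟩
    have h3 : g (f ^ m * b) = 0 := (imgHom_eq_zero B.hE B.hj u hft _).2 hm
    rw [map_mul, map_pow] at h3
    exact h3

end Groth.Agent.RelVA16
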