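import Groth.Agent.RelVA16.EpiImm
import Groth.Agent.RelVA16.SegrePair
import Groth.Agent.RelVA16.GenTwist
import Groth.Agent.RelVA16.Projective

/-! `L ⊗ f^* K^n` is very ample for the composite. -/

set_option autoImplicit false
set_option backward.isDefEq.respectTransparency false
set_option backward.isDefEq.respectTransparency.types false
set_option linter.style.haveILetI false

universe u

open CategoryTheory CategoryTheory.Limits AlgebraicGeometry TopologicalSpace Opposite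

noncomputable section

namespace Groth.Agent.RelVA16

open Groth.Agent Groth.Agent.H23 Groth.Agent.H23.PicMul

theorem pullCl_comp {X Y Z : Scheme.{u}} (f : X ⟶ Y) (g : Y ⟶ Z) (c : PicF.Cl Z) :
    PicF.pullCl (f ≫ g) c = PicF.pullCl f (PicF.pullCl g c) := by
  induction c using Quot.ind with | mk A =>
  exact cl_eq_iff.2 ⟨((Scheme.Modules.pullbackComp f g).app A).symm⟩

theorem eventually_isRelVeryAmple_comp_affine {X Y Z : Scheme.{u}} [IsAffine Z] (f : X ⟶ Y)
    [QuasiCompact f] [LocallyOfFiniteType f] (g : Y ⟶ Z) [QuasiCompact g]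
    {L : X.Modules} (hL : PicF.IsInvertible L) (hLva : RelProj.IsRelVeryAmple f L)
    {K : Y.Modules} (hK : PicF.IsInvertible K) (hKva : RelProj.IsRelVeryAmple g K) :
    ∃ n₀ : ℕ, ∀ n : ℕ, n₀ ≤ n → RelProj.IsRelVeryAmple (f ≫ g)
      (CohB1.tensorMod L ((Scheme.Modules.pullback f).obj (CohB1.tensorPow K n))) := by
  have hKa := S5721.result g K hK hKva
  haveI : IsSeparated g := AmpleX.isSeparated_of_ampleOn fun x => AmpleX.ampleOn_of_isRelAmple hKa (g x)
  haveI : Y.IsSeparated := ⟨by rw [← Limits.terminal.comp_from g]; infer_instance⟩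
  haveI : CompactSpace Y := QuasiCompact.compactSpace_of_compactSpace g
  obtain ⟨E, B, i, hEft, hi, hif, ⟨e⟩⟩ := exists_ft_pb_of_isRelVeryAmple (q := f) (.inl ⟨inferInstance, inferInstance⟩) hLva
  obtain ⟨m₀, hm₀⟩ := eventually_ft_epi_tensor (g := g) (fun U hU => QCoh.extStep_qcqs hU.isCompact) hK hKa B.hE hEft
  refine ⟨m₀ + 1, fun n hn => ?_⟩
  obtain ⟨m, rfl, hm⟩ : ∃ m, n = m + 1 ∧ m₀ ≤ m := ⟨n - 1, by omega, by omega⟩
  obtain ⟨F, φ, hF, -, hφ⟩ := hm₀ m hm
  have hKm := InvX.isInvertible_tensorPow hK m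
  obtain ⟨BG⟩ := PB.exists_of_isQCoh (isQCoh_tensor_inv B.hE hKm)
  obtain ⟨j, hj, ⟨ej⟩⟩ := exists_iso_tensor B hKm BG
  obtain ⟨BF⟩ := PB.exists_of_isQCoh hF
  obtain ⟨BY⟩ := PB.exists_of_isQCoh (QCoh.isQCoh_pullback g BF.hE)
  obtain ⟨ψ, hψ, hψp, ⟨eψ⟩⟩ := exists_closedImmersion_of_epi φ BY BG
  obtain ⟨h, hpb, ⟨eO⟩⟩ := BF.exists_baseChange g BY
  obtain ⟨EK, BK, iK, hiK, hiKp, ⟨eK⟩⟩ := exists_pb_of_isRelVeryAmple hKva
  let M := CohB1.tensorMod L ((Scheme.Modules.pullback f).obj (CohB1.tensorPow K m))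
  let rY : X ⟶ BY.P := i ≫ j.hom ≫ ψ
  have hrY : rY ≫ BY.p = f := by
    simp only [rY, Category.assoc, hψp, hj, hif]
  let r : X ⟶ BF.P := rY ≫ h
  have hr : r ≫ BF.p = f ≫ g := by
    simp only [r, Category.assoc, hpb.w]
    rw [← Category.assoc, hrY]
  have hM : Nonempty ((Scheme.Modules.pullback r).obj BF.O1 ≅ M) := cl_eq_iff.1 (by
    show PicF.pullCl r (PicF.cl BF.O1) = PicF.cl L * PicF.pullCl f (PicF.cl (CohB1.tensorPow K m))
    rw [pullCl_comp, show PicF.pullCl h (PicF.cl BF.O1) = PicF.cl BY.O1 from cl_eq_iff.2 ⟨eO⟩,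
      pullCl_comp, pullCl_comp, show PicF.pullCl ψ (PicF.cl BY.O1) = PicF.cl BG.O1 from cl_eq_iff.2 ⟨eψ⟩,
      show PicF.pullCl j.hom (PicF.cl BG.O1) = PicF.cl B.O1 * PicF.pullCl B.p (PicF.cl (CohB1.tensorPow K m)) from
        cl_eq_iff.2 ⟨ej⟩, pullCl_mul, show PicF.pullCl i (PicF.cl B.O1) = PicF.cl L from (cl_eq_iff.2 ⟨e⟩).symm,
      ← pullCl_comp, hif])
  have ht : (f ≫ iK) ≫ BK.p = f ≫ g := by rw [Category.assoc, hiKp]
  have hT : Nonempty ((Scheme.Modules.pullback (f ≫ iK)).obj BK.O1 ≅ (Scheme.Modules.pullback f).obj K) :=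
    ⟨((Scheme.Modules.pullbackComp f iK).app _).symm ≪≫ (Scheme.Modules.pullback f).mapIso eK.symm⟩
  have himm : IsImmersion (pullback.lift r (f ≫ iK) (hr.trans ht.symm) : X ⟶ pullback BF.p BK.p) := by
    have := hiK
    let μ : pullback BF.p g ⟶ pullback BF.p BK.p :=
      pullback.map BF.p g BF.p BK.p (𝟙 _) iK (𝟙 _) (by simp) (by rw [Category.comp_id, hiKp])
    haveI : IsImmersion μ :=
      MorphismProperty.pullback_map (P := @IsImmersion) (i₁ := 𝟙 BF.P) (i₂ := iK) (by infer_instance) hiK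
        (e₁ := (Category.id_comp _).symm) (e₂ := hiKp.symm)
    have hfac : pullback.lift r (f ≫ iK) (hr.trans ht.symm) = rY ≫ hpb.isoPullback.hom ≫ μ := by
      refine pullback.hom_ext ?_ ?_
      · simp [μ, r]
      · simp only [μ, pullback.lift_snd, Category.assoc, IsPullback.isoPullback_hom_snd_assoc]
        rw [← Category.assoc, hrY]
    rw [hfac]
    infer_instance
  have hva : RelProj.IsRelVeryAmple (f ≫ g) (CohB1.tensorMod M ((Scheme.Modules.pullback f).obj K)) :=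
    isRelVeryAmple_mulPair BF BK (isMapOf_thetaOf hr hM.some) (isMapOf_thetaOf ht hT.some)
  obtain ⟨e'⟩ : Nonempty (CohB1.tensorMod M ((Scheme.Modules.pullback f).obj K) ≅
      CohB1.tensorMod L ((Scheme.Modules.pullback f).obj (CohB1.tensorPow K (m + 1)))) := cl_eq_iff.1 (by
    show PicF.cl L * PicF.pullCl f (PicF.cl (CohB1.tensorPow K m)) * PicF.pullCl f (PicF.cl K) =
      PicF.cl L * PicF.pullCl f (PicF.cl (CohB1.tensorPow K (m + 1)))
    rw [cl_tensorPow, cl_tensorPow, pullCl_pow, pullCl_pow, mul_assoc, ← pow_succ])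
  exact isRelVeryAmple_of_iso e' hva

theorem eventually_isRelVeryAmple_comp {X Y Z : Scheme.{u}} [CompactSpace Z] (f : X ⟶ Y)
    [QuasiCompact f] [LocallyOfFiniteType f] (g : Y ⟶ Z) [QuasiCompact g]
    {L : X.Modules} (hL : PicF.IsInvertible L) (hLva : RelProj.IsRelVeryAmple f L)
    {K : Y.Modules} (hK : PicF.IsInvertible K) (hKva : RelProj.IsRelVeryAmple g K) :
    ∃ n₀ : ℕ, ∀ n : ℕ, n₀ ≤ n → RelProj.IsRelVeryAmple (f ≫ g)
      (CohB1.tensorMod L ((Scheme.Modules.pullback f).obj (CohB1.tensorPow K n))) := by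
  classical
  have hloc : ∀ V : Z.affineOpens, ∃ n₀ : ℕ, ∀ n, n₀ ≤ n → RelProj.IsRelVeryAmple ((f ≫ g) ∣_ V.1)
      ((CohB1.tensorMod L ((Scheme.Modules.pullback f).obj (CohB1.tensorPow K n))).restrict
        ((f ≫ g) ⁻¹ᵁ V.1).ι) := fun V => by
    haveI : IsAffine (V.1 : Scheme.{u}) := V.2
    let W := g ⁻¹ᵁ V.1
    haveI : QuasiCompact (f ∣_ W) := IsZariskiLocalAtTarget.restrict (P := @QuasiCompact) inferInstance W
    haveI : LocallyOfFiniteType (f ∣_ W) :=
      IsZariskiLocalAtTarget.restrict (P := @LocallyOfFiniteType) inferInstance W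
    haveI : QuasiCompact (g ∣_ V.1) := IsZariskiLocalAtTarget.restrict (P := @QuasiCompact) inferInstance V.1
    obtain ⟨n₀, hn₀⟩ := eventually_isRelVeryAmple_comp_affine (f ∣_ W) (g ∣_ V.1)
      (AmpleX.isInvertible_restrict (f ⁻¹ᵁ W).ι hL) (isRelVeryAmple_restrict hLva W)
      (AmpleX.isInvertible_restrict W.ι hK) (isRelVeryAmple_restrict hKva V.1)
    refine ⟨n₀, fun n hn => ?_⟩
    rw [morphismRestrict_comp]
    obtain ⟨e⟩ : Nonempty (CohB1.tensorMod (L.restrict (f ⁻¹ᵁ W).ι)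
        ((Scheme.Modules.pullback (f ∣_ W)).obj (CohB1.tensorPow (K.restrict W.ι) n)) ≅
        (CohB1.tensorMod L ((Scheme.Modules.pullback f).obj (CohB1.tensorPow K n))).restrict (f ⁻¹ᵁ W).ι) :=
      cl_eq_iff.1 (by
        show PicF.cl (L.restrict (f ⁻¹ᵁ W).ι) *
            PicF.pullCl (f ∣_ W) (PicF.cl (CohB1.tensorPow (K.restrict W.ι) n)) = _
        rw [cl_tensorPow, AmpleX.cl_restrict, AmpleX.cl_restrict, AmpleX.cl_restrict, cl_tensor, pullCl_mul,
          show PicF.cl ((Scheme.Modules.pullback f).obj (CohB1.tensorPow K n)) =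
            PicF.pullCl f (PicF.cl (CohB1.tensorPow K n)) from rfl, cl_tensorPow, ← pullCl_pow, ← pullCl_comp,
          ← pullCl_comp, morphismRestrict_ι])
    exact isRelVeryAmple_of_iso e (hn₀ n hn)
  choose n₀ hn₀ using hloc
  obtain ⟨t, ht⟩ := isCompact_univ.elim_finite_subcover (fun V : Z.affineOpens => (V.1 : Set Z))
    (fun V => V.1.2) fun z _ => by
      obtain ⟨_, ⟨U, hU, rfl⟩, hz, -⟩ := Z.isBasis_affineOpens.exists_subset_of_mem_open
        (Set.mem_univ z) isOpen_univ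
      exact Set.mem_iUnion.2 ⟨⟨U, hU⟩, hz⟩
  refine ⟨t.sup n₀, fun n hn => ?_⟩
  refine isRelVeryAmple_of_local (U := fun V : t => V.1.1)
    (ProjUPX.isQCoh_of_isInvertible (InvX.isInvertible_tensorMod hL
      (PicClLib.isInvertible_pullback f (InvX.isInvertible_tensorPow hK n)))) ?_
    fun V => hn₀ V.1 n ((Finset.le_sup V.2).trans hn)
  refine eq_top_iff.2 fun z _ => ?_
  obtain ⟨V, hV, hz⟩ := Set.mem_iUnion₂.1 (ht (Set.mem_univ z))
  exact Opens.mem_iSup.2 ⟨⟨V, hV⟩, hz⟩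

end Groth.Agent.RelVA16
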