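import Groth.Agent.RelVA16.ToPBIso
import Groth.Agent.RelVA16.Segre
import Groth.Agent.QCoh.Qcqs
import Groth.Agent.S8259
import Groth.Agent.H23.Frame

/-! Very ampleness is local on the base. -/

set_option autoImplicit false
set_option backward.isDefEq.respectTransparency false
set_option backward.isDefEq.respectTransparency.types false
set_option linter.style.haveILetI false

universe u

open CategoryTheory CategoryTheory.Limits AlgebraicGeometry TopologicalSpace Opposite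

noncomputable section

namespace Groth.Agent.RelVA16

open Groth.Agent Groth.Agent.AModX

/-- Immersion criterion: the restriction of `r` over `D` factors an immersion. -/
theorem isImmersion_restrict_of_factor {X X' P Z : Scheme.{u}} (r : X ⟶ P) (D : P.Opens) (ι : X' ⟶ X)
    [IsOpenImmersion ι] (hW : r ⁻¹ᵁ D ≤ ι.opensRange) (i : X' ⟶ Z) [IsImmersion i] {V : Z.Opens}
    (hV : IsAffineOpen V) (hWi : ι ⁻¹ᵁ (r ⁻¹ᵁ D) ≤ i ⁻¹ᵁ V) (α : Γ(Z, V) ⟶ Γ(P, D))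
    (key : α ≫ (ι ≫ r).appLE D (ι ⁻¹ᵁ (r ⁻¹ᵁ D)) le_rfl = i.appLE V _ hWi) : IsImmersion (r ∣_ D) := by
  let W' : X'.Opens := ι ⁻¹ᵁ (r ⁻¹ᵁ D)
  let σ : D.toScheme ⟶ Z := D.toSpecΓ ≫ Spec.map α ≫ hV.fromSpec
  have h2 : (ι ≫ r).resLE D W' le_rfl ≫ σ = W'.ι ≫ i := by
    rw [ι_comp_eq i hV hWi]
    show (ι ≫ r).resLE D W' le_rfl ≫ D.toSpecΓ ≫ _ = _
    rw [← Scheme.Opens.toSpecΓ_SpecMap_appLE_assoc, ← Spec.map_comp_assoc, key]
  have : IsImmersion ((ι ≫ r).resLE D W' le_rfl ≫ σ) := by rw [h2]; infer_instance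
  have h3 : IsImmersion ((ι ≫ r).resLE D W' le_rfl) := IsImmersion.of_comp _ σ
  have h4 : IsImmersion ((ι ≫ r) ∣_ D) := by
    rw [← Scheme.Hom.resLE_eq_morphismRestrict]
    exact h3
  rw [morphismRestrict_comp] at h4
  have hs : Surjective (ι ∣_ r ⁻¹ᵁ D) := ⟨fun x => by
    obtain ⟨y, hy⟩ := hW x.2
    have hy' : y ∈ ι ⁻¹ᵁ (r ⁻¹ᵁ D) := by show ι y ∈ r ⁻¹ᵁ D; rw [hy]; exact x.2
    refine ⟨⟨y, hy'⟩, Subtype.ext ?_⟩
    exact (congrArg (fun g : (ι ⁻¹ᵁ (r ⁻¹ᵁ D)).toScheme ⟶ X => g.base ⟨y, hy'⟩) (morphismRestrict_ι ι (r ⁻¹ᵁ D))).trans hy⟩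
  haveI : IsIso (ι ∣_ r ⁻¹ᵁ D) :=
    (isIso_iff_isOpenImmersion_and_epi_base _).2 ⟨inferInstance, (TopCat.epi_iff_surjective _).2 hs.1⟩
  exact (MorphismProperty.cancel_left_of_respectsIso @IsImmersion _ _).1 h4

theorem appLE_opens_comp {X P : Scheme.{u}} (O : X.Opens) (r : X ⟶ P) (D : P.Opens) (W' : O.toScheme.Opens)
    (e : W' ≤ (O.ι ≫ r) ⁻¹ᵁ D) (e' : O.ι ''ᵁ W' ≤ r ⁻¹ᵁ D) :
    (O.ι ≫ r).appLE D W' e = r.appLE D (O.ι ''ᵁ W') e' := by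
  rw [Scheme.Hom.comp_appLE, Scheme.Opens.ι_appLE, Scheme.Hom.appLE]

theorem isFrame_restrict {X : Scheme.{u}} {L : X.Modules} {O : X.Opens} {W' : O.toScheme.Opens}
    {e : Γ(L, O.ι ''ᵁ W')} (he : InvX.IsFrame e) : InvX.IsFrame (show Γ(L.restrict O.ι, W') from e) :=
  fun V' hV' => by
    have h := he (O.ι ''ᵁ V') (O.ι.image_mono hV')
    exact ⟨fun r r' hr => h.1 ((H23.Frame.restrict_smul O V' r _).symm.trans
        (hr.trans (H23.Frame.restrict_smul O V' r' _))),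
      fun x => (h.2 x).imp fun r hr => (H23.Frame.restrict_smul O V' r _).trans hr⟩

theorem isFrame_of_restrict {X : Scheme.{u}} {L : X.Modules} {O : X.Opens} {W' : O.toScheme.Opens}
    {e : Γ(L.restrict O.ι, W')} (he : InvX.IsFrame e) :
    InvX.IsFrame (show Γ(L, O.ι ''ᵁ W') from e) := fun V hV => by
  obtain ⟨V', rfl⟩ : ∃ V', O.ι ''ᵁ V' = V := ⟨O.ι ⁻¹ᵁ V, by
    rw [Scheme.Hom.image_preimage_eq_opensRange_inf, inf_eq_right]
    exact hV.trans (O.ι.image_le_opensRange W')⟩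
  have h := he V' ((Scheme.Hom.preimage_image_eq O.ι V').ge.trans ((O.ι.preimage_mono hV).trans
    (Scheme.Hom.preimage_image_eq O.ι W').le))
  exact ⟨fun r r' hr => h.1 ((H23.Frame.restrict_smul O V' r _).trans
      (hr.trans (H23.Frame.restrict_smul O V' r' _).symm)),
    fun x => (h.2 x).imp fun r hr => (H23.Frame.restrict_smul O V' r _).symm.trans hr⟩

section

variable {X Y : Scheme.{u}} {q : X ⟶ Y} {L : X.Modules} {V₀ : Y.Opens} {E' : V₀.toScheme.Modules}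
  (θ' : E' ⟶ (Scheme.Modules.pushforward (q ∣_ V₀)).obj (L.restrict (q ⁻¹ᵁ V₀).ι))

/-- The section over the open of `Y` given by a local one. -/
def sec {U' : V₀.toScheme.Opens} (a : Γ(E', U')) :
    Γ((Scheme.Modules.pushforward q).obj L, V₀.ι ''ᵁ U') :=
  res L (image_morphismRestrict_preimage q V₀ U').ge
    (show Γ(L, (q ⁻¹ᵁ V₀).ι ''ᵁ ((q ∣_ V₀) ⁻¹ᵁ U')) from θ'.app U' a)

theorem sec_add {U' : V₀.toScheme.Opens} (a b : Γ(E', U')) : sec θ' (a + b) = sec θ' a + sec θ' b :=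
  (congrArg (res L _) (map_add (θ'.app U').hom a b)).trans (map_add (res L _) _ _)

theorem sec_smul {U' : V₀.toScheme.Opens} (c : Γ(V₀.toScheme, U')) (a : Γ(E', U')) :
    sec θ' (c • a) = (show Γ(Y, V₀.ι ''ᵁ U') from c) • sec θ' a := by
  refine (congrArg (res L _) ((Scheme.Modules.Hom.app_smul θ' c a).trans
    (H23.Frame.restrict_smul (q ⁻¹ᵁ V₀) ((q ∣_ V₀) ⁻¹ᵁ U') _ _))).trans ?_
  refine (res_smul (M := L) _ (show Γ(X, (q ⁻¹ᵁ V₀).ι ''ᵁ ((q ∣_ V₀) ⁻¹ᵁ U')) from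
    ((q ∣_ V₀).app U').hom c) _).trans ?_
  refine congrArg (· • (show Γ(L, q ⁻¹ᵁ (V₀.ι ''ᵁ U')) from sec θ' a))
    (show _ = (q.app (V₀.ι ''ᵁ U')).hom (show Γ(Y, V₀.ι ''ᵁ U') from c) from ?_)
  rw [morphismRestrict_app']
  show (X.presheaf.map _).hom ((q.appLE _ _ _).hom c) = (q.app _).hom c
  rw [← CommRingCat.comp_apply, Scheme.Hom.appLE_map, Scheme.Hom.app_eq_appLE]
  rfl

theorem thv_sec {U' : V₀.toScheme.Opens} {W' : (q ⁻¹ᵁ V₀).toScheme.Opens}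
    (h' : W' ≤ (q ∣_ V₀) ⁻¹ᵁ U') (h : (q ⁻¹ᵁ V₀).ι ''ᵁ W' ≤ q ⁻¹ᵁ (V₀.ι ''ᵁ U')) (a : Γ(E', U')) :
    thv (𝟙 ((Scheme.Modules.pushforward q).obj L)) h (sec θ' a) =
      (show Γ(L, (q ⁻¹ᵁ V₀).ι ''ᵁ W') from thv θ' h' a) :=
  res_res _ _ _

theorem image_le_preimage {U' : V₀.toScheme.Opens} {W' : (q ⁻¹ᵁ V₀).toScheme.Opens}
    (h' : W' ≤ (q ∣_ V₀) ⁻¹ᵁ U') : (q ⁻¹ᵁ V₀).ι ''ᵁ W' ≤ q ⁻¹ᵁ (V₀.ι ''ᵁ U') :=
  ((q ⁻¹ᵁ V₀).ι.image_mono h').trans (image_morphismRestrict_preimage q V₀ U').le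

theorem preimage_le_of_le {U' : V₀.toScheme.Opens} {W : X.Opens} (h : W ≤ q ⁻¹ᵁ (V₀.ι ''ᵁ U')) :
    (q ⁻¹ᵁ V₀).ι ⁻¹ᵁ W ≤ (q ∣_ V₀) ⁻¹ᵁ U' := by
  refine ((q ⁻¹ᵁ V₀).ι.preimage_mono h).trans ?_
  rw [← image_morphismRestrict_preimage q V₀ U', Scheme.Hom.preimage_image_eq]

end

theorem gen_id_of_local {X Y : Scheme.{u}} {q : X ⟶ Y} {L : X.Modules} {ι : Type u} {U : ι → Y.Opens}
    (hU : ⨆ i, U i = ⊤) (h : ∀ i, RelProj.IsRelVeryAmple (q ∣_ U i) (L.restrict (q ⁻¹ᵁ U i).ι)) :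
    Gen (q := q) (L := L) (𝟙 ((Scheme.Modules.pushforward q).obj L)) := fun x => by
  obtain ⟨k, hk⟩ := Opens.mem_iSup.1 (show q x ∈ ⨆ i, U i by rw [hU]; trivial)
  obtain ⟨E', B', m, -, hm, ⟨τ⟩⟩ := exists_pb_of_isRelVeryAmple (h k)
  obtain ⟨U', hU', e, W', h', hx, hf⟩ :=
    IsMapOf.gen (B := B') _ (isMapOf_thetaOf hm τ.symm) (⟨x, hk⟩ : (q ⁻¹ᵁ U k).toScheme)
  refine ⟨(U k).ι ''ᵁ U', hU'.image_of_isOpenImmersion _, sec (thetaOf hm τ.inv) e,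
    (q ⁻¹ᵁ U k).ι ''ᵁ W', image_le_preimage h', ⟨⟨x, hk⟩, hx, rfl⟩, ?_⟩
  rw [thv_sec _ h']
  exact isFrame_of_restrict hf

theorem isImmersion_of_local {X Y : Scheme.{u}} {q : X ⟶ Y} {L : X.Modules} {ι : Type u} {U : ι → Y.Opens}
    (hU : ⨆ i, U i = ⊤) (h : ∀ i, RelProj.IsRelVeryAmple (q ∣_ U i) (L.restrict (q ⁻¹ᵁ U i).ι))
    (B : PB Y ((Scheme.Modules.pushforward q).obj L)) {r : X ⟶ B.P}
    (hr : IsMapOf B (𝟙 ((Scheme.Modules.pushforward q).obj L)) r) : IsImmersion r := by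
  choose E' B' m him hm τ using fun i => exists_pb_of_isRelVeryAmple (h i)
  let θ' := fun i => thetaOf (hm i) (τ i).some.inv
  have hθ' : ∀ i, IsMapOf (B' i) (θ' i) (m i) := fun i => isMapOf_thetaOf (hm i) (τ i).some.symm
  let κ := Σ' (i : ι) (U' : (U i).toScheme.affineOpens), Γ(E' i, U'.1)
  refine isImmersion_of_immersion_on r
    (fun a : κ => B.D (a.2.1.2.image_of_isOpenImmersion (U a.1).ι) (sec (θ' a.1) a.2.2)) (fun x => ?_) fun a => ?_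
  · obtain ⟨k, hk⟩ := Opens.mem_iSup.1 (show q x ∈ ⨆ i, U i by rw [hU]; trivial)
    obtain ⟨U', hU', e, W', h', hx, hf⟩ :=
      IsMapOf.gen (B := B' k) _ (hθ' k) (⟨x, hk⟩ : (q ⁻¹ᵁ U k).toScheme)
    refine ⟨⟨k, ⟨U', hU'⟩, e⟩, hr.mem _ _ _ ((q ⁻¹ᵁ U k).ι ''ᵁ W') (image_le_preimage h') ?_ ⟨⟨x, hk⟩, hx, rfl⟩⟩
    rw [thv_sec _ h']
    exact isFrame_of_restrict hf
  obtain ⟨k, ⟨U', hU'⟩, e⟩ := a
  have hV := hU'.image_of_isOpenImmersion (U k).ι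
  show IsImmersion (r ∣_ B.D hV (sec (θ' k) e))
  let D := B.D hV (sec (θ' k) e)
  let W := r ⁻¹ᵁ D
  let O := q ⁻¹ᵁ U k
  let W' : O.toScheme.Opens := O.ι ⁻¹ᵁ W
  have hWq : W ≤ q ⁻¹ᵁ ((U k).ι ''ᵁ U') := fun x hx => by
    show q x ∈ (U k).ι ''ᵁ U'
    rw [← hr.comp, Scheme.Hom.comp_apply]
    exact B.D_le hV _ hx
  have h' : W' ≤ (q ∣_ U k) ⁻¹ᵁ U' := preimage_le_of_le hWq
  have hle : O.ι ''ᵁ W' ≤ W := by
    rw [Scheme.Hom.image_preimage_eq_opensRange_inf]; exact inf_le_right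
  have hF := hr.frame _ hV (sec (θ' k) e) _ (hle.trans hWq) hle
  rw [thv_sec _ h'] at hF
  have hF' : InvX.IsFrame (thv (θ' k) h' e) := isFrame_restrict hF
  have hWi : W' ≤ m k ⁻¹ᵁ (B' k).D hU' e := (hθ' k).mem U' hU' e W' h' hF'
  have := him k
  obtain ⟨α, hαb, hαa⟩ := (B' k).exists_ringHom hU' e (B.base hV (sec (θ' k) e))
    (AddMonoidHom.mk' (fun a => B.ratio hV (sec (θ' k) a) (sec (θ' k) e)) fun a a' => by
      rw [sec_add, B.ratio_add])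
    (fun c a => by
      show B.ratio hV (sec (θ' k) (c • a)) _ = _
      rw [sec_smul, B.ratio_smul]
      rfl)
    (B.ratio_self hV _)
  refine isImmersion_restrict_of_factor r D O.ι (fun x hx => ?_) (m k) ((B' k).isAffineOpen_D hU' e) hWi
    (CommRingCat.ofHom α) ?_
  · rw [Scheme.Opens.opensRange_ι]
    exact (image_morphismRestrict_preimage q (U k) U').ge.trans (O.ι_image_le _) (hWq hx)
  rw [appLE_opens_comp O r D W' le_rfl hle]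
  refine CommRingCat.hom_ext ((B' k).ringHom_ext hU' e (fun c => ?_) fun a => ?_)
  · show (r.appLE D (O.ι ''ᵁ W') hle).hom (α _) = _
    rw [hαb]
    show (B.p.appLE _ D _ ≫ r.appLE D _ hle).hom c =
      ((B' k).p.appLE U' _ _ ≫ (m k).appLE _ W' hWi).hom c
    rw [Scheme.Hom.appLE_comp_appLE, Scheme.Hom.appLE_comp_appLE]
    have h1 := hr.comp
    have h2 := hm k
    simp only [h1, h2]
    rw [morphismRestrict_appLE]
    rfl
  · show (r.appLE D (O.ι ''ᵁ W') hle).hom (α _) = _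
    rw [hαa]
    refine hF'.coord_unique le_rfl ?_
    rw [res_self]
    refine Eq.trans ?_ ((hθ' k).coord U' hU' a e W' h' hWi)
    have := hr.coord _ hV (sec (θ' k) a) (sec (θ' k) e) _ (hle.trans hWq) hle
    rw [thv_sec _ h', thv_sec _ h'] at this
    exact (H23.Frame.restrict_smul O W' _ _).trans this.symm

theorem isRelVeryAmple_of_local {X Y : Scheme.{u}} {q : X ⟶ Y} [QuasiCompact q] {L : X.Modules}
    (hL : Coh.IsQCoh L) {ι : Type u} {U : ι → Y.Opens} (hU : ⨆ i, U i = ⊤)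
    (h : ∀ i, RelProj.IsRelVeryAmple (q ∣_ U i) (L.restrict (q ⁻¹ᵁ U i).ι)) :
    RelProj.IsRelVeryAmple q L := by
  have : IsSeparated q := IsZariskiLocalAtTarget.of_iSup_eq_top (P := @IsSeparated) U hU fun i => by
    obtain ⟨E', B', m, hm, hq, -⟩ := exists_pb_of_isRelVeryAmple (h i)
    have := S8259.result B'.𝒮 B'.p B'.chart B'.hP
    rw [← hq]
    infer_instance
  obtain ⟨B⟩ := PB.exists_of_isQCoh (QCoh.isQCoh_pushforward q hL)
  obtain ⟨r, hr⟩ := exists_isMapOf B _ (gen_id_of_local hU h)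
  have := isImmersion_of_local hU h B hr
  obtain ⟨τ, -⟩ := hr.exists_iso
  exact B.isRelVeryAmple _ r hr.comp τ.symm

theorem isRelVeryAmple_restrict {X Y : Scheme.{u}} {q : X ⟶ Y} {L : X.Modules}
    (hva : RelProj.IsRelVeryAmple q L) (V : Y.Opens) :
    RelProj.IsRelVeryAmple (q ∣_ V) (L.restrict (q ⁻¹ᵁ V).ι) :=
  isRelVeryAmple_of_iso ((Scheme.Modules.restrictFunctorIsoPullback (q ⁻¹ᵁ V).ι).app L).symm
    (isRelVeryAmple_baseChange (isPullback_morphismRestrict q V).flip hva)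

end Groth.Agent.RelVA16
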