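import Groth.Agent.RelVA16.EpiImm
import Groth.Agent.RelVA16.LocalBase
import Groth.Agent.RelVA16.FrameIso
import Groth.Agent.Proj16.RelMap
import Mathlib.AlgebraicGeometry.Limits
import Groth.Agent.QCoh.Support

/-! Bundles of a direct sum contain the bundles of the summands disjointly. -/

set_option autoImplicit false
set_option backward.isDefEq.respectTransparency false
set_option backward.isDefEq.respectTransparency.types false
set_option linter.style.haveILetI false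

universe u

open CategoryTheory CategoryTheory.Limits AlgebraicGeometry TopologicalSpace Opposite
open scoped HomogeneousIdeal

noncomputable section

namespace Groth.Agent.RelVA16

open Groth.Agent Groth.Agent.AModX

variable {Y : Scheme.{u}}

theorem PB.notMem_D_zero {G : Y.Modules} (B : PB Y G) {U : Y.Opens} (hU : IsAffineOpen U) (z : B.P) :
    z ∉ B.D hU (0 : Γ(G, U)) := fun hz => by
  have h0 : B.ratio hU (0 : Γ(G, U)) (0 : Γ(G, U)) = 0 := by
    have h := B.ratio_add hU (0 : Γ(G, U)) 0 0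
    rw [add_zero] at h
    exact left_eq_add.1 h
  have hb := B.basicOpen_ratio hU (0 : Γ(G, U)) 0
  rw [h0, Scheme.basicOpen_zero, inf_idem] at hb
  exact (hb.ge hz : z ∈ (⊥ : B.P.Opens))

/-- Restriction of a map out of a coproduct over an open missing the second summand. -/
theorem isImmersion_desc_restrict {X X' P : Scheme.{u}} (a : X ⟶ P) (b : X' ⟶ P) [IsImmersion a] (O : P.Opens)
    (hb : ∀ x, b x ∉ O) : IsImmersion (coprod.desc a b ∣_ O) := by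
  let t := coprod.desc a b
  let ι : X ⟶ X ⨿ X' := coprod.inl
  have hW : (t ⁻¹ᵁ O : Set ↥(X ⨿ X')) ⊆ Set.range ι := fun x hx => by
    rcases (isCompl_range_inl_inr X X').codisjoint.eq_top.ge (Set.mem_univ x) with h | ⟨y, rfl⟩
    · exact h
    · refine absurd ?_ (hb y)
      have h1 : t ((coprod.inr : X' ⟶ X ⨿ X') y) = b y := by
        rw [← Scheme.Hom.comp_apply, coprod.inr_desc]
      exact h1 ▸ hx
  have h4 : IsImmersion ((ι ≫ t) ∣_ O) := by
    have h5 : ι ≫ t = a := coprod.inl_desc a b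
    rw [h5]; infer_instance
  rw [morphismRestrict_comp] at h4
  have hs : Surjective (ι ∣_ t ⁻¹ᵁ O) := ⟨fun x => by
    obtain ⟨y, hy⟩ := hW x.2
    have hy' : y ∈ ι ⁻¹ᵁ (t ⁻¹ᵁ O) := by show ι y ∈ t ⁻¹ᵁ O; rw [hy]; exact x.2
    refine ⟨⟨y, hy'⟩, Subtype.ext ?_⟩
    exact (congrArg (fun g : (ι ⁻¹ᵁ (t ⁻¹ᵁ O)).toScheme ⟶ X ⨿ X' => g.base ⟨y, hy'⟩)
      (morphismRestrict_ι ι (t ⁻¹ᵁ O))).trans hy⟩
  haveI : IsIso (ι ∣_ t ⁻¹ᵁ O) :=
    (isIso_iff_isOpenImmersion_and_epi_base _).2 ⟨inferInstance, (TopCat.epi_iff_surjective _).2 hs.1⟩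
  exact (MorphismProperty.cancel_left_of_respectsIso @IsImmersion _ _).1 h4

/-- The same with the roles exchanged. -/
theorem isImmersion_desc_restrict' {X X' P : Scheme.{u}} (a : X ⟶ P) (b : X' ⟶ P) [IsImmersion b] (O : P.Opens)
    (ha : ∀ x, a x ∉ O) : IsImmersion (coprod.desc a b ∣_ O) := by
  have h := isImmersion_desc_restrict b a O ha
  have e : coprod.desc a b = (coprod.braiding X X').hom ≫ coprod.desc b a := by ext <;> simp
  rw [e, morphismRestrict_comp]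
  exact (MorphismProperty.cancel_left_of_respectsIso @IsImmersion _ _).2 h

theorem isImmersion_desc_pb {X X' : Scheme.{u}} {E F : Y.Modules} (B : PB Y (E ⊞ F)) (B₁ : PB Y E) (B₂ : PB Y F)
    (ψ₁ : B₁.P ⟶ B.P) (ψ₂ : B₂.P ⟶ B.P)
    (hpre₁ : ∀ (U : Y.Opens) (hU : IsAffineOpen U) (e : Γ(E ⊞ F, U)),
      ψ₁ ⁻¹ᵁ B.D hU e = B₁.D hU ((biprod.fst : E ⊞ F ⟶ E).app U e))
    (hpre₂ : ∀ (U : Y.Opens) (hU : IsAffineOpen U) (e : Γ(E ⊞ F, U)),
      ψ₂ ⁻¹ᵁ B.D hU e = B₂.D hU ((biprod.snd : E ⊞ F ⟶ F).app U e))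
    [IsImmersion ψ₁] [IsImmersion ψ₂] (k₁ : X ⟶ B₁.P) [IsImmersion k₁] (k₂ : X' ⟶ B₂.P) [IsImmersion k₂] :
    IsImmersion (coprod.desc (k₁ ≫ ψ₁) (k₂ ≫ ψ₂)) := by
  let α : Bool → B.P.Opens := fun c => ⨆ (V : Y.affineOpens) (a : Γ(E, V.1)) (b : Γ(F, V.1)),
    cond c (B.D V.2 ((biprod.inl : E ⟶ E ⊞ F).app V.1 a)) (B.D V.2 ((biprod.inr : F ⟶ E ⊞ F).app V.1 b))
  have h12 : ∀ {U : Y.Opens} (b : Γ(F, U)),
      (biprod.fst : E ⊞ F ⟶ E).app U ((biprod.inr : F ⟶ E ⊞ F).app U b) = 0 := fun {U} b =>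
    congrArg (fun χ : F ⟶ E => χ.app U b) (biprod.inr_fst (X := E) (Y := F))
  have h21 : ∀ {U : Y.Opens} (a : Γ(E, U)),
      (biprod.snd : E ⊞ F ⟶ F).app U ((biprod.inl : E ⟶ E ⊞ F).app U a) = 0 := fun {U} a =>
    congrArg (fun χ : E ⟶ F => χ.app U a) (biprod.inl_snd (X := E) (Y := F))
  have n₁ : ∀ z : B₁.P, ψ₁ z ∉ α false := fun z hz => by
    simp only [α, cond, Opens.mem_iSup] at hz
    obtain ⟨V, -, b, hb⟩ := hz
    have h : z ∈ ψ₁ ⁻¹ᵁ B.D V.2 ((biprod.inr : F ⟶ E ⊞ F).app V.1 b) := hb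
    rw [hpre₁, h12] at h
    exact B₁.notMem_D_zero _ z h
  have n₂ : ∀ z : B₂.P, ψ₂ z ∉ α true := fun z hz => by
    simp only [α, cond, Opens.mem_iSup] at hz
    obtain ⟨V, a, -, ha⟩ := hz
    have h : z ∈ ψ₂ ⁻¹ᵁ B.D V.2 ((biprod.inl : E ⟶ E ⊞ F).app V.1 a) := ha
    rw [hpre₂, h21] at h
    exact B₂.notMem_D_zero _ z h
  refine isImmersion_of_immersion_on _ (fun c : ULift.{u} Bool => α c.down) (fun x => ?_) fun c => ?_
  · let w : B.P := (coprod.desc (k₁ ≫ ψ₁) (k₂ ≫ ψ₂)).base x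
    show ∃ c, w ∈ α (ULift.down c)
    obtain ⟨_, ⟨U, hU, rfl⟩, hwU, -⟩ := Y.isBasis_affineOpens.exists_subset_of_mem_open
      (Set.mem_univ (B.p w)) isOpen_univ
    obtain ⟨e, he⟩ := B.exists_mem_D hU hwU
    have hsum : (biprod.inl : E ⟶ E ⊞ F).app U ((biprod.fst : E ⊞ F ⟶ E).app U e) +
        (biprod.inr : F ⟶ E ⊞ F).app U ((biprod.snd : E ⊞ F ⟶ F).app U e) = e :=
      congrArg (fun χ : E ⊞ F ⟶ E ⊞ F => χ.app U e) (biprod.total (X := E) (Y := F))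
    have h1 : w ∈ B.P.basicOpen (B.ratio hU e e) := by rw [B.basicOpen_ratio hU]; exact ⟨he, he⟩
    have hr : B.ratio hU e e = B.ratio hU ((biprod.inl : E ⟶ E ⊞ F).app U ((biprod.fst : E ⊞ F ⟶ E).app U e)) e +
        B.ratio hU ((biprod.inr : F ⟶ E ⊞ F).app U ((biprod.snd : E ⊞ F ⟶ F).app U e)) e := by
      rw [← B.ratio_add]; exact congrArg (fun a => B.ratio hU a e) hsum.symm
    rw [hr] at h1
    rcases B.P.basicOpen_add_le _ _ h1 with h | h
    · refine ⟨⟨true⟩, ?_⟩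
      rw [SetLike.mem_coe, B.basicOpen_ratio hU] at h
      simp only [α, cond, Opens.mem_iSup]
      exact ⟨⟨U, hU⟩, _, (biprod.snd : E ⊞ F ⟶ F).app U e, h.2⟩
    · refine ⟨⟨false⟩, ?_⟩
      rw [SetLike.mem_coe, B.basicOpen_ratio hU] at h
      simp only [α, cond, Opens.mem_iSup]
      exact ⟨⟨U, hU⟩, (biprod.fst : E ⊞ F ⟶ E).app U e, _, h.2⟩
  obtain ⟨_ | _⟩ := c
  · exact isImmersion_desc_restrict' _ _ _ fun x => by rw [Scheme.Hom.comp_apply]; exact n₁ _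
  · exact isImmersion_desc_restrict _ _ _ fun x => by rw [Scheme.Hom.comp_apply]; exact n₂ _

/-- Invertible modules isomorphic on each piece of a disjoint cover are isomorphic. -/
theorem nonempty_iso_of_opens {P : Scheme.{u}} {M N : P.Modules} (hM : PicF.IsInvertible M) (O : Bool → P.Opens)
    (hd : O true ⊓ O false = ⊥) (hc : O true ⊔ O false = ⊤) (ε : ∀ c, M.restrict (O c).ι ≅ N.restrict (O c).ι) :
    Nonempty (M ≅ N) := by
  let ι := Σ' (c : ULift.{u} Bool) (V : (O c.down).toScheme.Opens) (s : Γ(M, (O c.down).ι ''ᵁ V)), InvX.IsFrame s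
  have hcov : ∀ x, ∃ a : ι, x ∈ (O a.1.down).ι ''ᵁ a.2.1 := fun x => by
    obtain ⟨c, hc'⟩ : ∃ c, x ∈ O c := by
      rcases hc.ge (show x ∈ (⊤ : P.Opens) from trivial) with h | h
      · exact ⟨true, h⟩
      · exact ⟨false, h⟩
    obtain ⟨W, hxW, s, hs⟩ := InvX.exists_frame hM x
    have hle : (O c).ι ''ᵁ ((O c).ι ⁻¹ᵁ W) ≤ W := (O c).ι.image_preimage_le W
    exact ⟨⟨⟨c⟩, (O c).ι ⁻¹ᵁ W, res M hle s, hs.res hle⟩, ⟨⟨x, hc'⟩, hxW, rfl⟩⟩
  obtain ⟨φ, -⟩ := exists_iso_of_frames (M := M) (N := N) (fun a : ι => (O a.1.down).ι ''ᵁ a.2.1) hcov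
    (fun a => a.2.2.1) (fun a => a.2.2.2)
    (fun a => (ε a.1.down).hom.app a.2.1 a.2.2.1)
    (fun a => isFrame_of_restrict ((isFrame_restrict a.2.2.2).map_iso (ε a.1.down))) fun a b W ha hb g hg => by
      obtain ⟨⟨c⟩, V, s, hs⟩ := a
      obtain ⟨⟨c'⟩, V', s', hs'⟩ := b
      by_cases hcc : c = c'
      · subst hcc
        obtain ⟨W', rfl⟩ : ∃ W', (O c).ι ''ᵁ W' = W := ⟨(O c).ι ⁻¹ᵁ W, by
          rw [Scheme.Hom.image_preimage_eq_opensRange_inf, inf_eq_right]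
          exact ha.trans ((O c).ι.image_le_opensRange V)⟩
        have hVa : W' ≤ V := (Scheme.Hom.preimage_image_eq (O c).ι W').ge.trans
          (((O c).ι.preimage_mono ha).trans (Scheme.Hom.preimage_image_eq (O c).ι V).le)
        have hVb : W' ≤ V' := (Scheme.Hom.preimage_image_eq (O c).ι W').ge.trans
          (((O c).ι.preimage_mono hb).trans (Scheme.Hom.preimage_image_eq (O c).ι V').le)
        have h2 : (show Γ(M.restrict (O c).ι, W') from res M hb s') =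
            (show Γ((O c).toScheme, W') from g) • (show Γ(M.restrict (O c).ι, W') from res M ha s) :=
          hg.trans (H23.Frame.restrict_smul (O c) W' _ _).symm
        have h3 := congrArg ((ε c).hom.app W') h2
        rw [Scheme.Modules.Hom.app_smul] at h3
        have e1 : (ε c).hom.app W' (res M hb s') = res N hb ((ε c).hom.app V' s') :=
          AModX.app_res (M := M.restrict (O c).ι) (N := N.restrict (O c).ι) (ε c).hom hVb s'
        have e2 : (ε c).hom.app W' (res M ha s) = res N ha ((ε c).hom.app V s) :=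
          AModX.app_res (M := M.restrict (O c).ι) (N := N.restrict (O c).ι) (ε c).hom hVa s
        exact e1.symm.trans (h3.trans ((H23.Frame.restrict_smul (O c) W' _ _).trans
          (congrArg (g • ·) e2)))
      · refine AModX.eq_of_locally _ _ fun x hx => absurd ?_ (not_false : ¬ False)
        have h1 : x ∈ O c := (O c).ι.image_le_opensRange V |>.trans (Scheme.Opens.opensRange_ι _).le <| ha hx
        have h2 : x ∈ O c' := (O c').ι.image_le_opensRange V' |>.trans (Scheme.Opens.opensRange_ι _).le <| hb hx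
        have h3 : x ∈ O true ⊓ O false := by
          cases c <;> cases c' <;> first | exact absurd rfl hcc | exact ⟨h1, h2⟩ | exact ⟨h2, h1⟩
        rw [hd] at h3
        exact h3
  exact ⟨φ⟩

theorem nonempty_restrict_iso {A P : Scheme.{u}} (i : A ⟶ P) [IsOpenImmersion i] {M N : P.Modules}
    (e : (Scheme.Modules.pullback i).obj M ≅ (Scheme.Modules.pullback i).obj N) :
    Nonempty (M.restrict i.opensRange.ι ≅ N.restrict i.opensRange.ι) := by
  let j := i.isoOpensRange.inv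
  have hj : j ≫ i = i.opensRange.ι := Scheme.Hom.isoOpensRange_inv_comp i
  exact ⟨(Scheme.Modules.restrictFunctorIsoPullback _).app M ≪≫ (Scheme.Modules.pullbackCongr hj.symm).app M ≪≫
    ((Scheme.Modules.pullbackComp j i).app M).symm ≪≫ (Scheme.Modules.pullback j).mapIso e ≪≫
    (Scheme.Modules.pullbackComp j i).app N ≪≫ (Scheme.Modules.pullbackCongr hj).app N ≪≫
    ((Scheme.Modules.restrictFunctorIsoPullback _).app N).symm⟩

theorem isRelVeryAmple_coprod {X X' : Scheme.{u}} {f : X ⨿ X' ⟶ Y} {L : (X ⨿ X').Modules}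
    (hL : PicF.IsInvertible L)
    (h : RelProj.IsRelVeryAmple (coprod.inl ≫ f) ((Scheme.Modules.pullback (coprod.inl : X ⟶ X ⨿ X')).obj L))
    (h' : RelProj.IsRelVeryAmple (coprod.inr ≫ f) ((Scheme.Modules.pullback (coprod.inr : X' ⟶ X ⨿ X')).obj L)) :
    RelProj.IsRelVeryAmple f L := by
  obtain ⟨E, B₁, k₁, hk₁, hk₁p, ⟨e₁⟩⟩ := exists_pb_of_isRelVeryAmple h
  obtain ⟨F, B₂, k₂, hk₂, hk₂p, ⟨e₂⟩⟩ := exists_pb_of_isRelVeryAmple h'
  have hq : Coh.IsQCoh (E ⊞ F) :=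
    QCoh.isQCoh_X₂ (ShortComplex.Splitting.ofHasBinaryBiproduct E F).shortExact B₁.hE B₂.hE
  obtain ⟨B⟩ := PB.exists_of_isQCoh hq
  obtain ⟨ψ₁, hψ₁, hψ₁p, ⟨o₁⟩, hpre₁⟩ := exists_closedImmersion_of_epi' (biprod.fst : E ⊞ F ⟶ E) B B₁
  obtain ⟨ψ₂, hψ₂, hψ₂p, ⟨o₂⟩, hpre₂⟩ := exists_closedImmersion_of_epi' (biprod.snd : E ⊞ F ⟶ F) B B₂
  let t := coprod.desc (k₁ ≫ ψ₁) (k₂ ≫ ψ₂)
  haveI : IsImmersion t := isImmersion_desc_pb B B₁ B₂ ψ₁ ψ₂ hpre₁ hpre₂ k₁ k₂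
  have ht : t ≫ B.p = f := by
    ext <;> simp [t, hψ₁p, hψ₂p, hk₁p, hk₂p]
  let ε₁ : (Scheme.Modules.pullback (coprod.inl : X ⟶ X ⨿ X')).obj L ≅
      (Scheme.Modules.pullback (coprod.inl : X ⟶ X ⨿ X')).obj ((Scheme.Modules.pullback t).obj B.O1) :=
    e₁ ≪≫ (Scheme.Modules.pullback k₁).mapIso o₁.symm ≪≫ (Scheme.Modules.pullbackComp k₁ ψ₁).app B.O1 ≪≫
      (Scheme.Modules.pullbackCongr (coprod.inl_desc (k₁ ≫ ψ₁) (k₂ ≫ ψ₂)).symm).app B.O1 ≪≫
      ((Scheme.Modules.pullbackComp coprod.inl t).app B.O1).symm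
  let ε₂ : (Scheme.Modules.pullback (coprod.inr : X' ⟶ X ⨿ X')).obj L ≅
      (Scheme.Modules.pullback (coprod.inr : X' ⟶ X ⨿ X')).obj ((Scheme.Modules.pullback t).obj B.O1) :=
    e₂ ≪≫ (Scheme.Modules.pullback k₂).mapIso o₂.symm ≪≫ (Scheme.Modules.pullbackComp k₂ ψ₂).app B.O1 ≪≫
      (Scheme.Modules.pullbackCongr (coprod.inr_desc (k₁ ≫ ψ₁) (k₂ ≫ ψ₂)).symm).app B.O1 ≪≫
      ((Scheme.Modules.pullbackComp coprod.inr t).app B.O1).symm
  have hc := isCompl_opensRange_inl_inr X X'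
  obtain ⟨η₁⟩ := nonempty_restrict_iso _ ε₁
  obtain ⟨η₂⟩ := nonempty_restrict_iso _ ε₂
  obtain ⟨e⟩ := nonempty_iso_of_opens hL
    (fun c => cond c (coprod.inl : X ⟶ X ⨿ X').opensRange (coprod.inr : X' ⟶ X ⨿ X').opensRange)
    hc.inf_eq_bot hc.sup_eq_top (fun | true => η₁ | false => η₂)
  exact B.isRelVeryAmple L t ht e

/-- The map of relative `Proj`s pulls `D₊(f)` back to `D₊(φ f)`. -/
theorem preimage_dO_relProjMap {PA PB : Scheme.{u}} {𝒜 ℬ : RelProj.QCGrAlg Y} {φ : 𝒜.toQCAlg ⟶ ℬ.toQCAlg}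
    {hφ : RelProj.IsGradedHom φ}
    {hirr : ∀ (U : Y.Opens) (hU : IsAffineOpen U),
      (ℬ.deg U hU)₊ ≤ ((𝒜.deg U hU)₊).map (RelProj.gradedHomAt φ hφ U hU)}
    {pA : PA ⟶ Y} {pB : PB ⟶ Y}
    {chartA : ∀ (U : Y.Opens) (hU : IsAffineOpen U), (((pA ⁻¹ᵁ U : PA.Opens) : Scheme.{u}) ≅ Proj (𝒜.deg U hU))}
    {chartB : ∀ (U : Y.Opens) (hU : IsAffineOpen U), (((pB ⁻¹ᵁ U : PB.Opens) : Scheme.{u}) ≅ Proj (ℬ.deg U hU))}
    (hA : RelProj.IsRelProj 𝒜 pA chartA) (hB : RelProj.IsRelProj ℬ pB chartB) {h : PB ⟶ PA}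
    (hh : RelProj.IsRelProjMap φ hφ hirr chartA chartB h) {U : Y.Opens} (hU : IsAffineOpen U)
    (f : 𝒜.presheaf.obj (op U)) :
    h ⁻¹ᵁ dO pA chartA hU f = dO pB chartB hU ((φ.hom.app (op U)).hom f) := by
  have hcomp := Proj16.relProjMap_comp hA hB hh
  have key : RelProj.emb pB chartB U hU ≫ h =
      Proj.map (RelProj.gradedHomAt φ hφ U hU) (hirr U hU) ≫ RelProj.emb pA chartA U hU := by
    show ((chartB U hU).inv ≫ (pB ⁻¹ᵁ U).ι) ≫ h = _
    rw [Category.assoc, hh U hU, Iso.inv_hom_id_assoc]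
    rfl
  ext z
  constructor
  · intro hz
    have hzU : pB z ∈ U := by
      rw [← hcomp, Scheme.Hom.comp_apply]
      exact dO_le (p := pA) (chart := chartA) hU f hz
    obtain ⟨y, rfl⟩ : z ∈ (RelProj.emb pB chartB U hU).opensRange := by rw [RelTildeX.opensRange_emb]; exact hzU
    have h1 : (RelProj.emb pB chartB U hU ≫ h) y ∈ dO pA chartA hU f := by rw [Scheme.Hom.comp_apply]; exact hz
    rw [key, Scheme.Hom.comp_apply] at h1
    obtain ⟨w, hw, he⟩ := h1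
    rw [(RelProj.emb pA chartA U hU).isOpenEmbedding.injective he] at hw
    exact ⟨y, hw, rfl⟩
  · rintro ⟨y, hy, rfl⟩
    show h (RelProj.emb pB chartB U hU y) ∈ dO pA chartA hU f
    rw [← Scheme.Hom.comp_apply, key, Scheme.Hom.comp_apply]
    exact ⟨_, hy, rfl⟩

end Groth.Agent.RelVA16
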