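import Groth.Agent.RelVA16.FTGen
import Groth.Agent.RelVA16.Segre
import Groth.Agent.QCoh.Support

/-! An epimorphism of modules gives a closed immersion of projective bundles. -/

set_option autoImplicit false
set_option backward.isDefEq.respectTransparency false
set_option backward.isDefEq.respectTransparency.types false
set_option linter.style.haveILetI false

universe u

open CategoryTheory CategoryTheory.Limits AlgebraicGeometry TopologicalSpace Opposite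

noncomputable section

namespace Groth.Agent.RelVA16

open Groth.Agent Groth.Agent.AModX

theorem exists_closedImmersion_of_epi' {Y : Scheme.{u}} {E G : Y.Modules} (φ : E ⟶ G) [Epi φ]
    (B : PB Y E) (B' : PB Y G) :
    ∃ ψ : B'.P ⟶ B.P, IsClosedImmersion ψ ∧ ψ ≫ B.p = B'.p ∧
      Nonempty ((Scheme.Modules.pullback ψ).obj B.O1 ≅ B'.O1) ∧
      ∀ (U : Y.Opens) (hU : IsAffineOpen U) (e : Γ(E, U)), ψ ⁻¹ᵁ B.D hU e = B'.D hU (φ.app U e) := by
  let τ₀ : (Scheme.Modules.pullback (𝟙 B'.P)).obj B'.O1 ≅ B'.O1 := (Scheme.Modules.pullbackId _).app _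
  let θ₁ := thetaOf (B := B') (r := 𝟙 B'.P) (Category.id_comp B'.p) τ₀.hom
  have hm : IsMapOf B' θ₁ (𝟙 B'.P) := isMapOf_thetaOf (Category.id_comp B'.p) τ₀
  have hth : ∀ {U : Y.Opens} {W : B'.P.Opens} (h : W ≤ B'.p ⁻¹ᵁ U) (e : Γ(E, U)),
      thv (φ ≫ θ₁) h e = thv θ₁ h (φ.app U e) := fun h e => rfl
  have hgen : Gen (φ ≫ θ₁) := fun x => by
    obtain ⟨_, ⟨U, hU, rfl⟩, hxU, -⟩ := Y.isBasis_affineOpens.exists_subset_of_mem_open
      (Set.mem_univ (B'.p x)) isOpen_univ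
    obtain ⟨e', he'⟩ := B'.exists_mem_D hU hxU
    obtain ⟨e, rfl⟩ := QCoh.app_surjective_of_epi B.hE B'.hE φ hU e'
    refine ⟨U, hU, e, B'.D hU (φ.app U e), B'.D_le hU _, he', ?_⟩
    rw [hth]
    exact hm.frame U hU _ _ _ (fun z hz => hz)
  obtain ⟨ψ, hψ⟩ := exists_isMapOf B _ hgen
  obtain ⟨τ, -⟩ := hψ.exists_iso
  have hpre' : ∀ (U : Y.Opens) (hU : IsAffineOpen U) (e : Γ(E, U)), ψ ⁻¹ᵁ B.D hU e = B'.D hU (φ.app U e) := by
    intro U hU e
    refine le_antisymm (fun z hz => ?_) (hψ.mem U hU e (B'.D hU (φ.app U e)) (B'.D_le hU _) ?_)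
    · let W₁ := ψ ⁻¹ᵁ B.D hU e
      have h₁ : W₁ ≤ B'.p ⁻¹ᵁ U := fun w hw => by
        show B'.p w ∈ U
        rw [← hψ.comp, Scheme.Hom.comp_apply]
        exact B.D_le hU _ hw
      have := hψ.frame U hU e W₁ h₁ le_rfl
      rw [hth] at this
      exact hm.mem U hU _ W₁ h₁ this hz
    · rw [hth]; exact hm.frame U hU _ _ _ (fun z hz => hz)
  refine ⟨ψ, ?_, hψ.comp, ⟨τ⟩, hpre'⟩
  let κ := Σ' U : Y.affineOpens, Γ(E, U.1)
  refine IsZariskiLocalAtTarget.of_iSup_eq_top (P := @IsClosedImmersion)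
    (fun a : κ => B.D a.1.2 a.2) ?_ fun a => ?_
  · refine eq_top_iff.2 fun z _ => ?_
    obtain ⟨_, ⟨U, hU, rfl⟩, hzU, -⟩ := Y.isBasis_affineOpens.exists_subset_of_mem_open
      (Set.mem_univ (B.p z)) isOpen_univ
    obtain ⟨e, he⟩ := B.exists_mem_D hU hzU
    exact Opens.mem_iSup.2 ⟨⟨⟨U, hU⟩, e⟩, he⟩
  obtain ⟨⟨U, hU⟩, e⟩ := a
  let W := B'.D hU (φ.app U e)
  have hWU : W ≤ B'.p ⁻¹ᵁ U := B'.D_le hU _
  have hfe : InvX.IsFrame (thv (φ ≫ θ₁) hWU e) := by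
    rw [hth]; exact hm.frame U hU _ W hWU (fun z hz => hz)
  have hpre : ψ ⁻¹ᵁ B.D hU e = W := hpre' U hU e
  refine isClosedImmersion_restrict_of_surjective ψ (B.isAffineOpen_D hU e) (B'.isAffineOpen_D hU _) hpre ?_
  intro c
  obtain ⟨A, -, hc⟩ := exists_finite_mem_closure B' hU (φ.app U e) c
  suffices h : Subring.closure (Set.range (B'.base hU (φ.app U e)) ∪
      (fun a => B'.ratio hU a (φ.app U e)) '' A) ≤ (ψ.appLE (B.D hU e) W hpre.ge).hom.range from h hc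
  rw [Subring.closure_le]
  rintro _ (⟨r', rfl⟩ | ⟨a', -, rfl⟩)
  · refine ⟨B.base hU e r', ?_⟩
    show (B.p.appLE U _ _ ≫ ψ.appLE _ W _).hom r' = _
    rw [Scheme.Hom.appLE_comp_appLE]
    have := hψ.comp
    simp only [this]
    rfl
  · obtain ⟨a, rfl⟩ := QCoh.app_surjective_of_epi B.hE B'.hE φ hU a'
    refine ⟨B.ratio hU a e, hfe.coord_unique le_rfl ?_⟩
    rw [res_self, ← hψ.coord U hU a e W hWU hpre.ge, hth, hth]
    refine (hm.coord U hU _ _ W hWU (fun z hz => hz)).trans ?_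
    congr 1
    rw [Scheme.Hom.appLE, Scheme.Hom.id_app]
    simp [W]
    erw [CategoryTheory.Functor.map_id]
    rfl

theorem exists_closedImmersion_of_epi {Y : Scheme.{u}} {E G : Y.Modules} (φ : E ⟶ G) [Epi φ]
    (B : PB Y E) (B' : PB Y G) :
    ∃ ψ : B'.P ⟶ B.P, IsClosedImmersion ψ ∧ ψ ≫ B.p = B'.p ∧
      Nonempty ((Scheme.Modules.pullback ψ).obj B.O1 ≅ B'.O1) := by
  obtain ⟨ψ, h1, h2, h3, -⟩ := exists_closedImmersion_of_epi' φ B B'
  exact ⟨ψ, h1, h2, h3⟩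

end Groth.Agent.RelVA16
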