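import Groth.Agent.RelVA16.PnBridge
import Groth.Agent.VAmpleX.Eventually
import Groth.Agent.AmpleX.Rel

/-! High powers of a relatively ample module are relatively very ample. -/

set_option autoImplicit false
set_option backward.isDefEq.respectTransparency false
set_option backward.isDefEq.respectTransparency.types false
set_option linter.style.haveILetI false

universe u

open CategoryTheory CategoryTheory.Limits AlgebraicGeometry TopologicalSpace Opposite

noncomputable section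

namespace Groth.Agent.RelVA16

open Groth.Agent Groth.Agent.H23 Groth.Agent.H23.PicMul

theorem isSeparated_of_isRelAmple {X Y : Scheme.{u}} {f : X ⟶ Y} {L : X.Modules} (h : RelAmple.IsRelAmple f L) :
    IsSeparated f :=
  AmpleX.isSeparated_of_ampleOn fun x => AmpleX.ampleOn_of_isRelAmple h (f x)

theorem eventually_isRelVeryAmple {X Y : Scheme.{u}} [CompactSpace Y] (f : X ⟶ Y) [QuasiCompact f]
    [LocallyOfFiniteType f] {L L' : X.Modules} (hL : PicF.IsInvertible L) (hL' : PicF.IsInvertible L')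
    (h : RelAmple.IsRelAmple f L) :
    ∃ n₀ : ℕ, ∀ n : ℕ, n₀ ≤ n → RelProj.IsRelVeryAmple f (CohB1.tensorMod (CohB1.tensorPow L n) L') := by
  classical
  haveI := isSeparated_of_isRelAmple h
  have hloc : ∀ V : Y.affineOpens, ∃ n₀ : ℕ, ∀ n, n₀ ≤ n → RelProj.IsRelVeryAmple (f ∣_ V.1)
      ((CohB1.tensorMod (CohB1.tensorPow L n) L').restrict (f ⁻¹ᵁ V.1).ι) := fun V => by
    haveI : IsAffine (V.1 : Scheme.{u}) := V.2
    haveI : IsSeparated (f ∣_ V.1) := IsZariskiLocalAtTarget.restrict (P := @IsSeparated) inferInstance V.1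
    haveI : QuasiCompact (f ∣_ V.1) := IsZariskiLocalAtTarget.restrict (P := @QuasiCompact) inferInstance V.1
    haveI : LocallyOfFiniteType (f ∣_ V.1) :=
      IsZariskiLocalAtTarget.restrict (P := @LocallyOfFiniteType) inferInstance V.1
    obtain ⟨n₀, hn₀⟩ := VAmpleX.eventually_veryAmple (f ∣_ V.1) (h.2 V)
      (AmpleX.isInvertible_restrict (f ⁻¹ᵁ V.1).ι hL')
    refine ⟨n₀, fun n hn => ?_⟩
    obtain ⟨e⟩ : Nonempty (CohB1.tensorMod (CohB1.tensorPow (L.restrict (f ⁻¹ᵁ V.1).ι) n)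
        (L'.restrict (f ⁻¹ᵁ V.1).ι) ≅ (CohB1.tensorMod (CohB1.tensorPow L n) L').restrict (f ⁻¹ᵁ V.1).ι) :=
      cl_eq_iff.1 (by rw [cl_tensor, cl_tensorPow, AmpleX.cl_restrict, AmpleX.cl_restrict, AmpleX.cl_restrict,
        cl_tensor, cl_tensorPow, pullCl_mul, pullCl_pow])
    exact isRelVeryAmple_of_iso e (isRelVeryAmple_of_pn (InvX.isInvertible_tensorMod
      (InvX.isInvertible_tensorPow (AmpleX.isInvertible_restrict _ hL) n) (AmpleX.isInvertible_restrict _ hL'))
      (hn₀ n hn))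
  choose n₀ hn₀ using hloc
  obtain ⟨t, ht⟩ := isCompact_univ.elim_finite_subcover (fun V : Y.affineOpens => (V.1 : Set Y))
    (fun V => V.1.2) fun y _ => by
      obtain ⟨_, ⟨U, hU, rfl⟩, hy, -⟩ := Y.isBasis_affineOpens.exists_subset_of_mem_open
        (Set.mem_univ y) isOpen_univ
      exact Set.mem_iUnion.2 ⟨⟨U, hU⟩, hy⟩
  refine ⟨t.sup n₀, fun n hn => ?_⟩
  refine isRelVeryAmple_of_local (U := fun V : t => V.1.1)
    (ProjUPX.isQCoh_of_isInvertible (InvX.isInvertible_tensorMod (InvX.isInvertible_tensorPow hL n) hL')) ?_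
    fun V => hn₀ V.1 n ((Finset.le_sup V.2).trans hn)
  refine eq_top_iff.2 fun y _ => ?_
  obtain ⟨V, hV, hy⟩ := Set.mem_iUnion₂.1 (ht (Set.mem_univ y))
  exact Opens.mem_iSup.2 ⟨⟨V, hV⟩, hy⟩

end Groth.Agent.RelVA16
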