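import Groth.Agent.RelVA16.TwistSect
import Groth.Agent.SymAlgX.Gen

/-! The fundamental map of a projective bundle generates `O(1)`. -/

set_option autoImplicit false
set_option backward.isDefEq.respectTransparency false
set_option backward.isDefEq.respectTransparency.types false

universe u

open CategoryTheory CategoryTheory.Limits AlgebraicGeometry TopologicalSpace Opposite
open scoped HomogeneousIdeal

noncomputable section

namespace Groth.Agent.RelVA16

open Groth.Agent Groth.Agent.AModX Groth.Agent.SymAlgX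

variable {Y P : Scheme.{u}} {E : Y.Modules} (hE : Coh.IsQCoh E) {𝒮 : RelProj.QCGrAlg Y} {j : E ⟶ 𝒮.toModule}
  (hj : RelProj.IsGrSymAlg E 𝒮 j)

include hE hj in
theorem irrelevant_le_span_jv (U : Y.Opens) (hU : IsAffineOpen U) :
    ((𝒮.deg U hU)₊).toIdeal ≤ Ideal.span (Set.range fun e : Γ(E, U) => jv 𝒮.toQCAlg j U e) := by
  set J := Ideal.span (Set.range fun e : Γ(E, U) => jv 𝒮.toQCAlg j U e)
  have hhom : J.IsHomogeneous (𝒮.deg U hU) :=
    Ideal.homogeneous_span _ _ (by rintro _ ⟨e, rfl⟩; exact ⟨1, hj.2 U hU e⟩)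
  have key : ∀ b : 𝒮.presheaf.obj (op U), ∃ r : Γ(Y, U), b - (𝒮.str.app (op U)).hom r ∈ J := by
    intro b
    have hb : b ∈ genAt 𝒮.toQCAlg j U := by rw [genAt_eq_top hE hj.1 hU]; trivial
    induction hb using Subring.closure_induction with
    | mem x hx =>
      rcases hx with ⟨a, rfl⟩ | ⟨e, rfl⟩
      · exact ⟨a, by rw [sub_self]; exact J.zero_mem⟩
      · exact ⟨0, by rw [map_zero, sub_zero]; exact Ideal.subset_span ⟨e, rfl⟩⟩
    | zero => exact ⟨0, by rw [map_zero, sub_zero]; exact J.zero_mem⟩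
    | one => exact ⟨1, by rw [map_one, sub_self]; exact J.zero_mem⟩
    | add x y _ _ hx hy =>
      obtain ⟨r, hr⟩ := hx
      obtain ⟨s, hs⟩ := hy
      exact ⟨r + s, by rw [map_add, add_sub_add_comm]; exact J.add_mem hr hs⟩
    | neg x _ hx =>
      obtain ⟨r, hr⟩ := hx
      exact ⟨-r, by rw [map_neg, neg_sub_neg, ← neg_sub]; exact J.neg_mem hr⟩
    | mul x y _ _ hx hy =>
      obtain ⟨r, hr⟩ := hx
      obtain ⟨s, hs⟩ := hy
      refine ⟨r * s, ?_⟩
      rw [map_mul, show x * y - (𝒮.str.app (op U)).hom r * (𝒮.str.app (op U)).hom s =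
        (x - (𝒮.str.app (op U)).hom r) * y + (𝒮.str.app (op U)).hom r * (y - (𝒮.str.app (op U)).hom s) by ring]
      exact J.add_mem (J.mul_mem_right _ hr) (J.mul_mem_left _ hs)
  intro b hb
  obtain ⟨r, hr⟩ := key b
  have h0 : ((DirectSum.decompose (𝒮.deg U hU) b) 0 : 𝒮.presheaf.obj (op U)) = 0 := hb
  have h1 : ((DirectSum.decompose (𝒮.deg U hU) (b - (𝒮.str.app (op U)).hom r)) 0 : 𝒮.presheaf.obj (op U)) ∈ J :=
    hhom 0 hr
  rw [DirectSum.decompose_sub, DirectSum.sub_apply, AddSubgroup.coe_sub, h0,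
    DirectSum.decompose_of_mem_same _ (𝒮.str_mem U hU r), zero_sub, neg_mem_iff] at h1
  simpa using J.add_mem hr h1

variable {p : P ⟶ Y}
  {chart : ∀ (U : Y.Opens) (hU : IsAffineOpen U), (((p ⁻¹ᵁ U : P.Opens) : Scheme.{u}) ≅ Proj (𝒮.deg U hU))}
  {O1 : P.Modules}
  {lam : ∀ (U : Y.Opens) (hU : IsAffineOpen U),
    O1 ⟶ (Scheme.Modules.pushforward (RelProj.emb p chart U hU)).obj (GrTwist.twist (𝒮.deg U hU) 1)}
  (hO1 : RelProj.IsRelTwist 𝒮 p chart 1 O1 lam)

include hE hj in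
theorem exists_jv_notMem (U : Y.Opens) (hU : IsAffineOpen U) (z : Proj (𝒮.deg U hU)) :
    ∃ e : Γ(E, U), jv 𝒮.toQCAlg j U e ∉ (z : ProjectiveSpectrum (𝒮.deg U hU)).asHomogeneousIdeal := by
  by_contra! hall
  exact (z : ProjectiveSpectrum (𝒮.deg U hU)).not_irrelevant_le
    (show ((𝒮.deg U hU)₊).toIdeal ≤ _ from (irrelevant_le_span_jv hE hj U hU).trans
      (Ideal.span_le.mpr (by rintro _ ⟨e, rfl⟩; exact hall e)))

variable (φ : E ⟶ (Scheme.Modules.pushforward p).obj O1)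
  (hφ : ∀ (U : Y.Opens) (hU : IsAffineOpen U) (e : Γ(E, U))
    (y : ↥(RelProj.emb p chart U hU ⁻¹ᵁ (p ⁻¹ᵁ U))),
    GrTwist.val (V := RelProj.emb p chart U hU ⁻¹ᵁ (p ⁻¹ᵁ U))
        ((lam U hU).app (p ⁻¹ᵁ U) ((φ.app U) e)) y =
      algebraMap (𝒮.presheaf.obj (op U)) (GrTwist.Loc (𝒮.deg U hU) y.1)
        ((j.app U) e : 𝒮.presheaf.obj (op U)))

include hφ in
theorem fund_eq_sect {U : Y.Opens} (hU : IsAffineOpen U) (e : Γ(E, U)) :
    res O1 (dO_le (p := p) (chart := chart) hU (jv 𝒮.toQCAlg j U e)) (φ.app U e) =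
      sect hO1 hU (hj.2 U hU e) := by
  refine eq_of_val hO1 hU (dO_le hU _) _ _ fun y => ?_
  refine Eq.trans ?_ (val_sect hO1 hU (hj.2 U hU e) le_rfl y).symm |>.trans ?_
  swap
  · rw [res_self]
  rw [app_res]
  refine (hφ U hU e ⟨y.1, (RelProj.emb p chart U hU).preimage_mono (dO_le hU _) y.2⟩).trans ?_
  rw [frVal, ← Localization.mk_one_eq_algebraMap]
  exact congr_arg₂ Localization.mk (pow_one _).symm (Subtype.ext (pow_zero _).symm)

include hE hj hO1 hφ in
theorem epi_adjoint_fund :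
    Epi (((Scheme.Modules.pullbackPushforwardAdjunction p).homEquiv E O1).symm φ) := by
  constructor
  intro W a b hab
  rw [← Adjunction.homEquiv_naturality_right_symm, ← Adjunction.homEquiv_naturality_right_symm] at hab
  have h2 := ((Scheme.Modules.pullbackPushforwardAdjunction p).homEquiv E W).symm.injective hab
  let ι := Σ U : Y.affineOpens, Γ(E, U.1)
  refine InvX.hom_ext_of_frames (fun i : ι => dO p chart i.1.2 (jv 𝒮.toQCAlg j i.1.1 i.2)) (fun x => ?_)
    (fun i => sect hO1 i.1.2 (hj.2 _ i.1.2 i.2)) (fun i => isFrame_sect hO1 i.1.2 _) fun i => ?_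
  · obtain ⟨_, ⟨U, hU, rfl⟩, hxU, -⟩ := Y.isBasis_affineOpens.exists_subset_of_mem_open
      (Set.mem_univ (p x)) isOpen_univ
    obtain ⟨z, hz⟩ : x ∈ (RelProj.emb p chart U hU).opensRange := by rw [RelTildeX.opensRange_emb]; exact hxU
    obtain ⟨e, he⟩ := exists_jv_notMem hE hj U hU z
    exact ⟨⟨⟨U, hU⟩, e⟩, hz ▸ emb_mem_dO hU he⟩
  · rw [← fund_eq_sect hj hO1 φ hφ i.1.2 i.2]
    exact (app_res (W := dO p chart i.1.2 _) a (dO_le i.1.2 _) (show Γ(O1, p ⁻¹ᵁ i.1.1) from φ.app i.1.1 i.2)).trans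
      ((congrArg (res W _) (congrArg (fun χ : E ⟶ (Scheme.Modules.pushforward p).obj W => χ.app i.1.1 i.2) h2)).trans
        (app_res (W := dO p chart i.1.2 _) b (dO_le i.1.2 _) (show Γ(O1, p ⁻¹ᵁ i.1.1) from φ.app i.1.1 i.2)).symm)

end Groth.Agent.RelVA16
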