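import Groth.Agent.RelVA16.Bundle
import Groth.Agent.RelVA16.Fund
import Groth.Agent.H28.PBHom
import Groth.Agent.ZeroSchX.Basic
import Groth.Agent.S12143

/-! An invertible module is very ample relative to the identity. -/

set_option autoImplicit false
set_option backward.isDefEq.respectTransparency false
set_option backward.isDefEq.respectTransparency.types false

universe u

open CategoryTheory CategoryTheory.Limits AlgebraicGeometry TopologicalSpace Opposite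
open scoped HomogeneousIdeal

noncomputable section

namespace Groth.Agent.RelVA16

open Groth.Agent Groth.Agent.AModX Groth.Agent.SymAlgX

theorem PB.exists_fund {Y : Scheme.{u}} {E : Y.Modules} (B : PB Y E) :
    ∃ φ : E ⟶ (Scheme.Modules.pushforward B.p).obj B.O1,
      ∀ (U : Y.Opens) (hU : IsAffineOpen U) (e : Γ(E, U))
        (y : ↥(RelProj.emb B.p B.chart U hU ⁻¹ᵁ (B.p ⁻¹ᵁ U))),
        GrTwist.val (V := RelProj.emb B.p B.chart U hU ⁻¹ᵁ (B.p ⁻¹ᵁ U))
            ((B.lam U hU).app (B.p ⁻¹ᵁ U) ((φ.app U) e)) y =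
          algebraMap (B.𝒮.presheaf.obj (op U)) (GrTwist.Loc (B.𝒮.deg U hU) y.1)
            ((B.j.app U) e : B.𝒮.presheaf.obj (op U)) := by
  obtain ⟨φ, hφ⟩ := H28.PBHom.exists_hom B.hj B.hO1 B.hP B.gen
  refine ⟨φ, fun U hU e y => ?_⟩
  rw [hφ U hU e, ← Localization.mk_one_eq_algebraMap]
  have := H28.PBHom.val_fund B.hj B.hO1 hU e le_rfl y
  rw [res_self] at this
  exact this

theorem PB.nonempty_O1_iso {Y : Scheme.{u}} {L : Y.Modules} (hL : PicF.IsInvertible L) (B : PB Y L) :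
    Nonempty ((Scheme.Modules.pullback B.p).obj L ≅ B.O1) := by
  obtain ⟨φ, hφ⟩ := B.exists_fund
  let ψ := ((Scheme.Modules.pullbackPushforwardAdjunction B.p).homEquiv L B.O1).symm φ
  let ι := Σ U : Y.affineOpens, {e : Γ(L, U.1) // InvX.IsFrame e}
  have hcov : ∀ x, ∃ a : ι, x ∈ B.p ⁻¹ᵁ a.1.1 := fun x => by
    obtain ⟨V, hV, e, he⟩ := InvX.exists_frame hL (B.p x)
    obtain ⟨U, hU, hxU, hle⟩ := exists_isAffineOpen_mem_and_subset (X := Y) (x := B.p x) (U := V) hV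
    exact ⟨⟨⟨U, hU⟩, ⟨res L hle e, he.res hle⟩⟩, hxU⟩
  have hn : ∀ a : ι, InvX.IsFrame (show Γ(B.O1, B.p ⁻¹ᵁ a.1.1) from φ.app a.1.1 a.2.1) := by
    rintro ⟨⟨U, hU⟩, ⟨e, he⟩⟩
    have hle : B.p ⁻¹ᵁ U ≤ dO B.p B.chart hU (jv B.𝒮.toQCAlg B.j U e) := fun x hx => by
      obtain ⟨z, rfl⟩ : x ∈ (RelProj.emb B.p B.chart U hU).opensRange := by rw [RelTildeX.opensRange_emb]; exact hx
      obtain ⟨e', he'⟩ := exists_jv_notMem B.hE B.hj U hU z
      obtain ⟨c, rfl⟩ := (he U le_rfl).2 e'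
      refine emb_mem_dO hU fun hz => he' ?_
      rw [res_self, show jv B.𝒮.toQCAlg B.j U (c • e) = (B.𝒮.str.app (op U)).hom c * jv B.𝒮.toQCAlg B.j U e from
        Scheme.Modules.Hom.app_smul B.j c e]
      exact Ideal.mul_mem_left _ _ hz
    have h1 := (fund_eq_sect B.hj B.hO1 φ hφ hU e)
    have h2 := congrArg (res B.O1 hle) h1
    rw [res_res, res_self] at h2
    have h3 := (isFrame_sect B.hO1 hU (B.hj.2 U hU e)).res hle
    rw [← h2] at h3
    exact h3
  obtain ⟨i, -⟩ := exists_iso_of_frames (fun a : ι => B.p ⁻¹ᵁ a.1.1) hcov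
    (fun a => InvX.pullElt B.p a.2.1) (fun a => InvX.isFrame_pullElt B.p a.2.2)
    (fun a => show Γ(B.O1, B.p ⁻¹ᵁ a.1.1) from φ.app a.1.1 a.2.1) hn fun a b W ha hb g hg => by
      have hψ : ∀ c : ι, (show Γ(B.O1, B.p ⁻¹ᵁ c.1.1) from φ.app c.1.1 c.2.1) =
          ψ.app (B.p ⁻¹ᵁ c.1.1) (InvX.pullElt B.p c.2.1) := fun c => by
        conv_lhs => rw [show φ = ((Scheme.Modules.pullbackPushforwardAdjunction B.p).homEquiv L B.O1) ψ from
          (Equiv.apply_symm_apply _ φ).symm, Adjunction.homEquiv_unit]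
        rfl
      rw [hψ, hψ, ← app_res, ← app_res, hg, Scheme.Modules.Hom.app_smul]
  exact ⟨i⟩

theorem isRelVeryAmple_id {Y : Scheme.{u}} {L : Y.Modules} (hL : PicF.IsInvertible L) :
    RelProj.IsRelVeryAmple (𝟙 Y) L := by
  have hLq := ZeroSchX.isQCoh_inv hL
  obtain ⟨B⟩ := PB.exists_of_isQCoh hLq
  have : IsIso B.p := S12143.result L hL hLq B.𝒮 B.j B.hj B.p B.chart B.hP
  obtain ⟨e⟩ := B.nonempty_O1_iso hL
  refine B.isRelVeryAmple L (inv B.p) (IsIso.inv_hom_id _) ?_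
  exact ((Scheme.Modules.pullbackId Y).app L).symm ≪≫
    (Scheme.Modules.pullbackCongr (IsIso.inv_hom_id B.p).symm).app L ≪≫
    ((Scheme.Modules.pullbackComp (inv B.p) B.p).app L).symm ≪≫
    (Scheme.Modules.pullback (inv B.p)).mapIso e

end Groth.Agent.RelVA16
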