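import Groth.Agent.RelVA16.ThetaQ
import Groth.Agent.QCohAlg.Gen

/-! The graded algebra image of `Sym E ⟶ q_* Sym L`. -/

set_option autoImplicit false
set_option backward.isDefEq.respectTransparency false
set_option backward.isDefEq.respectTransparency.types false

universe u

open CategoryTheory CategoryTheory.Limits AlgebraicGeometry TopologicalSpace Opposite
open scoped HomogeneousIdeal DirectSum

noncomputable section

namespace Groth.Agent.RelVA16

open Groth.Agent Groth.Agent.AModX Groth.Agent.SymAlgX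

section graded

variable {A B : Type u} [CommRing A] [CommRing B] (𝒜 : ℕ → AddSubgroup A) [GradedRing 𝒜] (f : A →+* B)

/-- The images of the graded pieces. -/
abbrev imgDeg (n : ℕ) : AddSubgroup B := (𝒜 n).map f.toAddMonoidHom

/-- The decomposition of `A` followed by `f`. -/
def imgDecAux : A →+ ⨁ n, imgDeg 𝒜 f n :=
  (DirectSum.toAddMonoid fun n => (DirectSum.of (fun n => imgDeg 𝒜 f n) n).comp
    ((f.toAddMonoidHom.comp (𝒜 n).subtype).codRestrict (imgDeg 𝒜 f n) fun a => ⟨a.1, a.2, rfl⟩)).comp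
    (DirectSum.decomposeAddEquiv 𝒜).toAddMonoidHom

theorem imgDecAux_coe {n : ℕ} (a : 𝒜 n) :
    imgDecAux 𝒜 f (a : A) = DirectSum.of (fun n => imgDeg 𝒜 f n) n ⟨f a.1, a.1, a.2, rfl⟩ := by
  simp [imgDecAux, DirectSum.decompose_coe]

theorem imgDecAux_apply (a : A) (n : ℕ) :
    ((imgDecAux 𝒜 f a) n : B) = f (DirectSum.decompose 𝒜 a n : A) := by
  classical
  induction a using DirectSum.Decomposition.inductionOn 𝒜 with
  | zero => simp
  | @homogeneous m a =>
    rw [imgDecAux_coe]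
    by_cases h : m = n
    · subst h
      rw [DirectSum.of_eq_same, DirectSum.decompose_coe, DirectSum.of_eq_same]
    · rw [DirectSum.of_eq_of_ne _ _ _ (Ne.symm h), DirectSum.decompose_of_mem_ne _ a.2 h, map_zero]
      rfl
  | add a b ha hb =>
    rw [map_add, DirectSum.add_apply, AddSubgroup.coe_add, ha, hb, DirectSum.decompose_add, DirectSum.add_apply,
      AddSubgroup.coe_add, map_add]

/-- A surjection with homogeneous kernel grades its target. -/
abbrev imgGraded (hf : Function.Surjective f) (hker : ∀ a, f a = 0 → ∀ n, f (DirectSum.decompose 𝒜 a n : A) = 0) :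
    GradedRing (imgDeg 𝒜 f) :=
  have hgm : SetLike.GradedMonoid (imgDeg 𝒜 f) :=
    { one_mem := ⟨1, SetLike.one_mem_graded 𝒜, map_one f⟩
      mul_mem := by
        rintro i j _ _ ⟨a, ha, rfl⟩ ⟨b, hb, rfl⟩
        exact ⟨a * b, SetLike.mul_mem_graded ha hb, map_mul f a b⟩ }
  have hle : f.toAddMonoidHom.ker ≤ (imgDecAux 𝒜 f).ker := fun a ha => by
    refine DFinsupp.ext fun n => Subtype.ext ?_
    show ((imgDecAux 𝒜 f a) n : B) = 0
    rw [imgDecAux_apply]
    exact hker a ha n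
  let dec := f.toAddMonoidHom.liftOfSurjective hf ⟨imgDecAux 𝒜 f, hle⟩
  have hdec : ∀ a, dec (f a) = imgDecAux 𝒜 f a := fun a =>
    f.toAddMonoidHom.liftOfRightInverse_comp_apply _ _ ⟨imgDecAux 𝒜 f, hle⟩ a
  { toDecomposition := DirectSum.Decomposition.ofAddHom _ dec
      (by
        refine AddMonoidHom.ext fun b => ?_
        obtain ⟨a, rfl⟩ := hf b
        show DirectSum.coeAddMonoidHom _ (dec (f a)) = f a
        rw [hdec]
        induction a using DirectSum.Decomposition.inductionOn 𝒜 with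
        | zero => simp
        | @homogeneous m a => rw [imgDecAux_coe, DirectSum.coeAddMonoidHom_of]
        | add a b ha hb => rw [map_add, map_add, ha, hb, map_add])
      (by
        refine DirectSum.addHom_ext fun n x => ?_
        obtain ⟨_, a, ha, rfl⟩ := x
        show dec (DirectSum.coeAddMonoidHom _ (DirectSum.of _ n _)) = _
        rw [DirectSum.coeAddMonoidHom_of]
        exact (hdec a).trans (imgDecAux_coe 𝒜 f ⟨a, ha⟩))
    toGradedMonoid := hgm }

end graded

variable {X Y : Scheme.{u}} (q : X ⟶ Y) [QuasiCompact q] [QuasiSeparated q] (𝒮L : RelProj.QCGrAlg X)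

/-- The push-forward of a quasi-coherent algebra. -/
def pushAlg : RelSpec.QCAlg Y where
  presheaf := q.base _* 𝒮L.presheaf
  isSheaf := TopCat.Sheaf.pushforward_sheaf_of_sheaf _ 𝒮L.isSheaf
  str := q.c ≫ (TopCat.Presheaf.pushforward CommRingCat.{u} q.base).map 𝒮L.str
  isQC := by
    intro U hU r
    let M := (Scheme.Modules.pushforward q).obj 𝒮L.toModule
    have hM : Coh.IsQCoh M := QCoh.isQCoh_pushforward q (QCoh.isQCoh_toModule 𝒮L.toQCAlg)
    let ρ := (𝒮L.presheaf.map (homOfLE (q.preimage_mono (Y.basicOpen_le r))).op).hom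
    let σ : ∀ O : Y.Opens, Γ(Y, O) →+* 𝒮L.presheaf.obj (op (q ⁻¹ᵁ O)) :=
      fun O => (𝒮L.str.app (op (q ⁻¹ᵁ O))).hom.comp (q.app O).hom
    have hnat : ∀ a : Γ(Y, U),
        σ (Y.basicOpen r) ((Y.presheaf.map (homOfLE (Y.basicOpen_le r)).op).hom a) = ρ (σ U a) := fun a => by
      show (𝒮L.str.app _).hom ((q.app _).hom ((Y.presheaf.map _).hom a)) = ρ ((𝒮L.str.app _).hom ((q.app U).hom a))
      rw [show (q.app (Y.basicOpen r)).hom ((Y.presheaf.map (homOfLE (Y.basicOpen_le r)).op).hom a) =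
        (X.presheaf.map (homOfLE (q.preimage_mono (Y.basicOpen_le r))).op).hom ((q.app U).hom a) from
        ConcreteCategory.congr_hom (q.naturality (homOfLE (Y.basicOpen_le r)).op) a]
      exact ConcreteCategory.congr_hom
        (𝒮L.str.naturality (homOfLE (q.preimage_mono (Y.basicOpen_le r))).op) _
    letI := ρ.toAlgebra
    show IsLocalization.Away (σ U r) (𝒮L.presheaf.obj (op (q ⁻¹ᵁ Y.basicOpen r)))
    refine IsLocalization.Away.mk _ ?_ ?_ ?_
    · show IsUnit (ρ (σ U r))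
      rw [← hnat]
      exact (RingedSpace.isUnit_res_basicOpen Y.toRingedSpace r).map (σ (Y.basicOpen r))
    · intro z
      obtain ⟨n, t, ht⟩ := QCoh.exists_pow_smul_eq_map hM hU r z
      refine ⟨n, t, ?_⟩
      show z * ρ (σ U r) ^ n = ρ t
      refine Eq.trans ?_ ht.symm
      show z * ρ (σ U r) ^ n = σ (Y.basicOpen r) ((Y.presheaf.map _).hom r ^ n) * z
      rw [map_pow, hnat, mul_comm]
    · intro a b hab
      obtain ⟨n, hn⟩ := QCoh.exists_pow_smul_eq_zero hM hU r
        (show Γ(M, U) from (a - b : 𝒮L.presheaf.obj (op (q ⁻¹ᵁ U))))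
        (show ρ (a - b) = 0 by rw [map_sub]; exact sub_eq_zero.2 hab)
      refine ⟨n, ?_⟩
      have h1 : σ U (r ^ n) * (a - b : 𝒮L.presheaf.obj (op (q ⁻¹ᵁ U))) = 0 := hn
      rw [map_pow, mul_sub] at h1
      exact sub_eq_zero.1 h1

variable {q 𝒮L} {E : Y.Modules} {𝒯 : RelProj.QCGrAlg Y} {jE : E ⟶ 𝒯.toModule} (hE : Coh.IsQCoh E)
  (hjE : RelProj.IsGrSymAlg E 𝒯 jE) (u : RelProj.QGrHom q 𝒯 𝒮L)

/-- `u` as a map of algebras. -/
def uAlg : 𝒯.toQCAlg ⟶ pushAlg q 𝒮L :=
  ⟨{ app := fun U => u.app U.unop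
     naturality := fun U V i => (u.naturality (leOfHom i.unop)).symm },
   NatTrans.ext (funext fun U => u.str_app U.unop)⟩

/-- The sections locally of the form `u (j e)`. -/
def imgSub (jE : E ⟶ 𝒯.toModule) : QCoh.SubMod (pushAlg q 𝒮L).toModule where
  mem O :=
    { carrier := {s | ∀ x ∈ O, ∃ (P : Y.Opens) (hP : P ≤ O) (e : Γ(E, P)), x ∈ P ∧
          QCoh.rB (pushAlg q 𝒮L) hP s = (u.app P).hom (jv 𝒯.toQCAlg jE P e)}
      zero_mem' := fun x hx => ⟨O, le_rfl, 0, hx, by
        show QCoh.rB _ _ (0 : (pushAlg q 𝒮L).presheaf.obj (op O)) = (u.app O).hom (jE.app O (0 : Γ(E, O)))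
        rw [map_zero, map_zero (jE.app O).hom]
        exact (map_zero (u.app O).hom).symm⟩
      add_mem' := fun {a b} ha hb x hx => by
        obtain ⟨P, hP, e, hxP, he⟩ := ha x hx
        obtain ⟨P', hP', e', hxP', he'⟩ := hb x hx
        refine ⟨P ⊓ P', inf_le_left.trans hP, res E inf_le_left e + res E inf_le_right e', ⟨hxP, hxP'⟩, ?_⟩
        have key : ∀ {Q : Y.Opens} (i : P ⊓ P' ≤ Q) (f : Γ(E, Q)),
            QCoh.rB (pushAlg q 𝒮L) i ((u.app Q).hom (jv 𝒯.toQCAlg jE Q f)) =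
              (u.app (P ⊓ P')).hom (jv 𝒯.toQCAlg jE _ (res E i f)) := fun {Q} i f =>
          (ConcreteCategory.congr_hom (u.naturality i) _).trans (congrArg (u.app (P ⊓ P')).hom (rB_jv 𝒯.toQCAlg jE i f))
        show QCoh.rB (pushAlg q 𝒮L) _ ((show (pushAlg q 𝒮L).presheaf.obj (op O) from a) + (show (pushAlg q 𝒮L).presheaf.obj (op O) from b)) =
          (u.app (P ⊓ P')).hom (jE.app (P ⊓ P') (res E inf_le_left e + res E inf_le_right e'))
        rw [map_add (jE.app (P ⊓ P')).hom, map_add]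
        refine Eq.trans ?_ (map_add (u.app (P ⊓ P')).hom _ _).symm
        exact congr_arg₂ (· + ·)
          ((QCohAlg.rB_rB (pushAlg q 𝒮L) hP (inf_le_left : P ⊓ P' ≤ P) a).symm.trans
            ((congrArg _ he).trans (key inf_le_left e)))
          ((QCohAlg.rB_rB (pushAlg q 𝒮L) hP' (inf_le_right : P ⊓ P' ≤ P') b).symm.trans
            ((congrArg _ he').trans (key inf_le_right e')))
      smul_mem' := fun r s hs x hx => by
        obtain ⟨P, hP, e, hxP, he⟩ := hs x hx
        refine ⟨P, hP, resR hP r • e, hxP, ?_⟩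
        show QCoh.rB (pushAlg q 𝒮L) hP (((pushAlg q 𝒮L).str.app (op O)).hom r * _) =
          (u.app P).hom (jE.app P (resR hP r • e))
        rw [map_mul, QCoh.rB_str, he, Scheme.Modules.Hom.app_smul]
        refine Eq.trans ?_ (map_mul (u.app P).hom ((𝒯.str.app (op P)).hom (resR hP r)) _).symm
        exact congrArg (fun z : 𝒮L.presheaf.obj (op (q ⁻¹ᵁ P)) => z * _) (ConcreteCategory.congr_hom (u.str_app P) _).symm }
  map_mem {O O'} i {s} hs x hx := by
    obtain ⟨P, hP, e, hxP, he⟩ := hs x (i hx)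
    refine ⟨P ⊓ O', inf_le_right, res E inf_le_left e, ⟨hxP, hx⟩, ?_⟩
    refine ((QCohAlg.rB_rB (pushAlg q 𝒮L) i inf_le_right s).trans
      (QCohAlg.rB_rB (pushAlg q 𝒮L) hP inf_le_left s).symm).trans ((congrArg _ he).trans ?_)
    exact (ConcreteCategory.congr_hom (u.naturality inf_le_left) _).trans
      (congrArg (u.app (P ⊓ O')).hom (rB_jv 𝒯.toQCAlg jE inf_le_left e))
  of_locally O s hs x hx := by
    obtain ⟨P, i, hxP, hP⟩ := hs x hx
    obtain ⟨Q, hQ, e, hxQ, he⟩ := hP x hxP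
    exact ⟨Q, hQ.trans i, e, hxQ, (QCohAlg.rB_rB (pushAlg q 𝒮L) i hQ s).symm.trans he⟩

theorem u_jv_mem (U : Y.Opens) (e : Γ(E, U)) :
    (show Γ((pushAlg q 𝒮L).toModule, U) from (u.app U).hom (jv 𝒯.toQCAlg jE U e)) ∈ (imgSub u jE).mem U :=
  fun x hx => ⟨U, le_rfl, e, hx, by
    refine (ConcreteCategory.congr_hom ((pushAlg q 𝒮L).presheaf.map_id (op U)) _).trans rfl⟩

/-- `u ∘ j` as a linear map. -/
def uLinAt (U : Y.Opens) : Γ(E, U) →ₗ[Γ(Y, U)] Γ((pushAlg q 𝒮L).toModule, U) where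
  toFun e := (u.app U).hom (jv 𝒯.toQCAlg jE U e)
  map_add' a b := (congrArg (u.app U).hom (map_add (jE.app U).hom a b)).trans (map_add (u.app U).hom _ _)
  map_smul' r a := (congrArg (u.app U).hom (Scheme.Modules.Hom.app_smul jE r a)).trans
    ((map_mul (u.app U).hom ((𝒯.str.app (op U)).hom r) _).trans
      (congrArg (· * _) (ConcreteCategory.congr_hom (u.str_app U) r)))

include hE in
theorem mem_imgSub_affine {U : Y.Opens} (hU : IsAffineOpen U) {s : Γ((pushAlg q 𝒮L).toModule, U)}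
    (hs : s ∈ (imgSub u jE).mem U) : ∃ e : Γ(E, U), uLinAt (jE := jE) u U e = s := by
  have hG : Coh.IsQCoh (pushAlg q 𝒮L).toModule := QCoh.isQCoh_toModule _
  have h := QCoh.mem_span_of_locally hG hU (Set.range (uLinAt (jE := jE) u U)) s fun x hx => by
    obtain ⟨P, hP, e, hxP, he⟩ := hs x hx
    obtain ⟨g, hgP, hxg⟩ := hU.exists_basicOpen_le (⟨x, hxP⟩ : P) hx
    refine ⟨Y.basicOpen g, (Y.basicOpen_le g), hxg, ?_⟩
    obtain ⟨n, a, ha⟩ := QCoh.exists_pow_smul_eq_map hE hU g (res E hgP e)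
    obtain ⟨w, hw⟩ : ∃ w : Γ(Y, Y.basicOpen g), w * Y.presheaf.map (homOfLE (Y.basicOpen_le g)).op g ^ n = 1 :=
      ((RingedSpace.isUnit_res_basicOpen Y.toRingedSpace g).pow n).exists_left_inv
    have he' : QCoh.rs (pushAlg q 𝒮L).toModule (Y.basicOpen_le g) s =
        uLinAt (jE := jE) u (Y.basicOpen g) (res E hgP e) := by
      refine (QCohAlg.rB_rB (pushAlg q 𝒮L) hP hgP s).symm.trans ((congrArg _ he).trans ?_)
      exact (ConcreteCategory.congr_hom (u.naturality hgP) _).trans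
        (congrArg (u.app (Y.basicOpen g)).hom (rB_jv 𝒯.toQCAlg jE hgP e))
    have hres : res E hgP e = w • E.presheaf.map (homOfLE (Y.basicOpen_le g)).op a := by
      rw [ha, smul_smul]
      exact ((congrArg (· • res E hgP e) hw).trans (one_smul _ _)).symm
    rw [he', hres, map_smul]
    refine Submodule.smul_mem _ _ (Submodule.subset_span ⟨uLinAt (jE := jE) u U a, ⟨a, rfl⟩, ?_⟩)
    exact (ConcreteCategory.congr_hom (u.naturality (Y.basicOpen_le g)) _).trans
      (congrArg (u.app (Y.basicOpen g)).hom (rB_jv 𝒯.toQCAlg jE (Y.basicOpen_le g) a))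
  rw [← LinearMap.coe_range, Submodule.span_eq] at h
  exact h

include hE in
theorem ftOn_imgSub (hft : CohB1.IsFT E) : QCoh.FTOn (imgSub u jE) ⊤ := by
  intro x _
  obtain ⟨V, hV, hxV, -⟩ := exists_isAffineOpen_mem_and_subset (X := Y) (x := x) (U := ⊤) trivial
  have hfin : Module.Finite Γ(Y, V) Γ(E, V) := (QCoh.isFT_iff hE).1 hft ⟨V, hV⟩
  obtain ⟨T, hT⟩ := hfin.fg_top
  refine ⟨V, hV, hxV, le_top, uLinAt (jE := jE) u V '' T, T.finite_toSet.image _, ?_, fun O hO s hs y hy => ?_⟩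
  · rintro _ ⟨t, -, rfl⟩
    exact u_jv_mem u V t
  · obtain ⟨g, hgO, hyg⟩ := hV.exists_basicOpen_le (⟨y, hy⟩ : O) (hO hy)
    refine ⟨Y.basicOpen g, hgO, hyg, ?_⟩
    obtain ⟨e, he⟩ := mem_imgSub_affine hE u (hV.basicOpen g) ((imgSub u jE).map_mem hgO hs)
    obtain ⟨n, a, ha⟩ := QCoh.exists_pow_smul_eq_map hE hV g e
    obtain ⟨w, hw⟩ : ∃ w : Γ(Y, Y.basicOpen g), w * Y.presheaf.map (homOfLE (Y.basicOpen_le g)).op g ^ n = 1 :=
      ((RingedSpace.isUnit_res_basicOpen Y.toRingedSpace g).pow n).exists_left_inv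
    have hres : e = w • E.presheaf.map (homOfLE (Y.basicOpen_le g)).op a := by
      rw [ha, smul_smul]
      exact ((congrArg (· • e) hw).trans (one_smul _ _)).symm
    rw [show QCoh.rs (pushAlg q 𝒮L).toModule hgO s = uLinAt (jE := jE) u _ e from he.symm, hres, map_smul]
    refine Submodule.smul_mem _ _ ?_
    have hspan : uLinAt (jE := jE) u V a ∈ Submodule.span Γ(Y, V) (uLinAt (jE := jE) u V '' T) :=
      Submodule.span_image (uLinAt (jE := jE) u V) ▸ Submodule.mem_map_of_mem (hT ▸ Submodule.mem_top)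
    have := QCoh.rs_mem_span (Y.basicOpen_le g) hspan
    refine Eq.mp ?_ this
    congr 1
    exact (ConcreteCategory.congr_hom (u.naturality (Y.basicOpen_le g)) _).trans
      (congrArg (u.app (Y.basicOpen g)).hom (rB_jv 𝒯.toQCAlg jE (Y.basicOpen_le g) a))

variable (hft : CohB1.IsFT E)

/-- The image algebra. -/
abbrev imgAlg : RelSpec.QCAlg Y := QCohAlg.gen _ _ (ftOn_imgSub hE u (jE := jE) hft)

include hE hjE in
theorem u_mem_genRing {U : Y.Opens} (hU : IsAffineOpen U) (b : 𝒯.presheaf.obj (op U)) :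
    (u.app U).hom b ∈ QCoh.genRing (pushAlg q 𝒮L) (imgSub u jE) U := by
  have hb : b ∈ genAt 𝒯.toQCAlg jE U := by rw [genAt_eq_top hE hjE.1 hU]; trivial
  induction hb using Subring.closure_induction with
  | mem z hz =>
    rcases hz with ⟨r, rfl⟩ | ⟨e, rfl⟩
    · exact Subring.subset_closure (Or.inl ⟨r, (ConcreteCategory.congr_hom (u.str_app U) r).symm⟩)
    · exact Subring.subset_closure (Or.inr (u_jv_mem u U e))
  | zero => exact (map_zero (u.app U).hom).symm ▸ zero_mem _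
  | one => exact (map_one (u.app U).hom).symm ▸ one_mem _
  | add a b _ _ ha hb => exact (map_add (u.app U).hom a b).symm ▸ add_mem ha hb
  | neg a _ ha => exact (map_neg (u.app U).hom a).symm ▸ neg_mem ha
  | mul a b _ _ ha hb => exact (map_mul (u.app U).hom a b).symm ▸ mul_mem ha hb

include hE hjE in
theorem u_mem_genSub (O : Y.Opens) (b : 𝒯.presheaf.obj (op O)) :
    (u.app O).hom b ∈ QCohAlg.genSub (pushAlg q 𝒮L) (imgSub u jE) O := fun x hx => by
  obtain ⟨U, hU, hxU, hUO⟩ := exists_isAffineOpen_mem_and_subset (X := Y) (x := x) (U := O) hx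
  replace hUO : U ≤ O := hUO
  refine ⟨U, hUO, hxU, ?_⟩
  rw [show QCoh.rB (pushAlg q 𝒮L) hUO ((u.app O).hom b) = (u.app U).hom (QCoh.rB 𝒯.toQCAlg hUO b) from
    ConcreteCategory.congr_hom (u.naturality hUO) b]
  exact u_mem_genRing hE hjE u hU _

/-- The surjection onto the image algebra. -/
def imgHom : 𝒯.toQCAlg ⟶ imgAlg hE u (jE := jE) hft :=
  ⟨{ app := fun O => CommRingCat.ofHom ((u.app O.unop).hom.codRestrict
      (QCohAlg.genSub (pushAlg q 𝒮L) (imgSub u jE) O.unop) (u_mem_genSub hE hjE u O.unop))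
     naturality := fun U V i => by
       ext b
       exact Subtype.ext (ConcreteCategory.congr_hom (u.naturality (leOfHom i.unop)) b).symm },
   by
     ext O a
     exact Subtype.ext (ConcreteCategory.congr_hom (u.str_app O) a)⟩

theorem imgHom_eq_zero {O : Y.Opens} (b : 𝒯.presheaf.obj (op O)) :
    ((imgHom hE hjE u hft).hom.app (op O)).hom b = 0 ↔ (u.app O).hom b = 0 :=
  ⟨fun h => congrArg Subtype.val h, fun h => Subtype.ext h⟩

include hjE in
theorem imgHom_surjective {U : Y.Opens} (hU : IsAffineOpen U) :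
    Function.Surjective ((imgHom hE hjE u hft).hom.app (op U)).hom := by
  rintro ⟨b, hb⟩
  suffices h : b ∈ (u.app U).hom.range by
    obtain ⟨a, ha⟩ := h
    exact ⟨a, Subtype.ext ha⟩
  have hb' := QCohAlg.genSub_le_genRing _ _ (ftOn_imgSub hE u (jE := jE) hft) hU hb
  refine (Subring.closure_le.2 ?_) hb'
  rintro z (⟨r, rfl⟩ | hz)
  · exact ⟨_, ConcreteCategory.congr_hom (u.str_app U) r⟩
  · obtain ⟨e, he⟩ := mem_imgSub_affine hE u hU hz
    exact ⟨_, he⟩

theorem u_decompose_eq_zero {U : Y.Opens} (hU : IsAffineOpen U) {b : 𝒯.presheaf.obj (op U)}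
    (hb : (u.app U).hom b = 0) (n : ℕ) :
    (u.app U).hom (DirectSum.decompose (𝒯.deg U hU) b n : 𝒯.presheaf.obj (op U)) = 0 := by
  refine AModX.eq_of_locally (M := 𝒮L.toModule)
    (show Γ(𝒮L.toModule, q ⁻¹ᵁ U) from (u.app U).hom (DirectSum.decompose (𝒯.deg U hU) b n : 𝒯.presheaf.obj (op U)))
    (0 : Γ(𝒮L.toModule, q ⁻¹ᵁ U)) fun x hx => ?_
  obtain ⟨V, hV, hxV, hVU⟩ := exists_isAffineOpen_mem_and_subset (X := X) (x := x) (U := q ⁻¹ᵁ U) hx
  refine ⟨V, hVU, hxV, ?_⟩
  rw [map_zero]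
  show (u.gradedAt U hU V hV hVU) (DirectSum.decompose (𝒯.deg U hU) b n : 𝒯.presheaf.obj (op U)) = 0
  have h0 : u.gradedAt U hU V hV hVU b = 0 := by
    show (𝒮L.presheaf.map (homOfLE (show V ≤ q ⁻¹ᵁ U from hVU)).op).hom ((u.app U).hom b) = 0
    rw [hb, map_zero]
  rw [(u.gradedAt U hU V hV hVU).map_directSumDecompose (x := b) (i := n), h0, DirectSum.decompose_zero]
  rfl

/-- The image of `Sym E` in `q_* Sym L`, graded. -/
def imgGr : RelProj.QCGrAlg Y :=
  { imgAlg hE u (jE := jE) hft with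
    deg := fun U hU => imgDeg (𝒯.deg U hU) ((imgHom hE hjE u hft).hom.app (op U)).hom
    graded := fun U hU => imgGraded (𝒯.deg U hU) _ (imgHom_surjective hE hjE u hft hU) fun b hb n =>
      (imgHom_eq_zero hE hjE u hft _).2 (u_decompose_eq_zero u hU ((imgHom_eq_zero hE hjE u hft b).1 hb) n)
    map_mem := fun {U V} hU hV i {d x} hx => by
      obtain ⟨a, ha, rfl⟩ := hx
      exact ⟨_, 𝒯.map_mem hU hV i ha,
        ConcreteCategory.congr_hom ((imgHom hE hjE u hft).hom.naturality (homOfLE i).op) a⟩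
    str_mem := fun U hU r => ⟨_, 𝒯.str_mem U hU r,
      ConcreteCategory.congr_hom (NatTrans.congr_app (imgHom hE hjE u hft).comm (op U)) r⟩ }

/-- The surjection onto the graded image. -/
def imgMap : 𝒯.toQCAlg ⟶ (imgGr hE hjE u hft).toQCAlg := imgHom hE hjE u hft

theorem isGradedHom_imgMap : RelProj.IsGradedHom (imgMap hE hjE u hft) :=
  fun _ _ _ a ha => ⟨a, ha, rfl⟩

end Groth.Agent.RelVA16
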