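import Groth.Agent.S12141

/-! Graded `g`-morphisms from presheaf maps; base change of relative `Proj` in chart form. -/

set_option autoImplicit false
set_option backward.isDefEq.respectTransparency false
set_option backward.isDefEq.respectTransparency.types false

universe u

open CategoryTheory CategoryTheory.Limits AlgebraicGeometry TopologicalSpace Opposite
open scoped HomogeneousIdeal

noncomputable section

namespace Groth.Agent.RelVA16

variable {Y Y' P P' : Scheme.{u}} {ψ : Y' ⟶ Y} {𝒮 : RelProj.QCGrAlg Y} {𝒮' : RelProj.QCGrAlg Y'}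

/-- A graded `g`-morphism from a map of presheaves of rings. -/
def mkQ (u : 𝒮.presheaf ⟶ ψ.base _* 𝒮'.presheaf)
    (hu : 𝒮.str ≫ u = ψ.c ≫ (TopCat.Presheaf.pushforward CommRingCat.{u} ψ.base).map 𝒮'.str)
    (hdeg : ∀ (U : Y.Opens) (hU : IsAffineOpen U) (U' : Y'.Opens) (hU' : IsAffineOpen U') (hle : U' ≤ ψ ⁻¹ᵁ U)
      {d : ℕ} {x : 𝒮.presheaf.obj (op U)}, x ∈ 𝒮.deg U hU d →
        (𝒮'.presheaf.map (homOfLE hle).op).hom ((u.app (op U) : 𝒮.presheaf.obj (op U) ⟶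
          𝒮'.presheaf.obj (op (ψ ⁻¹ᵁ U))).hom x) ∈ 𝒮'.deg U' hU' d) :
    RelProj.QGrHom ψ 𝒮 𝒮' where
  app U := u.app (op U)
  naturality i := (u.naturality (homOfLE i).op).symm
  str_app U := congrArg (fun η => NatTrans.app η (op U)) hu
  map_mem := hdeg

theorem isProjQMap_of_map (Q : RelProj.QGrHom ψ 𝒮 𝒮') {p : P ⟶ Y}
    {chart : ∀ (U : Y.Opens) (hU : IsAffineOpen U), (((p ⁻¹ᵁ U : P.Opens) : Scheme.{u}) ≅ Proj (𝒮.deg U hU))}
    {p' : P' ⟶ Y'}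
    {chart' : ∀ (U' : Y'.Opens) (hU' : IsAffineOpen U'), (((p' ⁻¹ᵁ U' : P'.Opens) : Scheme.{u}) ≅ Proj (𝒮'.deg U' hU'))}
    (hirr : ∀ (U : Y.Opens) (hU : IsAffineOpen U) (U' : Y'.Opens) (hU' : IsAffineOpen U') (hle : U' ≤ ψ ⁻¹ᵁ U),
      (𝒮'.deg U' hU')₊ ≤ ((𝒮.deg U hU)₊).map (Q.gradedAt U hU U' hU' hle))
    (g : P' ⟶ P)
    (hg : ∀ (U : Y.Opens) (hU : IsAffineOpen U) (U' : Y'.Opens) (hU' : IsAffineOpen U') (hle : U' ≤ ψ ⁻¹ᵁ U),
      RelProj.emb p' chart' U' hU' ≫ g =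
        Proj.map (Q.gradedAt U hU U' hU' hle) (hirr U hU U' hU' hle) ≫ RelProj.emb p chart U hU) :
    RelProj.IsProjQMap Q p chart p' chart' g := by
  refine ⟨eq_top_iff.2 fun x _ => ?_, fun U hU U' hU' hle d hd f hf => ?_⟩
  · obtain ⟨_, ⟨U, hU, rfl⟩, hxU, -⟩ := Y.isBasis_affineOpens.exists_subset_of_mem_open
      (Set.mem_univ (ψ (p' x))) isOpen_univ
    obtain ⟨U', hU', hxU', hle⟩ := exists_isAffineOpen_mem_and_subset (X := Y') (x := p' x) (U := ψ ⁻¹ᵁ U) hxU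
    obtain ⟨z, rfl⟩ : x ∈ (RelProj.emb p' chart' U' hU').opensRange :=
      (ProjQX.mem_opensRange_emb (chart := chart') hU').2 hxU'
    refine Opens.mem_iSup.mpr ⟨⟨(⟨U, hU⟩, ⟨U', hU'⟩), hle⟩, z, (RelCone.mem_domOpen _ z).mpr ?_, rfl⟩
    by_contra hne
    push Not at hne
    exact (z : ProjectiveSpectrum (𝒮'.deg U' hU')).not_irrelevant_le (le_trans (hirr U hU U' hU' hle)
      (show (((𝒮.deg U hU)₊).map (Q.gradedAt U hU U' hU' hle)).toIdeal ≤ z.asHomogeneousIdeal.toIdeal from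
        Ideal.map_le_iff_le_comap.mpr fun a ha => hne a ha))
  · rw [RelProj.awayEmb, Category.assoc, hg U hU U' hU' hle,
      Proj.awayι_comp_map_assoc _ (hirr U hU U' hU' hle) hd f hf]

end Groth.Agent.RelVA16
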