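import Groth.Agent.RelVA16.QBC

/-! `IsProjQMap` in chart form; irrelevant ideals under base change. -/

set_option autoImplicit false
set_option backward.isDefEq.respectTransparency false
set_option backward.isDefEq.respectTransparency.types false

universe u

open CategoryTheory CategoryTheory.Limits AlgebraicGeometry TopologicalSpace Opposite
open scoped HomogeneousIdeal

noncomputable section

namespace Groth.Agent.RelVA16

variable {Y Y' P P' : Scheme.{u}} {ψ : Y' ⟶ Y} {𝒮 : RelProj.QCGrAlg Y} {𝒮' : RelProj.QCGrAlg Y'}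
  (Q : RelProj.QGrHom ψ 𝒮 𝒮')

theorem irr_of_isQBaseChange (hQ : RelSpec.IsQBaseChange Q.toQHom) (U : Y.Opens) (hU : IsAffineOpen U)
    (U' : Y'.Opens) (hU' : IsAffineOpen U') (hle : U' ≤ ψ ⁻¹ᵁ U) :
    (𝒮'.deg U' hU')₊ ≤ ((𝒮.deg U hU)₊).map (Q.gradedAt U hU U' hU' hle) := by
  rw [HomogeneousIdeal.irrelevant_le]
  intro n hn b hb
  refine (Ideal.span_le.mpr ?_) ((S12141.pair_facts hQ hU hU' hle).1 n b hb)
  rintro _ ⟨a, ha, rfl⟩
  exact Ideal.mem_map_of_mem _ (HomogeneousIdeal.mem_irrelevant_of_mem _ hn ha)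

theorem map_of_isProjQMap {p : P ⟶ Y}
    {chart : ∀ (U : Y.Opens) (hU : IsAffineOpen U), (((p ⁻¹ᵁ U : P.Opens) : Scheme.{u}) ≅ Proj (𝒮.deg U hU))}
    {p' : P' ⟶ Y'}
    {chart' : ∀ (U' : Y'.Opens) (hU' : IsAffineOpen U'), (((p' ⁻¹ᵁ U' : P'.Opens) : Scheme.{u}) ≅ Proj (𝒮'.deg U' hU'))}
    {h : P' ⟶ P} (hh : RelProj.IsProjQMap Q p chart p' chart' h) (U : Y.Opens) (hU : IsAffineOpen U)
    (U' : Y'.Opens) (hU' : IsAffineOpen U') (hle : U' ≤ ψ ⁻¹ᵁ U)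
    (hirr : (𝒮'.deg U' hU')₊ ≤ ((𝒮.deg U hU)₊).map (Q.gradedAt U hU U' hU' hle)) :
    RelProj.emb p' chart' U' hU' ≫ h =
      Proj.map (Q.gradedAt U hU U' hU' hle) hirr ≫ RelProj.emb p chart U hU := by
  refine (Proj.mapAffineOpenCover _ hirr).openCover.hom_ext _ _ ?_
  suffices key : ∀ (d : ℕ) (hd : 0 < d) (a : 𝒮.presheaf.obj (op U)) (ha : a ∈ 𝒮.deg U hU d),
      Proj.awayι (𝒮'.deg U' hU') (Q.gradedAt U hU U' hU' hle a) ((Q.gradedAt U hU U' hU' hle).2 ha) hd ≫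
        RelProj.emb p' chart' U' hU' ≫ h =
      Proj.awayι (𝒮'.deg U' hU') (Q.gradedAt U hU U' hU' hle a) ((Q.gradedAt U hU U' hU' hle).2 ha) hd ≫
        Proj.map (Q.gradedAt U hU U' hU' hle) hirr ≫ RelProj.emb p chart U hU from
    fun s ↦ key s.1 s.1.2 s.2 s.2.2
  intro d hd a ha
  rw [Proj.awayι_comp_map_assoc _ _ hd a ha]
  exact (Category.assoc _ _ _).symm.trans (hh.2 U hU U' hU' hle d hd a ha)

end Groth.Agent.RelVA16
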