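import Groth.Agent.RelVA16.Qcqs
import Groth.Agent.RelVA16.LocalBase
import Groth.Agent.RelVA16.Segre
import Groth.Agent.AmpleX.CounitEpi
import Groth.Agent.S2337

/-! Quasi-affine morphisms of finite type are immersions into affine morphisms of finite type. -/

set_option autoImplicit false
set_option backward.isDefEq.respectTransparency false
set_option backward.isDefEq.respectTransparency.types false
set_option linter.style.haveILetI false

universe u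

open CategoryTheory CategoryTheory.Limits AlgebraicGeometry TopologicalSpace Opposite

noncomputable section

namespace Groth.Agent.RelVA16

open Groth.Agent Groth.Agent.AModX Groth.Agent.SymAlgX Groth.Agent.H23.PicMul

variable {X Y : Scheme.{u}}

/-- `D₊(e) ∩ p⁻¹V ≤ D₊(e|V)`. -/
theorem PB.le_D_res {E : Y.Modules} (B : PB Y E) {U V : Y.Opens} (hU : IsAffineOpen U) (hV : IsAffineOpen V)
    (i : V ≤ U) (e : Γ(E, U)) : B.D hU e ⊓ B.p ⁻¹ᵁ V ≤ B.D hV (res E i e) := by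
  rintro x ⟨⟨w, hw, rfl⟩, hxV⟩
  obtain ⟨z, hz⟩ : RelProj.emb B.p B.chart U hU w ∈ (RelProj.emb B.p B.chart V hV).opensRange := by
    rw [RelTildeX.opensRange_emb]; exact hxV
  have e2 : RelProj.emb B.p B.chart U hU (Proj.map (B.𝒮.res hU hV i) (irr_res_pair B.𝒮 hU hV i) z) =
      RelProj.emb B.p B.chart V hV z := by
    rw [← Scheme.Hom.comp_apply, map_emb_pair B.𝒮 B.hP hU hV i]
  have hzw : Proj.map (B.𝒮.res hU hV i) (irr_res_pair B.𝒮 hU hV i) z = w :=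
    (RelProj.emb B.p B.chart U hU).isOpenEmbedding.injective (e2.trans hz)
  suffices RelProj.emb B.p B.chart V hV z ∈ B.D hV (res E i e) from hz ▸ this
  have hr : jv B.𝒮.toQCAlg B.j V (res E i e) = B.𝒮.res hU hV i (jv B.𝒮.toQCAlg B.j U e) :=
    (rB_jv B.𝒮.toQCAlg B.j i e).symm
  refine emb_mem_dO hV fun h => ?_
  subst hzw
  rw [hr] at h
  exact hw h

theorem isFT_biprod {E F : Y.Modules} (hq : Coh.IsQCoh (E ⊞ F)) (hE : Coh.IsQCoh E) (hF : Coh.IsQCoh F)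
    (hEft : CohB1.IsFT E) (hFft : CohB1.IsFT F) : CohB1.IsFT (E ⊞ F) := by
  refine (QCoh.isFT_iff hq).2 fun U => ?_
  haveI := QCoh.finite_of_isFT hE hEft U.2
  haveI := QCoh.finite_of_isFT hF hFft U.2
  let f : (Γ(E, U.1) × Γ(F, U.1)) →ₗ[Γ(Y, U.1)] Γ(E ⊞ F, U.1) :=
    (QCoh.appLin (biprod.inl : E ⟶ E ⊞ F) U.1).coprod (QCoh.appLin (biprod.inr : F ⟶ E ⊞ F) U.1)
  refine Module.Finite.of_surjective f fun x =>
    ⟨((biprod.fst : E ⊞ F ⟶ E).app U.1 x, (biprod.snd : E ⊞ F ⟶ F).app U.1 x), ?_⟩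
  exact congrArg (fun k : E ⊞ F ⟶ E ⊞ F => k.app U.1 x) (biprod.total (X := E) (Y := F))

theorem exists_immersion_affine [CompactSpace Y] [QuasiSeparatedSpace Y] (f : X ⟶ Y) [LocallyOfFiniteType f]
    (hf : Mor2.IsQuasiAffine f) :
    ∃ (X'' : Scheme.{u}) (g : X'' ⟶ Y) (j : X ⟶ X''), IsAffineHom g ∧ LocallyOfFiniteType g ∧ IsImmersion j ∧
      j ≫ g = f := by
  haveI : QuasiCompact f := hf.1
  have hO := InvX.isInvertible_structureModule (X := X)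
  have hamp : RelAmple.IsRelAmple f (Coh.structureModule X) := (AmpleX.isQuasiAffine_iff_isRelAmple f).1 hf
  haveI : IsSeparated f := isSeparated_of_isRelAmple hamp
  obtain ⟨n₀, hn₀⟩ := eventually_isRelVeryAmple f hO hO hamp
  have hva : RelProj.IsRelVeryAmple f (Coh.structureModule X) := by
    refine isRelVeryAmple_of_iso (H23.PicMul.cl_eq_iff.1 ?_).some (hn₀ n₀ le_rfl)
    rw [H23.PicMul.cl_tensor, H23.PicMul.cl_tensorPow, ← H23.PicMul.one_def, one_pow, mul_one]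
  set F := (Scheme.Modules.pushforward f).obj (Coh.structureModule X) with hFdef
  have hFq : Coh.IsQCoh F := QCoh.isQCoh_pushforward f
    (QCoh.isQCoh_of_isFinLocFree (H23.PullPush.isFinLocFree_of_isInvertible hO))
  obtain ⟨B⟩ := PB.exists_of_isQCoh hFq
  have hU : (⨆ _ : PUnit.{u + 1}, (⊤ : Y.Opens)) = ⊤ := iSup_const
  have hloc : ∀ _ : PUnit.{u + 1},
      RelProj.IsRelVeryAmple (f ∣_ (⊤ : Y.Opens)) ((Coh.structureModule X).restrict (f ⁻¹ᵁ ⊤).ι) :=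
    fun _ => isRelVeryAmple_restrict hva ⊤
  obtain ⟨r₀, hr₀⟩ := exists_isMapOf B _ (gen_id_of_local hU hloc)
  haveI := isImmersion_of_local hU hloc B hr₀
  haveI : CompactSpace X := QuasiCompact.compactSpace_of_compactSpace f
  obtain ⟨N, hN, hgen, himm⟩ := exists_ft_sub B hFq (fun U hU => QCoh.extStep_qcqs hU.isCompact) hr₀
  have hNq := QCoh.isQCoh_of_ftOn hFq hN
  obtain ⟨BN⟩ := PB.exists_of_isQCoh hNq
  obtain ⟨rN, hrN⟩ := exists_isMapOf BN _ hgen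
  haveI := himm BN rN hrN
  let E : Y.Modules := N.toModules ⊞ Coh.structureModule Y
  have hYq : Coh.IsQCoh (Coh.structureModule Y) :=
    QCoh.isQCoh_of_isFinLocFree (H23.PullPush.isFinLocFree_of_isInvertible InvX.isInvertible_structureModule)
  have hEq : Coh.IsQCoh E := QCoh.isQCoh_X₂
    (ShortComplex.Splitting.ofHasBinaryBiproduct N.toModules (Coh.structureModule Y)).shortExact hNq hYq
  have hEft : CohB1.IsFT E := isFT_biprod hEq hNq hYq (QCoh.isFT_of_ftOn hFq hN)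
    (QCoh.isFT_of_isFP (QCoh.isFP_of_isFinLocFree
      (H23.PullPush.isFinLocFree_of_isInvertible InvX.isInvertible_structureModule)))
  let σ : Γ(F, ⊤) := (show Γ(Coh.structureModule X, f ⁻¹ᵁ ⊤) from (1 : Γ(X, f ⁻¹ᵁ ⊤)))
  let θ : E ⟶ F := biprod.desc (N.ι ≫ 𝟙 F) (QCoh.homOfTop σ)
  obtain ⟨BE⟩ := PB.exists_of_isQCoh hEq
  let e : Γ(E, ⊤) :=
    (biprod.inr : Coh.structureModule Y ⟶ E).app ⊤ (show Γ(Coh.structureModule Y, ⊤) from (1 : Γ(Y, ⊤)))
  have hθe : θ.app ⊤ e = σ := by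
    show (biprod.inr ≫ θ).app ⊤ _ = σ
    rw [biprod.inr_desc, QCoh.homOfTop_app, one_smul]
    exact AModX.res_self σ
  have hfr : ∀ (U : Y.Opens), InvX.IsFrame (thv (q := f) θ (le_refl (f ⁻¹ᵁ U)) (res E (le_top : U ≤ ⊤) e)) := by
    intro U
    show InvX.IsFrame (res (Coh.structureModule X) (le_refl (f ⁻¹ᵁ U)) (θ.app U (res E (le_top : U ≤ ⊤) e)))
    rw [AModX.app_res θ, hθe]
    have h1 := (InvX.isFrame_one (X := X) (f ⁻¹ᵁ U))
    convert h1 using 1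
    show (X.presheaf.map (homOfLE (le_refl (f ⁻¹ᵁ U))).op).hom
      ((X.presheaf.map (homOfLE (f.preimage_mono (le_top : U ≤ ⊤))).op).hom (1 : Γ(X, f ⁻¹ᵁ ⊤))) = (1 : Γ(X, f ⁻¹ᵁ U))
    rw [map_one, map_one]
  have hgenE : Gen (q := f) θ := fun x => by
    obtain ⟨U, hU, hxU, -⟩ := exists_isAffineOpen_mem_and_subset (x := f x) (U := ⊤) trivial
    exact ⟨U, hU, res E le_top e, f ⁻¹ᵁ U, le_rfl, hxU, hfr U⟩
  obtain ⟨r, hr⟩ := exists_isMapOf BE θ hgenE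
  haveI : IsImmersion r := by
    have hι : biprod.inl ≫ θ = N.ι ≫ 𝟙 F := biprod.inl_desc _ _
    exact isImmersion_of_sub (B := BE) (θ := θ) biprod.inl BN (rE := rN) (hι ▸ hrN) hr
  let X₀ : BE.P.Opens := ⨆ V : Y.affineOpens, BE.D V.2 (res E (le_top : V.1 ≤ ⊤) e)
  have hpre : ∀ (U : Y.Opens) (hU : IsAffineOpen U), X₀ ⊓ BE.p ⁻¹ᵁ U = BE.D hU (res E (le_top : U ≤ ⊤) e) := by
    intro U hU
    refine le_antisymm (fun x hx => ?_) (le_inf (le_iSup_of_le ⟨U, hU⟩ le_rfl) (BE.D_le hU _))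
    obtain ⟨V, hxV⟩ := Opens.mem_iSup.1 hx.1
    obtain ⟨W, hW, hxW, hWUV⟩ := exists_isAffineOpen_mem_and_subset
      (show BE.p x ∈ U ⊓ V.1 from ⟨hx.2, BE.D_le V.2 _ hxV⟩)
    have h1 := BE.le_D_res V.2 hW (fun y hy => (hWUV hy).2) _ ⟨hxV, hxW⟩
    have h2 : res E (fun y hy => (hWUV hy).1 : W ≤ U) (res E (le_top : U ≤ ⊤) e) =
        res E (fun y hy => (hWUV hy).2 : W ≤ V.1) (res E (le_top : V.1 ≤ ⊤) e) := by rw [res_res, res_res]
    rw [← h2] at h1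
    exact BE.D_res_le hU hW _ _ h1
  have haff : IsAffineHom (X₀.ι ≫ BE.p) := ⟨fun U hU => by
    rw [Scheme.Hom.comp_preimage]
    have h : X₀.ι ''ᵁ (X₀.ι ⁻¹ᵁ (BE.p ⁻¹ᵁ U)) = BE.D hU (res E (le_top : U ≤ ⊤) e) := by
      rw [Scheme.Hom.image_preimage_eq_opensRange_inf, Scheme.Opens.opensRange_ι, hpre U hU]
    rw [← X₀.ι.isAffineOpen_iff_of_isOpenImmersion, h]
    exact BE.isAffineOpen_D hU _⟩
  haveI := (BE.finiteType_p hEft).1
  have hle : r ⁻¹ᵁ X₀ = ⊤ := top_le_iff.1 fun x _ => by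
    obtain ⟨U, hU, hxU, -⟩ := exists_isAffineOpen_mem_and_subset (x := f x) (U := ⊤) trivial
    exact (le_iSup (fun V : Y.affineOpens => BE.D V.2 (res E (le_top : V.1 ≤ ⊤) e)) ⟨U, hU⟩)
      (hr.mem U hU _ (f ⁻¹ᵁ U) le_rfl (hfr U) hxU)
  let j := IsOpenImmersion.lift X₀.ι r (by
    rw [Scheme.Opens.range_ι]
    rintro _ ⟨x, rfl⟩
    exact hle.ge (Set.mem_univ x))
  have hj : j ≫ X₀.ι = r := IsOpenImmersion.lift_fac _ _ _
  haveI : IsImmersion (j ≫ X₀.ι) := hj ▸ inferInstance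
  exact ⟨X₀.toScheme, X₀.ι ≫ BE.p, j, haff, inferInstance, IsImmersion.of_comp j X₀.ι,
    by rw [← Category.assoc, hj, hr.comp]⟩

end Groth.Agent.RelVA16
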