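import Groth.Agent.RelVA16.ToPBIso
import Groth.Agent.RelVA16.TensorSect
import Groth.Agent.MorLib.Birat

/-! `P(E ⊗ L) ≅ P(E)` for an invertible module `L`. -/

set_option autoImplicit false
set_option backward.isDefEq.respectTransparency false
set_option backward.isDefEq.respectTransparency.types false

universe u

open CategoryTheory CategoryTheory.Limits AlgebraicGeometry TopologicalSpace Opposite

noncomputable section

namespace Groth.Agent.RelVA16

open Groth.Agent Groth.Agent.AModX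

theorem ringHom_ext_tensor {Y : Scheme.{u}} {F : Y.Modules} (B : PB Y F) {U : Y.Opens} (hU : IsAffineOpen U)
    (e : Γ(F, U)) {R : Type u} [CommRing R] {α β : Γ(B.P, B.D hU e) →+* R}
    (h₁ : ∀ r, α (B.base hU e r) = β (B.base hU e r))
    (h₂ : ∀ a, α (B.ratio hU a e) = β (B.ratio hU a e)) (c : Γ(B.P, B.D hU e)) : α c = β c :=
  RingHom.congr_fun (B.ringHom_ext hU e h₁ h₂) c

variable {Y : Scheme.{u}} {E L : Y.Modules} (B : PB Y E)

/-- `(e, l) ↦ e ⊗ l` into sections of `O(1) ⊗ p^* L`. -/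
def tensorBilin : H23.TensorDesc.Bilin E L
    ((Scheme.Modules.pushforward B.p).obj (CohB1.tensorMod B.O1 ((Scheme.Modules.pullback B.p).obj L))) where
  b U e l := InvX.tmul (B.fdv U e) (InvX.pullElt B.p l)
  add_left U m m' n := by rw [B.fdv_add]; exact tmul_add_left _ _ _
  smul_left U r m n := by rw [B.fdv_smul, InvX.tmul_smul_left]; rfl
  add_right U m n n' := by
    rw [show InvX.pullElt B.p (n + n') = InvX.pullElt B.p n + InvX.pullElt B.p n' from
      map_add (((Scheme.Modules.pullbackPushforwardAdjunction B.p).unit.app L).app U).hom n n']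
    exact tmul_add_right _ _ _
  smul_right U r m n := by rw [pullElt_smul, InvX.tmul_smul_right]; rfl
  res {U V} h m n := by
    show res (CohB1.tensorMod B.O1 ((Scheme.Modules.pullback B.p).obj L)) (B.p.preimage_mono h)
      (InvX.tmul (B.fdv U m) (InvX.pullElt B.p n)) = InvX.tmul (B.fdv V (res E h m)) (InvX.pullElt B.p (res L h n))
    rw [InvX.res_tmul, B.fdv_res, pullElt_res]

/-- The map defining `P(E) ⟶ P(E ⊗ L)`. -/
def tensorTheta : CohB1.tensorMod E L ⟶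
    (Scheme.Modules.pushforward B.p).obj (CohB1.tensorMod B.O1 ((Scheme.Modules.pullback B.p).obj L)) :=
  H23.TensorDesc.desc (tensorBilin B)

theorem thv_tensorTheta {U : Y.Opens} {W : B.P.Opens} (h : W ≤ B.p ⁻¹ᵁ U) (e : Γ(E, U)) (l : Γ(L, U)) :
    thv (tensorTheta B) h (InvX.tmul e l) = InvX.tmul (res B.O1 h (B.fdv U e)) (res _ h (InvX.pullElt B.p l)) := by
  rw [← InvX.res_tmul]
  exact congrArg (res _ h) (H23.TensorDesc.desc_tmul (tensorBilin B) U e l)

theorem isFrame_thv_tensor {U : Y.Opens} (hU : IsAffineOpen U) {W : B.P.Opens} (h : W ≤ B.p ⁻¹ᵁ U) (e : Γ(E, U))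
    {ℓ : Γ(L, U)} (hℓ : InvX.IsFrame ℓ) (hW : W ≤ B.D hU e) :
    InvX.IsFrame (thv (tensorTheta B) h (InvX.tmul e ℓ)) := by
  rw [thv_tensorTheta]
  refine InvX.isFrame_tmul ?_ ((InvX.isFrame_pullElt B.p hℓ).res h)
  have := (B.isFrame_fdv hU e).res hW
  rwa [res_res] at this

theorem coord_thv_tensor {U : Y.Opens} (hU : IsAffineOpen U) {W : B.P.Opens} (h : W ≤ B.p ⁻¹ᵁ U) (a e : Γ(E, U))
    (ℓ : Γ(L, U)) (hW : W ≤ B.D hU e) :
    thv (tensorTheta B) h (InvX.tmul a ℓ) =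
      resR hW (B.ratio hU a e) • thv (tensorTheta B) h (InvX.tmul e ℓ) := by
  rw [thv_tensorTheta, thv_tensorTheta, ← InvX.tmul_smul_left]
  congr 1
  have h1 := congrArg (res B.O1 hW) (B.ratio_spec hU a e)
  rw [res_res, res_smul, res_res] at h1
  exact h1

theorem exists_frame_affine (hL : PicF.IsInvertible L) (y : Y) :
    ∃ (U : Y.Opens) (_ : IsAffineOpen U) (ℓ : Γ(L, U)), y ∈ U ∧ InvX.IsFrame ℓ := by
  obtain ⟨V, hV, e, he⟩ := InvX.exists_frame hL y
  obtain ⟨U, hU, hxU, hle⟩ := exists_isAffineOpen_mem_and_subset (X := Y) (x := y) (U := V) hV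
  exact ⟨U, hU, res L hle e, hxU, he.res hle⟩

theorem gen_tensorTheta (hL : PicF.IsInvertible L) : Gen (tensorTheta (L := L) B) := fun x => by
  obtain ⟨U, hU, ℓ, hxU, hℓ⟩ := exists_frame_affine hL (B.p x)
  obtain ⟨e, he⟩ := B.exists_mem_D hU hxU
  exact ⟨U, hU, InvX.tmul e ℓ, B.D hU e, B.D_le hU e, he, isFrame_thv_tensor B hU _ e hℓ le_rfl⟩

theorem exists_iso_tensor (hL : PicF.IsInvertible L) (B' : PB Y (CohB1.tensorMod E L)) :
    ∃ i : B.P ≅ B'.P, i.hom ≫ B'.p = B.p ∧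
      Nonempty ((Scheme.Modules.pullback i.hom).obj B'.O1 ≅
        CohB1.tensorMod B.O1 ((Scheme.Modules.pullback B.p).obj L)) := by
  obtain ⟨i, hi⟩ := exists_isMapOf B' (tensorTheta B) (gen_tensorTheta B hL)
  obtain ⟨τ, -⟩ := hi.exists_iso
  suffices IsIso i from ⟨asIso i, hi.comp, ⟨τ⟩⟩
  let ι := Σ' (U : Y.affineOpens) (e : Γ(E, U.1)) (ℓ : Γ(L, U.1)), InvX.IsFrame ℓ
  let O : ι → B'.P.Opens := fun a => B'.D a.1.2 (InvX.tmul a.2.1 a.2.2.1)
  refine IsZariskiLocalAtTarget.of_iSup_eq_top (P := MorphismProperty.isomorphisms Scheme.{u}) O ?_ fun a => ?_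
  · refine eq_top_iff.2 fun y _ => ?_
    obtain ⟨U, hU, ℓ, hxU, hℓ⟩ := exists_frame_affine hL (B'.p y)
    obtain ⟨z, hz⟩ := B'.exists_mem_D hU hxU
    obtain ⟨e, rfl⟩ := exists_eq_tmul hℓ z
    exact Opens.mem_iSup.2 ⟨⟨⟨U, hU⟩, e, ℓ, hℓ⟩, hz⟩
  obtain ⟨⟨U, hU⟩, e, ℓ, hℓ⟩ := a
  show IsIso (i ∣_ B'.D hU (InvX.tmul e ℓ))
  let D := B.D hU e
  let D' := B'.D hU (InvX.tmul e ℓ)
  have hpre : i ⁻¹ᵁ D' = D := by
    refine le_antisymm (fun x hx => ?_) (hi.mem U hU _ D (B.D_le hU e) (isFrame_thv_tensor B hU _ e hℓ le_rfl))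
    have hxU : B.p x ∈ U := by
      rw [← hi.comp, Scheme.Hom.comp_apply]
      exact B'.D_le hU _ hx
    obtain ⟨e₀, he₀⟩ := B.exists_mem_D hU hxU
    let W := i ⁻¹ᵁ D' ⊓ B.D hU e₀
    have hWU : W ≤ B.p ⁻¹ᵁ U := inf_le_right.trans (B.D_le hU e₀)
    have hu := isUnit_coord (isFrame_thv_tensor B hU hWU e₀ hℓ inf_le_right)
      (hi.frame U hU (InvX.tmul e ℓ) W hWU inf_le_left) (coord_thv_tensor B hU hWU e e₀ ℓ inf_le_right)
    have h1 : x ∈ B.P.basicOpen (resR (inf_le_right : W ≤ B.D hU e₀) (B.ratio hU e e₀)) := by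
      rw [B.P.basicOpen_of_isUnit hu]; exact ⟨hx, he₀⟩
    rw [resR, Scheme.basicOpen_res] at h1
    have h2 := h1.2
    rw [B.basicOpen_ratio hU] at h2
    exact h2.2
  let β := (i.appLE D' D hpre.ge).hom
  have hβa : ∀ a, β (B'.ratio hU (InvX.tmul a ℓ) (InvX.tmul e ℓ)) = B.ratio hU a e := fun a => by
    have hf := isFrame_thv_tensor B hU (B.D_le hU e) e hℓ (le_refl D)
    refine hf.coord_unique le_rfl ?_
    rw [res_self, ← hi.coord U hU (InvX.tmul a ℓ) (InvX.tmul e ℓ) D (B.D_le hU e) hpre.ge,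
      coord_thv_tensor B hU (B.D_le hU e) a e ℓ le_rfl, resR_self]
  have hβb : ∀ r, β (B'.base hU (InvX.tmul e ℓ) r) = B.base hU e r := fun r => by
    show ((B'.p.appLE U D' _) ≫ i.appLE D' D _).hom r = (B.p.appLE U D _).hom r
    rw [Scheme.Hom.appLE_comp_appLE]
    have hc := hi.comp
    simp only [hc]
  obtain ⟨α, hαb, hαa⟩ := B.exists_ringHom hU e (B'.base hU (InvX.tmul e ℓ))
    (AddMonoidHom.mk' (fun a => B'.ratio hU (InvX.tmul a ℓ) (InvX.tmul e ℓ)) fun a a' => by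
      rw [tmul_add_left, B'.ratio_add])
    (fun r a => by
      show B'.ratio hU (InvX.tmul (r • a) ℓ) _ = _
      rw [InvX.tmul_smul_left, B'.ratio_smul]
      rfl)
    (B'.ratio_self hU _)
  have h₁ : ∀ c, β (α c) = c := ringHom_ext_tensor B hU e (α := β.comp α) (β := RingHom.id _)
    (fun r => by show β (α _) = _; rw [hαb, hβb]; rfl)
    (fun a => by show β (α _) = _; rw [hαa]; exact hβa a)
  have h₂ : ∀ c, α (β c) = c := ringHom_ext_tensor B' hU (InvX.tmul e ℓ) (α := α.comp β) (β := RingHom.id _)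
    (fun r => by show α (β _) = _; rw [hβb, hαb]; rfl)
    (fun z => by
      obtain ⟨a, rfl⟩ := exists_eq_tmul hℓ z
      show α (β _) = _
      rw [hβa, hαa]
      rfl)
  have : IsIso (i.appLE D' D hpre.ge) := by
    rw [ConcreteCategory.isIso_iff_bijective]
    exact ⟨fun x y h => by rw [← h₂ x, ← h₂ y]; exact congrArg α h, fun c => ⟨α c, h₁ c⟩⟩
  have this_app : IsIso (i.app D') := by
    rw [Scheme.Hom.app_eq_appLE]
    have he : i.appLE D' (i ⁻¹ᵁ D') le_rfl = i.appLE D' D hpre.ge ≫ B.P.presheaf.map (eqToHom hpre).op := by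
      rw [Scheme.Hom.appLE_map]
    rw [he]
    infer_instance
  have : IsAffine D'.toScheme := B'.isAffineOpen_D hU _
  have : IsAffine (i ⁻¹ᵁ D').toScheme := (hpre ▸ B.isAffineOpen_D hU e : IsAffineOpen (i ⁻¹ᵁ D'))
  have hV : ∀ V, V = D' → IsIso (i.app V) := fun V hV => hV ▸ this_app
  have : IsIso (i ∣_ D').appTop := by
    have := hV _ D'.ι_image_top
    rw [morphismRestrict_appTop]
    infer_instance
  exact MorLib.Birat.isIso_of_appTop _

end Groth.Agent.RelVA16
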