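import Groth.Agent.RelVA16.ToProjQ
import Groth.Agent.RelVA16.SymQ
import Groth.Agent.RelVA16.FTGen
import Groth.Agent.QCoh.Sections

/-! Maps `F ⟶ q_*L` and graded `q`-morphisms `Sym F ⟶ Sym L`. -/

set_option autoImplicit false
set_option backward.isDefEq.respectTransparency false
set_option backward.isDefEq.respectTransparency.types false

universe u

open CategoryTheory CategoryTheory.Limits AlgebraicGeometry TopologicalSpace Opposite
open scoped HomogeneousIdeal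

noncomputable section

namespace Groth.Agent.RelVA16

open Groth.Agent Groth.Agent.AModX Groth.Agent.SymAlgX

variable {X Y : Scheme.{u}} {q : X ⟶ Y} {L : X.Modules} (hL : PicF.IsInvertible L) (hLq : Coh.IsQCoh L)
  {𝒮L : RelProj.QCGrAlg X} {jL : L ⟶ 𝒮L.toModule} (hjL : RelProj.IsGrSymAlg L 𝒮L jL)

include hL in
theorem exists_affine_frame {x : X} {V : X.Opens} (hx : x ∈ V) :
    ∃ (D : X.Opens) (_ : IsAffineOpen D) (_ : x ∈ D) (_ : D ≤ V) (s : Γ(L, D)), InvX.IsFrame s := by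
  obtain ⟨W, hxW, s, hs⟩ := InvX.exists_frame hL x
  obtain ⟨D, hD, hxD, hle⟩ := exists_isAffineOpen_mem_and_subset (X := X) (x := x) (U := W ⊓ V) ⟨hxW, hx⟩
  exact ⟨D, hD, hxD, fun y hy => (hle hy).2, res L (fun y hy => (hle hy).1) s, hs.res _⟩

omit hLq in
theorem isFrame_bijective {V : X.Opens} {s : Γ(L, V)} (hs : InvX.IsFrame s) :
    Function.Bijective fun r : Γ(X, V) => r • s := by
  have := hs V le_rfl
  simp only [res_self] at this
  exact this

include hL hLq hjL in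
theorem mono_jL : Mono jL := by
  refine QCoh.mono_of_app_injective _ fun V => (injective_iff_map_eq_zero (jL.app V).hom).2 fun a ha => ?_
  refine AModX.eq_of_locally _ _ fun x hx => ?_
  obtain ⟨D, hD, hxD, hDV, s, hs⟩ := exists_affine_frame hL hx
  refine ⟨D, hDV, hxD, ?_⟩
  obtain ⟨c, hc⟩ := (isFrame_bijective hs).2 (res L hDV a)
  have h1 : jv 𝒮L.toQCAlg jL D (res L hDV a) = 0 := by
    have h2 := app_res jL hDV a
    rw [show (jL.app V) a = 0 from ha, map_zero] at h2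
    exact h2
  rw [← hc] at h1 ⊢
  rw [jv_smul] at h1
  have h3 : S12143.evT jL s (Polynomial.C c * Polynomial.X) = S12143.evT jL s 0 := by
    rw [map_zero, ← h1]
    show Polynomial.eval₂ _ _ (Polynomial.C c * Polynomial.X) = _
    rw [Polynomial.eval₂_mul, Polynomial.eval₂_C, Polynomial.eval₂_X]
  have h4 := congrArg (fun p => Polynomial.coeff p 1)
    ((S12143.evT_bijective hLq hjL.1 hD s (isFrame_bijective hs)).1 h3)
  simp only [Polynomial.coeff_C_mul, Polynomial.coeff_X_one, mul_one, Polynomial.coeff_zero] at h4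
  show c • s = res L hDV 0
  rw [h4, zero_smul, map_zero]

variable {F : Y.Modules} {𝒯 : RelProj.QCGrAlg Y} {jF : F ⟶ 𝒯.toModule}
  (h𝒯 : RelProj.IsGrSymAlg F 𝒯 jF) (u : RelProj.QGrHom q 𝒯 𝒮L)

/-- The composite `F ⟶ 𝒯 ⟶ q_* 𝒮L` as a map of modules. -/
def uLin (jF : F ⟶ 𝒯.toModule) : F ⟶ (Scheme.Modules.pushforward q).obj 𝒮L.toModule where
  val := PresheafOfModules.homMk
    { app := fun U => AddCommGrpCat.ofHom ((u.app U.unop).hom.toAddMonoidHom.comp (jF.app U.unop).hom :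
        Γ(F, U.unop) →+ Γ((Scheme.Modules.pushforward q).obj 𝒮L.toModule, U.unop))
      naturality := fun U V i => by
        ext x
        show (u.app V.unop).hom (jF.app V.unop (F.presheaf.map i x)) =
          (𝒮L.presheaf.map _).hom ((u.app U.unop).hom (jF.app U.unop x))
        rw [show jF.app V.unop (F.presheaf.map i x) = (𝒯.presheaf.map i).hom (jF.app U.unop x) from
          app_res jF (leOfHom i.unop) x]
        exact (ConcreteCategory.congr_hom (u.naturality (leOfHom i.unop)) _).symm }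
    fun U (r : Γ(Y, U.unop)) (x : Γ(F, U.unop)) => by
      show (u.app U.unop).hom (jF.app U.unop (r • x)) =
        (𝒮L.str.app (op (q ⁻¹ᵁ U.unop))).hom ((q.app U.unop).hom r) * (u.app U.unop).hom (jF.app U.unop x)
      rw [Scheme.Modules.Hom.app_smul]
      show (u.app U.unop).hom ((𝒯.str.app (op U.unop)).hom r *
        (show 𝒯.presheaf.obj (op U.unop) from jF.app U.unop x)) = _
      rw [map_mul]
      exact congrArg (· * _) (ConcreteCategory.congr_hom (u.str_app U.unop) r)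

include hL hLq hjL h𝒯 in
theorem exists_theta : ∃ θ : F ⟶ (Scheme.Modules.pushforward q).obj L,
    ∀ (U : Y.Opens) (x : Γ(F, U)), (u.app U).hom ((jF.app U) x) = (jL.app (q ⁻¹ᵁ U)) ((θ.app U) x) := by
  have := mono_jL hL hLq hjL
  let f := uLin u jF
  let π := cokernel.π jL
  have h0 : f ≫ (Scheme.Modules.pushforward q).map π = 0 := by
    refine Scheme.Modules.hom_ext _ _ fun U => ?_
    ext a
    show π.app (q ⁻¹ᵁ U) ((u.app U).hom (jF.app U a)) = (0 : Γ(cokernel jL, q ⁻¹ᵁ U))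
    refine AModX.eq_of_locally _ _ fun x hx => ?_
    obtain ⟨U', hU', hxU', hU'U⟩ := exists_isAffineOpen_mem_and_subset (X := Y) (x := q x) (U := U) hx
    replace hU'U : U' ≤ U := hU'U
    obtain ⟨D, hD, hxD, hDU, s, hs⟩ := exists_affine_frame hL (show x ∈ q ⁻¹ᵁ U' from hxU')
    refine ⟨D, hDU.trans (q.preimage_mono hU'U), hxD, ?_⟩
    rw [← app_res, map_zero]
    have hmem := u.map_mem U' hU' D hD hDU (h𝒯.2 U' hU' (res F hU'U a))
    obtain ⟨r, hr⟩ := S12143.mem_deg_eq hLq hjL hD s (isFrame_bijective hs) hmem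
    rw [pow_one, ← jv_smul] at hr
    have h2 : res 𝒮L.toModule (hDU.trans (q.preimage_mono hU'U)) ((u.app U).hom (jF.app U a)) =
        jL.app D (r • s) := by
      refine Eq.trans ?_ hr
      show (𝒮L.presheaf.map _).hom ((u.app U).hom (jF.app U a)) =
        (𝒮L.presheaf.map _).hom ((u.app U').hom (jF.app U' (res F hU'U a)))
      rw [show jF.app U' (res F hU'U a) = (𝒯.presheaf.map (homOfLE hU'U).op).hom (jF.app U a) from
        app_res jF hU'U a]
      show _ = ((𝒯.presheaf.map (homOfLE hU'U).op ≫ u.app U') ≫ 𝒮L.presheaf.map (homOfLE hDU).op).hom _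
      rw [← u.naturality hU'U, Category.assoc, ← Functor.map_comp]
      rfl
    rw [h2]
    show (jL ≫ π).app D (r • s) = 0
    rw [cokernel.condition]
    rfl
  let adj := Scheme.Modules.pullbackPushforwardAdjunction q
  have h1 : (adj.homEquiv F _).symm f ≫ π = 0 := by
    rw [← Adjunction.homEquiv_naturality_right_symm, h0, Adjunction.homEquiv_counit]
    simp
  refine ⟨adj.homEquiv F L (Abelian.monoLift jL _ h1), fun U x => ?_⟩
  have h2 : adj.homEquiv F L (Abelian.monoLift jL _ h1) ≫ (Scheme.Modules.pushforward q).map jL = f := by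
    rw [← Adjunction.homEquiv_naturality_right, Abelian.monoLift_comp, Equiv.apply_symm_apply]
  exact (congrArg (fun χ : F ⟶ (Scheme.Modules.pushforward q).obj 𝒮L.toModule => χ.app U x) h2).symm

variable {PL : Scheme.{u}} {pL : PL ⟶ X}
  {chartL : ∀ (V : X.Opens) (hV : IsAffineOpen V), (((pL ⁻¹ᵁ V : PL.Opens) : Scheme.{u}) ≅ Proj (𝒮L.deg V hV))}
  (hPL : RelProj.IsRelProj 𝒮L pL chartL) {u} {θ : F ⟶ (Scheme.Modules.pushforward q).obj L}
  (hu : ∀ (U : Y.Opens) (x : Γ(F, U)), (u.app U).hom ((jF.app U) x) = (jL.app (q ⁻¹ᵁ U)) ((θ.app U) x))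

include hu in
theorem appLE_jF {U : Y.Opens} {V : X.Opens} (h : V ≤ q ⁻¹ᵁ U) (e : Γ(F, U)) :
    (u.appLE U V h).hom ((jF.app U) e) = jv 𝒮L.toQCAlg jL V (thv θ h e) :=
  (congrArg (QCoh.rB 𝒮L.toQCAlg h) (hu U e)).trans (rB_jv 𝒮L.toQCAlg jL h _)

include hLq hjL hu in
/-- A generating map gives the span condition. -/
theorem span_of_gen (hgen : Gen θ) (x : X) :
    ∃ (U : Y.Opens) (_ : IsAffineOpen U) (e : Γ(F, U)) (V : X.Opens) (hV : IsAffineOpen V)
      (hVU : V ≤ q ⁻¹ᵁ U), x ∈ V ∧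
      ((𝒮L.deg V hV 1 : AddSubgroup (𝒮L.presheaf.obj (op V))) : Set (𝒮L.presheaf.obj (op V))) ⊆
        (Ideal.span {(u.appLE U V hVU).hom ((jF.app U) e)} : Set (𝒮L.presheaf.obj (op V))) := by
  obtain ⟨U, hU, e, W, h, hx, hf⟩ := hgen x
  obtain ⟨V, hV, hxV, hVW⟩ := exists_isAffineOpen_mem_and_subset (X := X) (x := x) (U := W) hx
  have hf' := hf.res (show V ≤ W from hVW)
  rw [thv_res] at hf'
  refine ⟨U, hU, e, V, hV, (show V ≤ W from hVW).trans h, hxV, ?_⟩
  rw [appLE_jF hu _ e]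
  exact span_frame hLq hjL hV hf'

include hL hLq hjL hPL hu in
/-- The span condition gives a generating map. -/
theorem gen_of_span
    (hsurj : ∀ x : X, ∃ (U : Y.Opens) (_ : IsAffineOpen U) (e : Γ(F, U)) (V : X.Opens) (hV : IsAffineOpen V)
      (hVU : V ≤ q ⁻¹ᵁ U), x ∈ V ∧
        ((𝒮L.deg V hV 1 : AddSubgroup (𝒮L.presheaf.obj (op V))) : Set (𝒮L.presheaf.obj (op V))) ⊆
          (Ideal.span {(u.appLE U V hVU).hom ((jF.app U) e)} : Set (𝒮L.presheaf.obj (op V)))) :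
    Gen θ := by
  intro x
  obtain ⟨U, hU, e, V, hV, hVU, hxV, hsub⟩ := hsurj x
  rw [appLE_jF hu hVU e] at hsub
  have := S12143.result L hL hLq 𝒮L jL hjL pL chartL hPL
  obtain ⟨y, rfl⟩ := pL.surjective x
  obtain ⟨z, hz⟩ := (ProjQX.mem_opensRange_emb (chart := chartL) hV).mpr hxV
  have hnz := ProjQX.notMem_of_span hLq hjL hV hsub z
  obtain ⟨D₀, hD₀, hy₀, hD₀V, s₀, hs₀⟩ := exists_affine_frame hL hxV
  obtain ⟨D, hD, hBV, hBD, -, hyD⟩ := ProjQX.exists_common (W := ⊤) hV hD₀ hxV hy₀ trivial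
  obtain ⟨w, hw⟩ := (ProjQX.mem_opensRange_emb (chart := chartL) hD).mpr hyD
  have ez : Proj.map (𝒮L.res hV hD hBV.le) (ProjQX.irr_res 𝒮L hV hD hBV) w = z :=
    (RelProj.emb pL chartL V hV).isOpenEmbedding.injective (by
      rw [← Scheme.Hom.comp_apply, ProjQX.map_emb hPL hV hD hBV, hw, hz])
  obtain ⟨c, hc⟩ := (hs₀.res hBD.le).exists_coord le_rfl (thv θ (hBV.le.trans hVU) e)
  rw [res_self] at hc
  have hcw : (𝒮L.str.app (op D)).hom c ∉ (w : ProjectiveSpectrum (𝒮L.deg D hD)).asHomogeneousIdeal := by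
    intro hh
    subst ez
    refine hnz ?_
    show 𝒮L.res hV hD hBV.le (jv 𝒮L.toQCAlg jL V (thv θ hVU e)) ∈ (w : ProjectiveSpectrum _).asHomogeneousIdeal.toIdeal
    rw [show 𝒮L.res hV hD hBV.le (jv 𝒮L.toQCAlg jL V (thv θ hVU e)) =
      jv 𝒮L.toQCAlg jL D (res L hBV.le (thv θ hVU e)) from rB_jv 𝒮L.toQCAlg jL hBV.le _, thv_res, hc, jv_smul]
    exact Ideal.mul_mem_right _ _ hh
  have hxc : pL y ∈ X.basicOpen c := by
    have := (ProjQX.emb_mem_basicOpen_iff hPL hD w c).mpr hcw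
    rwa [hw] at this
  have hle : X.basicOpen c ≤ q ⁻¹ᵁ U := (X.basicOpen_le c).trans (hBV.le.trans hVU)
  refine ⟨U, hU, e, X.basicOpen c, hle, hxc, ?_⟩
  have h1 := congrArg (res L (X.basicOpen_le c)) hc
  rw [res_smul, thv_res] at h1
  rw [h1]
  exact ((hs₀.res hBD.le).res _).isUnit_smul (isUnit_resR _ c le_rfl)

omit u θ hu in
include hjL in
/-- The graded `q`-morphism of a map of modules. -/
theorem exists_symQ (hF : Coh.IsQCoh F) (h𝒯 : RelProj.IsGrSymAlg F 𝒯 jF)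
    (θ : F ⟶ (Scheme.Modules.pushforward q).obj L) :
    ∃ u : RelProj.QGrHom q 𝒯 𝒮L,
      ∀ (U : Y.Opens) (x : Γ(F, U)), (u.app U).hom ((jF.app U) x) = (jL.app (q ⁻¹ᵁ U)) ((θ.app U) x) := by
  let t := θ ≫ (Scheme.Modules.pushforward q).map jL
  have hdeg : ∀ (U : Y.Opens) (_ : IsAffineOpen U) (U' : X.Opens) (hU' : IsAffineOpen U') (hle : U' ≤ q ⁻¹ᵁ U)
      (e : Γ(F, U)), (𝒮L.presheaf.map (homOfLE hle).op).hom (tv q t U e) ∈ 𝒮L.deg U' hU' 1 := by
    intro U _ U' hU' hle e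
    show QCoh.rB 𝒮L.toQCAlg hle (jv 𝒮L.toQCAlg jL _ (show Γ(L, q ⁻¹ᵁ U) from θ.app U e)) ∈ _
    rw [rB_jv]
    exact hjL.2 U' hU' _
  refine ⟨symQ q hF h𝒯 t hdeg, fun U x => ?_⟩
  let v := symQ q hF h𝒯 t hdeg
  show (v.app U).hom (jF.app U x) = (show Γ(𝒮L.toModule, q ⁻¹ᵁ U) from t.app U x)
  refine AModX.eq_of_locally (M := 𝒮L.toModule) _ _ fun y hy => ?_
  obtain ⟨U', hU', hyU', hU'U⟩ := exists_isAffineOpen_mem_and_subset (X := Y) (x := q y) (U := U) hy
  replace hU'U : U' ≤ U := hU'U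
  refine ⟨q ⁻¹ᵁ U', q.preimage_mono hU'U, hyU', ?_⟩
  refine (ConcreteCategory.congr_hom (v.naturality hU'U) (jF.app U x)).trans ?_
  refine Eq.trans ?_ (app_res t hU'U x)
  refine Eq.trans ?_ (symQ_jv q hF h𝒯 t hdeg hU' (res F hU'U x))
  show _ = (v.app U').hom (jF.app U' (res F hU'U x))
  rw [show jF.app U' (res F hU'U x) = (𝒯.presheaf.map (homOfLE hU'U).op).hom (jF.app U x) from
    app_res jF hU'U x]
  rfl

end Groth.Agent.RelVA16
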