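import Groth.Agent.RelVA16.Coord
import Groth.Agent.RelVA16.TwistMul

/-! The universal property of a projective bundle: morphisms and generating maps into invertible modules. -/

set_option autoImplicit false
set_option backward.isDefEq.respectTransparency false
set_option backward.isDefEq.respectTransparency.types false

universe u

open CategoryTheory CategoryTheory.Limits AlgebraicGeometry TopologicalSpace Opposite

noncomputable section

namespace Groth.Agent.RelVA16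

open Groth.Agent Groth.Agent.AModX

theorem hom_ext_opens {X Z : Scheme.{u}} {W : X.Opens} {m m' : W.toScheme ⟶ Z}
    (h : ∀ x ∈ W, ∃ (W' : X.Opens) (hW' : W' ≤ W), x ∈ W' ∧ X.homOfLE hW' ≫ m = X.homOfLE hW' ≫ m') : m = m' := by
  choose W' hW' hx he using h
  let 𝒱 : W.toScheme.OpenCover :=
    { I₀ := {x : X // x ∈ W}
      X := fun x => (W' x.1 x.2).toScheme
      f := fun x => X.homOfLE (hW' x.1 x.2)
      mem₀ := by
        rw [Scheme.ofArrows_mem_precoverage_iff]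
        refine ⟨fun x => ⟨⟨x.1, x.2⟩, ⟨x.1, hx x.1 x.2⟩, ?_⟩, fun _ => inferInstance⟩
        apply Subtype.ext
        simp }
  exact Scheme.Cover.hom_ext 𝒱 _ _ fun x => he x.1 x.2

theorem isFrame_of_locally {X : Scheme.{u}} {M : X.Modules} {W : X.Opens} {e : Γ(M, W)}
    (h : ∀ x ∈ W, ∃ (W' : X.Opens) (hW' : W' ≤ W), x ∈ W' ∧ InvX.IsFrame (res M hW' e)) : InvX.IsFrame e :=
  InvX.isFrame_of_germ fun x hx => by
    obtain ⟨W', hW', hxW', hf⟩ := h x hx
    have := hf.germ_bijective hxW'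
    rwa [InvX.germ_res'] at this

theorem isUnit_coord {X : Scheme.{u}} {M : X.Modules} {W : X.Opens} {e e' : Γ(M, W)} (he : InvX.IsFrame e)
    (he' : InvX.IsFrame e') {c : Γ(X, W)} (h : e' = c • e) : IsUnit c := by
  obtain ⟨d, hd⟩ := he'.exists_coord le_rfl e
  rw [res_self] at hd
  refine IsUnit.of_mul_eq_one _ (he'.coord_unique le_rfl (r := c * d) (r' := 1) ?_)
  rw [res_self, mul_smul, ← hd, ← h, one_smul]

variable {Y X : Scheme.{u}} {E : Y.Modules} (B : PB Y E) {q : X ⟶ Y} {L : X.Modules}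
  (θ : E ⟶ (Scheme.Modules.pushforward q).obj L)

/-- The value of `θ` on a smaller open. -/
def thv {U : Y.Opens} {W : X.Opens} (h : W ≤ q ⁻¹ᵁ U) (e : Γ(E, U)) : Γ(L, W) := res L h (θ.app U e)

theorem thv_res {U : Y.Opens} {W W' : X.Opens} (h : W ≤ q ⁻¹ᵁ U) (h' : W' ≤ W) (e : Γ(E, U)) :
    res L h' (thv θ h e) = thv θ (h'.trans h) e :=
  res_res _ _ _

theorem thv_resE {U V : Y.Opens} {W : X.Opens} (i : V ≤ U) (h : W ≤ q ⁻¹ᵁ V) (e : Γ(E, U)) :
    thv θ h (res E i e) = thv θ (h.trans (q.preimage_mono i)) e := by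
  rw [thv, thv, app_res θ i e]
  exact res_res _ _ _

theorem thv_add {U : Y.Opens} {W : X.Opens} (h : W ≤ q ⁻¹ᵁ U) (a b : Γ(E, U)) :
    thv θ h (a + b) = thv θ h a + thv θ h b :=
  (congrArg (res L h) (map_add (θ.app U).hom a b)).trans (map_add (res L h) _ _)

theorem thv_smul {U : Y.Opens} {W : X.Opens} (h : W ≤ q ⁻¹ᵁ U) (r : Γ(Y, U)) (a : Γ(E, U)) :
    thv θ h (r • a) = (q.appLE U W h).hom r • thv θ h a :=
  (congrArg (res L h) (Scheme.Modules.Hom.app_smul θ r a)).trans (res_smul h ((q.app U).hom r) _)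

/-- `θ` generates `L`. -/
def Gen : Prop :=
  ∀ x : X, ∃ (U : Y.Opens) (_ : IsAffineOpen U) (e : Γ(E, U)) (W : X.Opens) (h : W ≤ q ⁻¹ᵁ U),
    x ∈ W ∧ InvX.IsFrame (thv θ h e)

/-- `r` is the morphism attached to `θ`. -/
structure IsMapOf (r : X ⟶ B.P) : Prop where
  comp : r ≫ B.p = q
  mem : ∀ (U : Y.Opens) (hU : IsAffineOpen U) (e : Γ(E, U)) (W : X.Opens) (h : W ≤ q ⁻¹ᵁ U),
    InvX.IsFrame (thv θ h e) → W ≤ r ⁻¹ᵁ B.D hU e
  frame : ∀ (U : Y.Opens) (hU : IsAffineOpen U) (e : Γ(E, U)) (W : X.Opens) (h : W ≤ q ⁻¹ᵁ U),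
    W ≤ r ⁻¹ᵁ B.D hU e → InvX.IsFrame (thv θ h e)
  coord : ∀ (U : Y.Opens) (hU : IsAffineOpen U) (a e : Γ(E, U)) (W : X.Opens) (h : W ≤ q ⁻¹ᵁ U)
    (h' : W ≤ r ⁻¹ᵁ B.D hU e),
    thv θ h a = (r.appLE (B.D hU e) W h').hom (B.ratio hU a e) • thv θ h e

section chart

variable {U : Y.Opens} (hU : IsAffineOpen U) {e : Γ(E, U)} {W : X.Opens} {h : W ≤ q ⁻¹ᵁ U}
  (hf : InvX.IsFrame (thv θ h e))

/-- The coordinates with respect to a frame. -/
def cv (a : Γ(E, U)) : Γ(X, W) := Classical.choose (hf.exists_coord le_rfl (thv θ h a))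

theorem cv_spec (a : Γ(E, U)) : thv θ h a = cv θ hf a • thv θ h e := by
  have := Classical.choose_spec (hf.exists_coord le_rfl (thv θ h a))
  exact this.trans (congrArg (_ • ·) (res_self _))

theorem cv_unique {a : Γ(E, U)} {c : Γ(X, W)} (hc : thv θ h a = c • thv θ h e) : cv θ hf a = c :=
  hf.coord_unique le_rfl (by rw [res_self, ← cv_spec θ hf, hc])

theorem exists_rho : ∃ ρ : Γ(B.P, B.D hU e) →+* Γ(X, W),
    (∀ r, ρ (B.base hU e r) = (q.appLE U W h).hom r) ∧ ∀ a, ρ (B.ratio hU a e) = cv θ hf a :=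
  B.exists_ringHom hU e (q.appLE U W h).hom
    (AddMonoidHom.mk' (cv θ hf) fun a b => cv_unique θ hf (by rw [thv_add, add_smul, ← cv_spec, ← cv_spec]))
    (fun r a => cv_unique θ hf (by rw [thv_smul, mul_smul]; exact congrArg _ (cv_spec θ hf a)))
    (cv_unique θ hf (one_smul _ _).symm)

/-- The ring map of a chart. -/
def rho : Γ(B.P, B.D hU e) →+* Γ(X, W) := Classical.choose (exists_rho B θ hU hf)

theorem rho_base (r : Γ(Y, U)) : rho B θ hU hf (B.base hU e r) = (q.appLE U W h).hom r :=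
  (Classical.choose_spec (exists_rho B θ hU hf)).1 r

theorem rho_ratio (a : Γ(E, U)) : rho B θ hU hf (B.ratio hU a e) = cv θ hf a :=
  (Classical.choose_spec (exists_rho B θ hU hf)).2 a

theorem rho_eq {ρ : Γ(B.P, B.D hU e) →+* Γ(X, W)}
    (h₁ : ∀ r, ρ (B.base hU e r) = (q.appLE U W h).hom r)
    (h₂ : ∀ a, thv θ h a = ρ (B.ratio hU a e) • thv θ h e) : ρ = rho B θ hU hf :=
  B.ringHom_ext hU e (fun r => (h₁ r).trans (rho_base B θ hU hf r).symm)
    fun a => (cv_unique θ hf (h₂ a)).symm.trans (rho_ratio B θ hU hf a).symm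

/-- The morphism on a chart. -/
def chartMap : W.toScheme ⟶ B.P :=
  W.toSpecΓ ≫ Spec.map (CommRingCat.ofHom (rho B θ hU hf)) ≫ (B.isAffineOpen_D hU e).fromSpec

theorem chartMap_comp : chartMap B θ hU hf ≫ B.p = W.ι ≫ q := by
  rw [chartMap, Category.assoc, Category.assoc,
    ← IsAffineOpen.SpecMap_appLE_fromSpec B.p hU (B.isAffineOpen_D hU e) (B.D_le hU e), ← Spec.map_comp_assoc,
    ι_comp_eq q hU h]
  congr 3
  exact CommRingCat.hom_ext (RingHom.ext fun r => rho_base B θ hU hf r)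

theorem chartMap_res {V : Y.Opens} (hV : IsAffineOpen V) (i : V ≤ U) {W' : X.Opens} (j : W' ≤ W)
    (h' : W' ≤ q ⁻¹ᵁ V) (hf' : InvX.IsFrame (thv θ h' (res E i e))) :
    X.homOfLE j ≫ chartMap B θ hU hf = chartMap B θ hV hf' := by
  have key : ((X.presheaf.map (homOfLE j).op).hom.comp (rho B θ hU hf) : _ →+* _) =
      (rho B θ hV hf').comp (B.P.presheaf.map (homOfLE (B.D_res_le hU hV i e)).op).hom := by
    refine B.ringHom_ext hU e (fun r => ?_) fun a => ?_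
    · show (X.presheaf.map (homOfLE j).op).hom (rho B θ hU hf _) =
        rho B θ hV hf' (resR (B.D_res_le hU hV i e) (B.base hU e r))
      have hb : resR (B.D_res_le hU hV i e) (B.base hU e r) =
          B.base hV (res E i e) ((Y.presheaf.map (homOfLE i).op).hom r) := by
        show (B.P.presheaf.map _).hom ((B.p.appLE _ _ _).hom r) = (B.p.appLE _ _ _).hom ((Y.presheaf.map _).hom r)
        rw [← CommRingCat.comp_apply, ← CommRingCat.comp_apply, Scheme.Hom.appLE_map, Scheme.Hom.map_appLE]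
      rw [hb, rho_base, rho_base]
      rw [← CommRingCat.comp_apply, ← CommRingCat.comp_apply, Scheme.Hom.appLE_map, Scheme.Hom.map_appLE]
    · show resR j (rho B θ hU hf _) = rho B θ hV hf' (resR (B.D_res_le hU hV i e) (B.ratio hU a e))
      rw [rho_ratio, B.ratio_res hU hV i, rho_ratio]
      refine (cv_unique θ hf' ?_).symm
      rw [thv_resE, thv_resE]
      have := congrArg (res L j) (cv_spec θ hf a)
      rw [res_smul, thv_res, thv_res] at this
      exact this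
  rw [chartMap, chartMap, ← Scheme.Opens.toSpecΓ_SpecMap_presheaf_map_assoc W' W j, ← Spec.map_comp_assoc,
    show CommRingCat.ofHom (rho B θ hU hf) ≫ X.presheaf.map (homOfLE j).op =
      B.P.presheaf.map (homOfLE (B.D_res_le hU hV i e)).op ≫ CommRingCat.ofHom (rho B θ hV hf') from
      CommRingCat.hom_ext key,
    Spec.map_comp_assoc, IsAffineOpen.map_fromSpec]

theorem chartMap_change {e' : Γ(E, U)} (hf' : InvX.IsFrame (thv θ h e')) :
    chartMap B θ hU hf = chartMap B θ hU hf' := by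
  let c := B.ratio hU e' e
  let Db := B.P.basicOpen c
  have hc : IsUnit (rho B θ hU hf c) := by
    rw [rho_ratio]
    exact isUnit_coord hf hf' (cv_spec θ hf e')
  letI := (B.P.presheaf.map (homOfLE (B.P.basicOpen_le c)).op).hom.toAlgebra
  have : IsLocalization.Away c Γ(B.P, Db) := (B.isAffineOpen_D hU e).isLocalization_basicOpen c
  let σ : Γ(B.P, Db) →+* Γ(X, W) := IsLocalization.Away.lift c hc
  have hσ : σ.comp (B.P.presheaf.map (homOfLE (B.P.basicOpen_le c)).op).hom = rho B θ hU hf :=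
    IsLocalization.Away.lift_comp c hc
  have hle : Db ≤ B.D hU e' := (B.basicOpen_ratio hU e e').le.trans inf_le_right
  have hσ' : σ.comp (B.P.presheaf.map (homOfLE hle).op).hom = rho B θ hU hf' := by
    refine rho_eq B θ hU hf' (fun r => ?_) fun a => ?_
    · show σ ((B.P.presheaf.map (homOfLE hle).op).hom ((B.p.appLE _ _ _).hom r)) = _
      rw [← rho_base B θ hU hf r, ← hσ, ← CommRingCat.comp_apply, Scheme.Hom.appLE_map]
      show σ _ = σ ((B.P.presheaf.map _).hom ((B.p.appLE _ _ _).hom r))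
      rw [← CommRingCat.comp_apply (B.p.appLE _ _ _), Scheme.Hom.appLE_map]
    · have hm : resR hle (B.ratio hU a e') * resR (B.P.basicOpen_le c) c =
          resR (B.P.basicOpen_le c) (B.ratio hU a e) := by
        refine (B.ratio_unique hU (B.P.basicOpen_le c) ?_).symm
        have h1 := congrArg (res B.O1 hle) (B.ratio_spec hU a e')
        have h2 := congrArg (res B.O1 (B.P.basicOpen_le c)) (B.ratio_spec hU e' e)
        rw [res_res, res_smul, res_res] at h1 h2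
        rw [h1, h2, mul_smul]
      have h3 : σ (resR hle (B.ratio hU a e')) * rho B θ hU hf c = rho B θ hU hf (B.ratio hU a e) := by
        rw [← hσ, RingHom.comp_apply, RingHom.comp_apply, ← map_mul]
        exact congrArg σ hm
      show thv θ h a = σ (resR hle (B.ratio hU a e')) • thv θ h e'
      rw [cv_spec θ hf a, cv_spec θ hf e', ← mul_smul, ← rho_ratio B θ hU hf a, ← rho_ratio B θ hU hf e', h3]
  have h1 : CommRingCat.ofHom (rho B θ hU hf) =
      B.P.presheaf.map (homOfLE (B.P.basicOpen_le c)).op ≫ CommRingCat.ofHom σ := CommRingCat.hom_ext hσ.symm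
  have h2 : CommRingCat.ofHom (rho B θ hU hf') = B.P.presheaf.map (homOfLE hle).op ≫ CommRingCat.ofHom σ :=
    CommRingCat.hom_ext hσ'.symm
  rw [chartMap, chartMap, h1, h2, Spec.map_comp_assoc, Spec.map_comp_assoc,
    IsAffineOpen.map_fromSpec (B.isAffineOpen_D hU e) ((B.isAffineOpen_D hU e).basicOpen c),
    IsAffineOpen.map_fromSpec (B.isAffineOpen_D hU e') ((B.isAffineOpen_D hU e).basicOpen c)]

end chart

/-- Two charts agree on the overlap. -/
theorem chartMap_agree {U₁ U₂ : Y.Opens} (hU₁ : IsAffineOpen U₁) (hU₂ : IsAffineOpen U₂) {e₁ : Γ(E, U₁)}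
    {e₂ : Γ(E, U₂)} {W₁ W₂ : X.Opens} {h₁ : W₁ ≤ q ⁻¹ᵁ U₁} {h₂ : W₂ ≤ q ⁻¹ᵁ U₂}
    (hf₁ : InvX.IsFrame (thv θ h₁ e₁)) (hf₂ : InvX.IsFrame (thv θ h₂ e₂)) :
    X.homOfLE inf_le_left ≫ chartMap B θ hU₁ hf₁ =
      X.homOfLE (inf_le_right : W₁ ⊓ W₂ ≤ W₂) ≫ chartMap B θ hU₂ hf₂ := by
  refine hom_ext_opens fun x hx => ?_
  obtain ⟨D, hD, hb₁, hb₂, -, hxD⟩ := ProjQX.exists_common (W := ⊤) hU₁ hU₂ (x := q x) (h₁ hx.1) (h₂ hx.2) trivial
  let W' := (W₁ ⊓ W₂) ⊓ q ⁻¹ᵁ D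
  have hfr₁ : InvX.IsFrame (thv θ (inf_le_right : W' ≤ q ⁻¹ᵁ D) (res E hb₁.le e₁)) := by
    have := hf₁.res ((inf_le_left : W' ≤ W₁ ⊓ W₂).trans inf_le_left)
    rw [thv_res] at this
    rwa [thv_resE]
  have hfr₂ : InvX.IsFrame (thv θ (inf_le_right : W' ≤ q ⁻¹ᵁ D) (res E hb₂.le e₂)) := by
    have := hf₂.res ((inf_le_left : W' ≤ W₁ ⊓ W₂).trans inf_le_right)
    rw [thv_res] at this
    rwa [thv_resE]
  refine ⟨W', inf_le_left, ⟨hx, hxD⟩, ?_⟩
  rw [Scheme.homOfLE_homOfLE_assoc, Scheme.homOfLE_homOfLE_assoc,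
    chartMap_res B θ hU₁ hf₁ hD hb₁.le _ _ hfr₁, chartMap_res B θ hU₂ hf₂ hD hb₂.le _ _ hfr₂]
  exact chartMap_change B θ hD hfr₁ hfr₂

theorem exists_isMapOf (hgen : Gen θ) : ∃ r : X ⟶ B.P, IsMapOf B θ r := by
  let ι := Σ' (U : Y.affineOpens) (e : Γ(E, U.1)) (W : X.Opens) (h : W ≤ q ⁻¹ᵁ U.1), InvX.IsFrame (thv θ h e)
  let 𝒰 : X.OpenCover :=
    { I₀ := ι
      X := fun i => i.2.2.1.toScheme
      f := fun i => i.2.2.1.ι
      mem₀ := by
        rw [Scheme.ofArrows_mem_precoverage_iff]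
        refine ⟨fun x => ?_, fun _ => inferInstance⟩
        obtain ⟨U, hU, e, W, h, hx, hf⟩ := hgen x
        exact ⟨⟨⟨U, hU⟩, e, W, h, hf⟩, ⟨x, hx⟩, rfl⟩ }
  let m : ∀ i : ι, 𝒰.X i ⟶ B.P := fun i => chartMap B θ i.1.2 i.2.2.2.2
  have hm : ∀ i j : ι, pullback.fst (𝒰.f i) (𝒰.f j) ≫ m i = pullback.snd (𝒰.f i) (𝒰.f j) ≫ m j := fun i j => by
    refine (cancel_epi (isPullback_opens_inf i.2.2.1 j.2.2.1).isoPullback.hom).mp ?_
    rw [IsPullback.isoPullback_hom_fst_assoc, IsPullback.isoPullback_hom_snd_assoc]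
    exact chartMap_agree B θ i.1.2 j.1.2 i.2.2.2.2 j.2.2.2.2
  let r := 𝒰.glueMorphisms m hm
  have hr : ∀ {U : Y.Opens} (hU : IsAffineOpen U) {e : Γ(E, U)} {W : X.Opens} {h : W ≤ q ⁻¹ᵁ U}
      (hf : InvX.IsFrame (thv θ h e)), W.ι ≫ r = chartMap B θ hU hf := fun {U} hU {e W h} hf =>
    Scheme.Cover.ι_glueMorphisms 𝒰 m hm ⟨⟨U, hU⟩, e, W, h, hf⟩
  have hcomp : r ≫ B.p = q := by
    refine Scheme.Cover.hom_ext 𝒰 _ _ fun i => ?_
    rw [← Category.assoc, show 𝒰.f i ≫ r = m i from Scheme.Cover.ι_glueMorphisms 𝒰 m hm i]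
    exact chartMap_comp B θ i.1.2 i.2.2.2.2
  have hmem : ∀ (U : Y.Opens) (hU : IsAffineOpen U) (e : Γ(E, U)) (W : X.Opens) (h : W ≤ q ⁻¹ᵁ U),
      InvX.IsFrame (thv θ h e) → W ≤ r ⁻¹ᵁ B.D hU e := fun U hU e W h hf x hx => by
    have h1 : r x = chartMap B θ hU hf ⟨x, hx⟩ := by
      rw [← hr hU hf, Scheme.Hom.comp_apply]
      rfl
    show r x ∈ B.D hU e
    rw [h1, chartMap, Scheme.Hom.comp_apply, Scheme.Hom.comp_apply]
    exact (B.isAffineOpen_D hU e).opensRange_fromSpec.le ⟨_, rfl⟩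
  have happ : ∀ {U : Y.Opens} (hU : IsAffineOpen U) {e : Γ(E, U)} {W : X.Opens} {h : W ≤ q ⁻¹ᵁ U}
      (hf : InvX.IsFrame (thv θ h e)), (r.appLE (B.D hU e) W (hmem U hU e W h hf)).hom = rho B θ hU hf := by
    intro U hU e W h hf
    have h1 := (ι_comp_eq r (B.isAffineOpen_D hU e) (hmem U hU e W h hf)).symm.trans (hr hU hf)
    rw [chartMap, ← Category.assoc, ← Category.assoc, cancel_mono] at h1
    exact congrArg CommRingCat.Hom.hom (toSpecΓ_SpecMap_inj _ _ h1)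
  have hframe : ∀ (U : Y.Opens) (hU : IsAffineOpen U) (e : Γ(E, U)) (W : X.Opens) (h : W ≤ q ⁻¹ᵁ U),
      W ≤ r ⁻¹ᵁ B.D hU e → InvX.IsFrame (thv θ h e) := fun U hU e W h hW => by
    refine isFrame_of_locally fun x hx => ?_
    obtain ⟨U', hU', e', W', h', hx', hf'⟩ := hgen x
    obtain ⟨D, hD, hb, hb', -, hxD⟩ := ProjQX.exists_common (W := ⊤) hU hU' (x := q x) (h hx) (h' hx') trivial
    let e₁ := res E hb.le e
    let e₂ := res E hb'.le e'
    let W₂ := W' ⊓ q ⁻¹ᵁ D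
    have hf₂ : InvX.IsFrame (thv θ (inf_le_right : W₂ ≤ q ⁻¹ᵁ D) e₂) := by
      have := hf'.res (inf_le_left : W₂ ≤ W')
      rw [thv_res] at this
      rwa [thv_resE]
    have hxW₂ : x ∈ W₂ := ⟨hx', hxD⟩
    have hrx₂ : r x ∈ B.D hD e₂ := hmem D hD e₂ W₂ inf_le_right hf₂ hxW₂
    have hrx₁ : r x ∈ B.D hD e₁ := by
      have := mem_dO_basic B.hP hU hD hb (SymAlgX.jv B.𝒮.toQCAlg B.j U e) (hW hx)
        (show B.p (r x) ∈ D by rw [← Scheme.Hom.comp_apply, hcomp]; exact hxD)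
      rwa [show B.𝒮.res hU hD hb.le (SymAlgX.jv B.𝒮.toQCAlg B.j U e) = SymAlgX.jv B.𝒮.toQCAlg B.j D e₁ from
        SymAlgX.rB_jv B.𝒮.toQCAlg B.j hb.le e] at this
    let W₃ := (W ⊓ W₂) ⊓ r ⁻¹ᵁ B.P.basicOpen (B.ratio hD e₁ e₂)
    refine ⟨W₃, inf_le_left.trans inf_le_left, ⟨⟨hx, hxW₂⟩, ?_⟩, ?_⟩
    · show r x ∈ B.P.basicOpen _
      rw [B.basicOpen_ratio hD]
      exact ⟨hrx₂, hrx₁⟩
    have hu : IsUnit (resR (inf_le_left.trans inf_le_right : W₃ ≤ W₂) (cv θ hf₂ e₁)) := by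
      rw [← rho_ratio B θ hD hf₂, ← happ hD hf₂]
      refine isUnit_resR _ _ ?_
      rw [Scheme.basicOpen_appLE]
      exact le_inf (inf_le_left.trans inf_le_right) inf_le_right
    have h4 := congrArg (res L (inf_le_left.trans inf_le_right : W₃ ≤ W₂)) (cv_spec θ hf₂ e₁)
    rw [res_smul, thv_res, thv_res] at h4
    rw [thv_res, ← thv_resE θ hb.le ((inf_le_left.trans inf_le_right : W₃ ≤ W₂).trans inf_le_right), h4]
    refine InvX.IsFrame.isUnit_smul ?_ hu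
    have := hf₂.res (inf_le_left.trans inf_le_right : W₃ ≤ W₂)
    rwa [thv_res] at this
  refine ⟨r, hcomp, hmem, hframe, fun U hU a e W h hW => ?_⟩
  have hf := hframe U hU e W h hW
  rw [show (r.appLE (B.D hU e) W hW).hom = rho B θ hU hf from happ hU hf, rho_ratio]
  exact cv_spec θ hf a

theorem IsMapOf.gen {r : X ⟶ B.P} (hr : IsMapOf B θ r) : Gen θ := fun x => by
  obtain ⟨_, ⟨U, hU, rfl⟩, hxU, -⟩ := Y.isBasis_affineOpens.exists_subset_of_mem_open
    (Set.mem_univ (q x)) isOpen_univ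
  obtain ⟨e, he⟩ := B.exists_mem_D hU (x := r x) (by rw [← Scheme.Hom.comp_apply, hr.comp]; exact hxU)
  exact ⟨U, hU, e, r ⁻¹ᵁ B.D hU e ⊓ q ⁻¹ᵁ U, inf_le_right, ⟨he, hxU⟩, hr.frame U hU e _ _ inf_le_left⟩

theorem IsMapOf.eq_chartMap {r : X ⟶ B.P} (hr : IsMapOf B θ r) {U : Y.Opens} (hU : IsAffineOpen U) {e : Γ(E, U)}
    {W : X.Opens} {h : W ≤ q ⁻¹ᵁ U} (hf : InvX.IsFrame (thv θ h e)) : W.ι ≫ r = chartMap B θ hU hf := by
  have hW := hr.mem U hU e W h hf
  rw [ι_comp_eq r (B.isAffineOpen_D hU e) hW, chartMap]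
  congr 3
  refine CommRingCat.hom_ext (rho_eq B θ hU hf (fun c => ?_) fun a => hr.coord U hU a e W h hW)
  have hc := hr.comp
  subst hc
  rw [← CommRingCat.comp_apply, Scheme.Hom.appLE_comp_appLE]

theorem IsMapOf.unique {r r' : X ⟶ B.P} (hr : IsMapOf B θ r) (hr' : IsMapOf B θ r') : r = r' := by
  have h := hr.gen
  choose U hU e W hle hx hf using h
  let 𝒰 : X.OpenCover :=
    { I₀ := X
      X := fun x => (W x).toScheme
      f := fun x => (W x).ι
      mem₀ := by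
        rw [Scheme.ofArrows_mem_precoverage_iff]
        exact ⟨fun x => ⟨x, ⟨x, hx x⟩, rfl⟩, fun _ => inferInstance⟩ }
  refine Scheme.Cover.hom_ext 𝒰 _ _ fun x => ?_
  exact (hr.eq_chartMap (B := B) θ (hU x) (hf x)).trans (hr'.eq_chartMap (B := B) θ (hU x) (hf x)).symm

end Groth.Agent.RelVA16
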