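import Groth.Agent.RelVA16.TwistSect
import Groth.Agent.RelVA16.ToPB
import Groth.Agent.RelTildeX.Invertible
import Groth.Agent.InvX.GenLocus

/-! The frames `f^n` of the twists by `n d` on `D₊(f)`, `f` homogeneous of degree `d`, and their gluing. -/

set_option autoImplicit false
set_option backward.isDefEq.respectTransparency false
set_option backward.isDefEq.respectTransparency.types false

universe u

open CategoryTheory CategoryTheory.Limits AlgebraicGeometry TopologicalSpace Opposite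
open scoped HomogeneousIdeal

noncomputable section

namespace Groth.Agent.RelVA16

open Groth.Agent Groth.Agent.AModX

variable {A : Type u} [CommRing A] {𝒜 : ℕ → AddSubgroup A} [GradedRing 𝒜]

/-- The fraction `f^k` of degree `k d`. -/
def frD {d : ℕ} {f : A} (hf : f ∈ 𝒜 d) (k : ℤ) {m : ℤ} (hm : m = k * (d : ℤ)) (V : (Proj 𝒜).Opens)
    (hV : ∀ x ∈ V, f ∉ x.asHomogeneousIdeal) : GrTwistX.UnitFrac (𝒜 := 𝒜) m V where
  i := k.toNat * d
  j := (-k).toNat * d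
  num := f ^ k.toNat
  den := f ^ (-k).toNat
  num_mem := by simpa using SetLike.pow_mem_graded k.toNat hf
  den_mem := by simpa using SetLike.pow_mem_graded (-k).toNat hf
  deg := by
    subst hm
    push_cast
    rw [← add_mul]
    congr 1
    omega
  num_ne x := GrTwistX.notMem_pow (hV x.1 x.2) _
  den_ne x := GrTwistX.notMem_pow (hV x.1 x.2) _

variable {Y P : Scheme.{u}} {𝒮 : RelProj.QCGrAlg Y} {p : P ⟶ Y}
  {chart : ∀ (U : Y.Opens) (hU : IsAffineOpen U), (((p ⁻¹ᵁ U : P.Opens) : Scheme.{u}) ≅ Proj (𝒮.deg U hU))}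
  {m : ℤ} {L : P.Modules}
  {lam : ∀ (U : Y.Opens) (hU : IsAffineOpen U),
    L ⟶ (Scheme.Modules.pushforward (RelProj.emb p chart U hU)).obj (GrTwist.twist (𝒮.deg U hU) m)}
  (hL : RelProj.IsRelTwist 𝒮 p chart m L lam) {d : ℕ} {k : ℤ} (hm : m = k * (d : ℤ))

local notation "𝐞" => RelProj.emb p chart

/-- The frame `f^k` on `D₊(f)`. -/
def sectD {U : Y.Opens} (hU : IsAffineOpen U) {f : 𝒮.presheaf.obj (op U)} (hf : f ∈ 𝒮.deg U hU d) :
    Γ(L, dO p chart hU f) :=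
  (Equiv.ofBijective _ (hL.bijective U hU _ (dO_le hU f))).symm
    (show Γ(GrTwist.twist (𝒮.deg U hU) m, 𝐞 U hU ⁻¹ᵁ dO p chart hU f) from
      GrTwistX.fracSect (frD hf k hm _ (notMem_of_mem hU le_rfl)))

theorem val_sectD {U : Y.Opens} (hU : IsAffineOpen U) {f : 𝒮.presheaf.obj (op U)} (hf : f ∈ 𝒮.deg U hU d)
    {W : P.Opens} (hW : W ≤ dO p chart hU f) (y : ↥(𝐞 U hU ⁻¹ᵁ W)) :
    GrTwist.val (V := 𝐞 U hU ⁻¹ᵁ W) ((lam U hU).app W (res L hW (sectD hL hm hU hf))) y =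
      frVal f k y.1 (notMem_of_mem hU hW y.1 y.2) := by
  rw [app_res]
  have h : (lam U hU).app _ (sectD hL hm hU hf) =
      (show Γ(GrTwist.twist (𝒮.deg U hU) m, 𝐞 U hU ⁻¹ᵁ dO p chart hU f) from
        GrTwistX.fracSect (frD hf k hm _ (notMem_of_mem hU le_rfl))) :=
    (Equiv.ofBijective _ (hL.bijective U hU _ (dO_le hU f))).apply_symm_apply _
  rw [h]
  rfl

include hL in
theorem isFrame_sectD {U : Y.Opens} (hU : IsAffineOpen U) {f : 𝒮.presheaf.obj (op U)} (hf : f ∈ 𝒮.deg U hU d) :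
    InvX.IsFrame (sectD hL hm hU hf) := by
  intro V hV
  have hlam := hL.bijective U hU V (hV.trans (dO_le hU f))
  let φ := frD hf k hm (𝐞 U hU ⁻¹ᵁ V) (notMem_of_mem hU hV)
  have happ : Function.Bijective ((𝐞 U hU).app V) := by
    have := Scheme.Hom.isIso_app (𝐞 U hU) V ((hV.trans (dO_le hU f)).trans
      (RelTildeX.opensRange_emb p chart U hU).ge)
    exact ConcreteCategory.bijective_of_isIso _
  have key : (fun r : Γ(P, V) => (lam U hU).app V (r • res L hV (sectD hL hm hU hf))) =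
      fun r => GrTwistX.trivMap φ (((𝐞 U hU).app V).hom r) := by
    funext r
    refine Subtype.ext (funext fun y => Subtype.ext ?_)
    refine Eq.trans ?_ (GrTwistX.trivMap_apply φ _ y).symm
    show GrTwist.val (V := 𝐞 U hU ⁻¹ᵁ V) _ y = _
    rw [val_smul (lam := lam) hU, val_sectD hL hm hU hf hV y]
    rfl
  refine (Function.Bijective.of_comp_iff' hlam _).1 ?_
  show Function.Bijective (fun r => (lam U hU).app V (r • res L hV (sectD hL hm hU hf)))
  rw [key]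
  exact (GrTwistX.trivMap_bijective φ).comp happ

include hL in
theorem sectD_basic {U D : Y.Opens} (hP : RelProj.IsRelProj 𝒮 p chart) (hU : IsAffineOpen U)
    (hD : IsAffineOpen D) (h : RelTildeX.Exists.IsBasic U D) {f : 𝒮.presheaf.obj (op U)}
    (hf : f ∈ 𝒮.deg U hU d) {g : 𝒮.presheaf.obj (op D)} (hg : g ∈ 𝒮.deg D hD d) (e : 𝒮.res hU hD h.le f = g)
    {W : P.Opens} (hW : W ≤ dO p chart hU f) (hW' : W ≤ dO p chart hD g) :
    res L hW (sectD hL hm hU hf) = res L hW' (sectD hL hm hD hg) := by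
  obtain ⟨r, rfl⟩ := h
  subst e
  refine eq_of_val hL hD (hW'.trans (dO_le hD _)) _ _ fun y => ?_
  have hy' : (𝐞 U hU).base (ProjectiveSpectrum.comap
      (𝒮.res hU (hU.basicOpen r) (Y.basicOpen_le r)) (𝒮.irrelevant_le_map U hU r) y.1) ∈ W := by
    have := RelTildeX.Exists.emb_pt p chart hP hU (hU.basicOpen r) ⟨r, rfl⟩ y.1
    rw [RelTildeX.Exists.pt] at this
    exact this.symm ▸ y.2
  refine (hL.compat U hU r _ _ y.1 y.2 hy').trans ?_
  rw [val_sectD hL hm hU hf hW ⟨_, hy'⟩, val_sectD hL hm hD _ hW' y]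
  exact locMap_frVal _ _ k y.1 f _

theorem res_map_top {U D : Y.Opens} (hU : IsAffineOpen U) (hD : IsAffineOpen D) (h : D ≤ U)
    (f : 𝒮.presheaf.obj (op ⊤)) :
    𝒮.res hU hD h ((𝒮.presheaf.map (homOfLE le_top).op).hom f) = (𝒮.presheaf.map (homOfLE le_top).op).hom f := by
  show (𝒮.presheaf.map _ ≫ 𝒮.presheaf.map _).hom f = _
  rw [← 𝒮.presheaf.map_comp]
  rfl

theorem dO_eq {U : Y.Opens} (hU : IsAffineOpen U) (f : 𝒮.presheaf.obj (op U)) :
    dO p chart hU f = (p ⁻¹ᵁ U).ι ''ᵁ ((chart U hU).hom ⁻¹ᵁ Proj.basicOpen (𝒮.deg U hU) f) := by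
  ext y
  constructor
  · rintro ⟨z, hz, rfl⟩
    refine ⟨(chart U hU).inv z, ?_, rfl⟩
    show (chart U hU).hom ((chart U hU).inv z) ∈ Proj.basicOpen (𝒮.deg U hU) f
    rw [← Scheme.Hom.comp_apply, Iso.inv_hom_id]
    exact hz
  · rintro ⟨w, hw, rfl⟩
    refine ⟨(chart U hU).hom w, hw, ?_⟩
    show ((chart U hU).hom ≫ (chart U hU).inv ≫ (p ⁻¹ᵁ U).ι) w = _
    rw [Iso.hom_inv_id_assoc]
    rfl

include hL hm in
/-- The global frame `f^k` on `X_f`. -/
theorem exists_frame_Xf (hP : RelProj.IsRelProj 𝒮 p chart) (f : 𝒮.presheaf.obj (op ⊤))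
    (hf : ∀ (U : Y.Opens) (hU : IsAffineOpen U), (𝒮.presheaf.map (homOfLE le_top).op).hom f ∈ 𝒮.deg U hU d)
    (Xf : P.Opens)
    (hXf : ∀ (U : Y.Opens) (hU : IsAffineOpen U),
      Xf ⊓ p ⁻¹ᵁ U = (p ⁻¹ᵁ U).ι ''ᵁ ((chart U hU).hom ⁻¹ᵁ
        Proj.basicOpen (𝒮.deg U hU) ((𝒮.presheaf.map (homOfLE le_top).op).hom f))) :
    ∃ e : Γ(L, Xf), InvX.IsFrame e ∧ ∀ (U : Y.Opens) (hU : IsAffineOpen U)
      (h : dO p chart hU ((𝒮.presheaf.map (homOfLE le_top).op).hom f) ≤ Xf),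
      res L h e = sectD hL hm hU (hf U hU) := by
  have hD : ∀ (U : Y.Opens) (hU : IsAffineOpen U),
      dO p chart hU ((𝒮.presheaf.map (homOfLE le_top).op).hom f) = Xf ⊓ p ⁻¹ᵁ U := fun U hU => by
    rw [hXf U hU, dO_eq]
  obtain ⟨e, he, -⟩ := AModX.existsUnique_glue (M := L) (V := Xf)
    (fun U : Y.affineOpens => dO p chart U.2 ((𝒮.presheaf.map (homOfLE le_top).op).hom f))
    (fun U => (hD U.1 U.2).le.trans inf_le_left) (fun x hx => by
      obtain ⟨U, hU, hxU, -⟩ := exists_isAffineOpen_mem_and_subset (x := p x) (U := ⊤) trivial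
      exact ⟨⟨U, hU⟩, (hD U hU).ge ⟨hx, hxU⟩⟩)
    (fun U => sectD hL hm U.2 (hf U.1 U.2)) (fun U U' => by
      refine AModX.eq_of_locally _ _ fun x hx => ?_
      obtain ⟨D, hD', hb, hb', hxD⟩ := RelTildeX.Exists.exists_common U.2 U'.2
        (show p x ∈ U.1 ⊓ U'.1 from ⟨dO_le U.2 _ hx.1, dO_le U'.2 _ hx.2⟩)
      let W := dO p chart U.2 ((𝒮.presheaf.map (homOfLE le_top).op).hom f) ⊓
        dO p chart U'.2 ((𝒮.presheaf.map (homOfLE le_top).op).hom f) ⊓ p ⁻¹ᵁ D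
      have hWD : W ≤ dO p chart hD' ((𝒮.presheaf.map (homOfLE le_top).op).hom f) := by
        rw [hD D hD']
        exact fun y hy => ⟨((hD U.1 U.2).le hy.1.1).1, hy.2⟩
      refine ⟨W, inf_le_left, ⟨hx, hxD⟩, ?_⟩
      rw [res_res, res_res,
        sectD_basic hL hm hP U.2 hD' hb (hf U.1 U.2) (hf D hD') (res_map_top U.2 hD' hb.le f) _ hWD,
        sectD_basic hL hm hP U'.2 hD' hb' (hf U'.1 U'.2) (hf D hD') (res_map_top U'.2 hD' hb'.le f) _ hWD])
  refine ⟨e, isFrame_of_locally fun x hx => ?_, fun U hU h => he ⟨U, hU⟩⟩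
  obtain ⟨U, hU, hxU, -⟩ := exists_isAffineOpen_mem_and_subset (x := p x) (U := ⊤) trivial
  exact ⟨_, (hD U hU).le.trans inf_le_left, (hD U hU).ge ⟨hx, hxU⟩, by
    rw [he ⟨U, hU⟩]; exact isFrame_sectD hL hm hU (hf U hU)⟩

end Groth.Agent.RelVA16
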