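import Groth.Agent.RelVA16.TwistFrameD
import Groth.Agent.Proj16.Map
import Groth.Agent.H23.PicMul

/-! Twists by opposite multiples of a period are inverse on a quasi-compact open. -/

set_option autoImplicit false
set_option backward.isDefEq.respectTransparency false
set_option backward.isDefEq.respectTransparency.types false

universe u

open CategoryTheory CategoryTheory.Limits AlgebraicGeometry TopologicalSpace Opposite
open scoped HomogeneousIdeal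

noncomputable section

namespace Groth.Agent.RelVA16

open Groth.Agent Groth.Agent.AModX Groth.Agent.H23.PicMul

theorem frVal_mul_neg {A : Type u} [CommRing A] {𝒜 : ℕ → AddSubgroup A} [GradedRing 𝒜] (f : A) (k : ℤ)
    (x : ProjectiveSpectrum 𝒜) (hf : f ∉ x.asHomogeneousIdeal) : frVal f k x hf * frVal f (-k) x hf = 1 := by
  rw [frVal, frVal, Localization.mk_mul, ← Localization.mk_one, Localization.mk_eq_mk_iff,
    Localization.r_iff_exists]
  refine ⟨1, ?_⟩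
  simp only [Submonoid.coe_mul, OneMemClass.coe_one, one_mul, mul_one, neg_neg]
  exact mul_comm _ _

variable {Y P : Scheme.{u}} {𝒮 : RelProj.QCGrAlg Y} {p : P ⟶ Y}
  {chart : ∀ (U : Y.Opens) (hU : IsAffineOpen U), (((p ⁻¹ᵁ U : P.Opens) : Scheme.{u}) ≅ Proj (𝒮.deg U hU))}
  {m m' : ℤ} {L L' : P.Modules}
  {lam : ∀ (U : Y.Opens) (hU : IsAffineOpen U),
    L ⟶ (Scheme.Modules.pushforward (RelProj.emb p chart U hU)).obj (GrTwist.twist (𝒮.deg U hU) m)}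
  {lam' : ∀ (U : Y.Opens) (hU : IsAffineOpen U),
    L' ⟶ (Scheme.Modules.pushforward (RelProj.emb p chart U hU)).obj (GrTwist.twist (𝒮.deg U hU) m')}
  (hL : RelProj.IsRelTwist 𝒮 p chart m L lam) (hL' : RelProj.IsRelTwist 𝒮 p chart m' L' lam')
  {d : ℕ} {k : ℤ} (hm : m = k * (d : ℤ)) (hm' : m' = -k * (d : ℤ))

local notation "𝐞" => RelProj.emb p chart

/-- The frame `f^k ⊗ f^(-k)`. -/
def pairSect {U : Y.Opens} (hU : IsAffineOpen U) {f : 𝒮.presheaf.obj (op U)} (hf : f ∈ 𝒮.deg U hU d) :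
    Γ(CohB1.tensorMod L L', dO p chart hU f) :=
  InvX.tmul (sectD hL hm hU hf) (sectD hL' hm' hU hf)

include hL hL' in
theorem pairSect_eq {U : Y.Opens} (hU : IsAffineOpen U) {f g : 𝒮.presheaf.obj (op U)}
    (hf : f ∈ 𝒮.deg U hU d) (hg : g ∈ 𝒮.deg U hU d) {W : P.Opens} (hWf : W ≤ dO p chart hU f)
    (hWg : W ≤ dO p chart hU g) :
    res (CohB1.tensorMod L L') hWf (pairSect hL hL' hm hm' hU hf) =
      res (CohB1.tensorMod L L') hWg (pairSect hL hL' hm hm' hU hg) := by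
  obtain ⟨c, hc⟩ := (isFrame_sectD hL hm hU hf).exists_coord hWf (res L hWg (sectD hL hm hU hg))
  obtain ⟨c', hc'⟩ := (isFrame_sectD hL' hm' hU hf).exists_coord hWf (res L' hWg (sectD hL' hm' hU hg))
  have happ : Function.Bijective ((𝐞 U hU).app W) := by
    have := Scheme.Hom.isIso_app (𝐞 U hU) W ((hWf.trans (dO_le hU f)).trans
      (RelTildeX.opensRange_emb p chart U hU).ge)
    exact ConcreteCategory.bijective_of_isIso _
  have h1 : c * c' = 1 := by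
    refine happ.1 (Subtype.ext (funext fun y => ?_))
    apply HomogeneousLocalization.val_injective
    have e1 := val_sectD hL hm hU hg hWg y
    have e2 := val_sectD hL' hm' hU hg hWg y
    rw [hc, val_smul (lam := lam) hU, val_sectD hL hm hU hf hWf y] at e1
    rw [hc', val_smul (lam := lam') hU, val_sectD hL' hm' hU hf hWf y] at e2
    have e3 := congr_arg₂ (· * ·) e1 e2
    simp only at e3
    rw [mul_mul_mul_comm, frVal_mul_neg, frVal_mul_neg, mul_one] at e3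
    rw [show ((𝐞 U hU).app W (1 : Γ(P, W))) = 1 from map_one _, map_mul]
    show ((((𝐞 U hU).app W).hom c).1 y * (((𝐞 U hU).app W).hom c').1 y).val =
      (1 : HomogeneousLocalization.AtPrime (𝒮.deg U hU) y.1.asHomogeneousIdeal.toIdeal).val
    rw [HomogeneousLocalization.val_mul, HomogeneousLocalization.val_one]
    exact e3
  rw [pairSect, pairSect, InvX.res_tmul, InvX.res_tmul, hc, hc', InvX.tmul_smul_left, InvX.tmul_smul_right,
    ← mul_smul, h1, one_smul]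

include hL hL' in
theorem pairSect_basic (hP : RelProj.IsRelProj 𝒮 p chart) {U D : Y.Opens} (hU : IsAffineOpen U)
    (hD : IsAffineOpen D) (h : RelTildeX.Exists.IsBasic U D) {f : 𝒮.presheaf.obj (op U)}
    (hf : f ∈ 𝒮.deg U hU d) {W : P.Opens} (hW : W ≤ dO p chart hU f)
    (hW' : W ≤ dO p chart hD (𝒮.res hU hD h.le f)) :
    res (CohB1.tensorMod L L') hW (pairSect hL hL' hm hm' hU hf) =
      res (CohB1.tensorMod L L') hW' (pairSect hL hL' hm hm' hD (𝒮.map_mem hU hD h.le hf)) := by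
  rw [pairSect, pairSect, InvX.res_tmul, InvX.res_tmul,
    sectD_basic hL hm hP hU hD h hf (𝒮.map_mem hU hD h.le hf) rfl hW hW',
    sectD_basic hL' hm' hP hU hD h hf (𝒮.map_mem hU hD h.le hf) rfl hW hW']
  rfl

theorem mem_dO_res (hP : RelProj.IsRelProj 𝒮 p chart) {U D : Y.Opens} (hU : IsAffineOpen U)
    (hD : IsAffineOpen D) (h : RelTildeX.Exists.IsBasic U D) (f : 𝒮.presheaf.obj (op U)) :
    dO p chart hU f ⊓ p ⁻¹ᵁ D ≤ dO p chart hD (𝒮.res hU hD h.le f) := by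
  rintro x ⟨⟨z, hz, rfl⟩, hxD⟩
  obtain ⟨w, hw⟩ := RelTildeX.Exists.exists_pt p chart hP hU hD h z hxD
  subst hw
  suffices 𝐞 D hD w ∈ dO p chart hD (𝒮.res hU hD h.le f) from (RelTildeX.Exists.emb_pt p chart hP hU hD h w).symm ▸ this
  exact emb_mem_dO hD hz

theorem exists_period {X : Scheme.{u}} {q : X ⟶ Y}
    {ch : ∀ (U : Y.Opens) (hU : IsAffineOpen U), (((q ⁻¹ᵁ U : X.Opens) : Scheme.{u}) ≅ Proj (𝒮.deg U hU))}
    (hX : RelProj.IsRelProj 𝒮 q ch) (U : X.Opens) (hU : IsCompact (U : Set X)) :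
    ∃ d : ℕ, 0 < d ∧ ∀ x ∈ U, ∃ (V : Y.Opens) (hV : IsAffineOpen V) (f : 𝒮.presheaf.obj (op V)),
      f ∈ 𝒮.deg V hV d ∧ x ∈ dO q ch hV f := by
  classical
  have hloc : ∀ x : X, ∃ (V : Y.Opens) (hV : IsAffineOpen V) (e : ℕ) (f : 𝒮.presheaf.obj (op V)),
      0 < e ∧ f ∈ 𝒮.deg V hV e ∧ x ∈ dO q ch hV f := fun x => by
    obtain ⟨V, hV, hxV, -⟩ := exists_isAffineOpen_mem_and_subset (x := q x) (U := ⊤) trivial
    obtain ⟨z, rfl⟩ : x ∈ (RelProj.emb q ch V hV).opensRange := by rw [RelTildeX.opensRange_emb]; exact hxV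
    obtain ⟨e, f, he, hf, hzf, -⟩ := Proj16.exists_basicOpen_subset (𝒜 := 𝒮.deg V hV) isOpen_univ (Set.mem_univ z)
    exact ⟨V, hV, e, f, he, hf, emb_mem_dO hV hzf⟩
  choose V hV e f he hf hx using hloc
  obtain ⟨t, ht⟩ := hU.elim_finite_subcover (fun x : X => (dO q ch (hV x) (f x) : Set X))
    (fun x => (dO q ch (hV x) (f x)).2) fun x _ => Set.mem_iUnion.2 ⟨x, hx x⟩
  refine ⟨∏ x ∈ t, e x, Finset.prod_pos fun x _ => he x, fun y hy => ?_⟩
  obtain ⟨x, hxt, hxy⟩ := Set.mem_iUnion₂.1 (ht hy)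
  obtain ⟨c, hc⟩ : e x ∣ ∏ x ∈ t, e x := Finset.dvd_prod_of_mem _ hxt
  refine ⟨V x, hV x, f x ^ c, ?_, ?_⟩
  · rw [hc, mul_comm]
    exact SetLike.pow_mem_graded c (hf x)
  · obtain ⟨z, hz, rfl⟩ := hxy
    exact emb_mem_dO (hV x) (GrTwistX.notMem_pow hz c)

include hL hL' hm hm' in
theorem nonempty_tensor_iso (hP : RelProj.IsRelProj 𝒮 p chart) (Uo : P.Opens)
    (hcov : ∀ x ∈ Uo, ∃ (V : Y.Opens) (hV : IsAffineOpen V) (f : 𝒮.presheaf.obj (op V)),
      f ∈ 𝒮.deg V hV d ∧ x ∈ dO p chart hV f) :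
    Nonempty (CohB1.tensorMod (L.restrict Uo.ι) (L'.restrict Uo.ι) ≅ Coh.structureModule (Uo : Scheme.{u})) := by
  let I := Σ' (V : Y.affineOpens) (f : 𝒮.presheaf.obj (op V.1)), f ∈ 𝒮.deg V.1 V.2 d
  obtain ⟨e, he, -⟩ := AModX.existsUnique_glue (M := CohB1.tensorMod L L') (V := Uo)
    (fun i : I => dO p chart i.1.2 i.2.1 ⊓ Uo) (fun i => inf_le_right)
    (fun x hx => by
      obtain ⟨V, hV, f, hf, hxf⟩ := hcov x hx
      exact ⟨⟨⟨V, hV⟩, f, hf⟩, hxf, hx⟩)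
    (fun i => res (CohB1.tensorMod L L') inf_le_left (pairSect hL hL' hm hm' i.1.2 i.2.2)) (fun i j => by
      refine AModX.eq_of_locally _ _ fun x hx => ?_
      obtain ⟨D, hD, hb, hb', hxD⟩ := RelTildeX.Exists.exists_common i.1.2 j.1.2
        (show p x ∈ i.1.1 ⊓ j.1.1 from ⟨dO_le i.1.2 _ hx.1.1, dO_le j.1.2 _ hx.2.1⟩)
      let W := (dO p chart i.1.2 i.2.1 ⊓ Uo) ⊓ (dO p chart j.1.2 j.2.1 ⊓ Uo) ⊓ p ⁻¹ᵁ D
      have hWi : W ≤ dO p chart hD (𝒮.res i.1.2 hD hb.le i.2.1) :=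
        fun y hy => mem_dO_res hP i.1.2 hD hb _ ⟨hy.1.1.1, hy.2⟩
      have hWj : W ≤ dO p chart hD (𝒮.res j.1.2 hD hb'.le j.2.1) :=
        fun y hy => mem_dO_res hP j.1.2 hD hb' _ ⟨hy.1.2.1, hy.2⟩
      refine ⟨W, inf_le_left, ⟨hx, hxD⟩, ?_⟩
      rw [res_res, res_res, res_res, res_res, pairSect_basic hL hL' hm hm' hP i.1.2 hD hb i.2.2 _ hWi,
        pairSect_basic hL hL' hm hm' hP j.1.2 hD hb' j.2.2 _ hWj]
      exact pairSect_eq hL hL' hm hm' hD _ _ hWi hWj)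
  have hfr : InvX.IsFrame e := isFrame_of_locally fun x hx => by
    obtain ⟨V, hV, f, hf, hxf⟩ := hcov x hx
    refine ⟨dO p chart hV f ⊓ Uo, inf_le_right, ⟨hxf, hx⟩, ?_⟩
    rw [he ⟨⟨V, hV⟩, f, hf⟩]
    exact (InvX.isFrame_tmul (isFrame_sectD hL hm hV hf) (isFrame_sectD hL' hm' hV hf)).res _
  obtain ⟨φ⟩ := InvX.nonempty_iso_of_isFrame hfr
  obtain ⟨ψ⟩ := H23.PicMul.pull Uo.ι L L'
  let R := Scheme.Modules.restrictFunctorIsoPullback Uo.ι
  refine H23.PicMul.cl_eq_iff.1 ?_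
  rw [cl_tensor, cl_eq_iff.2 ⟨R.app L⟩, cl_eq_iff.2 ⟨R.app L'⟩, ← cl_tensor, ← cl_eq_iff.2 ⟨ψ⟩,
    ← cl_eq_iff.2 ⟨R.app (CohB1.tensorMod L L')⟩]
  exact cl_eq_iff.2 ⟨φ⟩

end Groth.Agent.RelVA16
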